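import Cfsg.Agent.SelfCentSix.Local
import Cfsg.Agent.Small.Order168

/-!
Two-local overgroups of the centraliser when it is an extension by a cyclic group of order three or by `Sym₃`.
-/

set_option autoImplicit false
set_option linter.unusedSectionVars false
set_option linter.style.haveILetI false

namespace Cfsg.Lib.SelfCentSix

open Subgroup
open scoped Pointwise

universe u

variable {G : Type u} [Group G] [Finite G] {t : G}

theorem Fib.le_sylow {Q : Subgroup G} (g : Fib t Q) (S : Sylow 2 G) (hS : (S : Subgroup G) ≤ cz t) :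
    Q ≤ (S : Subgroup G) :=
  SelfCentSix.le_sylow S g.two (hS.trans g.norm)

theorem factorization_eq {P L : Subgroup G} (hP : IsPGroup 2 P) (hle : P ≤ L) (hodd : ¬ 2 ∣ P.relIndex L) :
    (Nat.card L).factorization 2 = (Nat.card P).factorization 2 := by
  rw [← relIndex_bot_left, ← relIndex_mul_relIndex ⊥ P L bot_le hle, relIndex_bot_left]
  have : P.relIndex L ≠ 0 := fun e => hodd (e ▸ dvd_zero 2)
  rw [Nat.factorization_mul Nat.card_pos.ne' this, Finsupp.add_apply,
    Nat.factorization_eq_zero_of_not_dvd hodd, add_zero]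

theorem card_eq_pow {P : Subgroup G} (hP : IsPGroup 2 P) :
    Nat.card P = 2 ^ (Nat.card P).factorization 2 := by
  have : Fact (Nat.Prime 2) := ⟨Nat.prime_two⟩
  obtain ⟨n, hn⟩ := hP.exists_card_eq
  rw [hn, Nat.Prime.factorization_pow Nat.prime_two, Finsupp.single_eq_same]

theorem Fib.card_cz {Q : Subgroup G} (g : Fib t Q) : Nat.card (cz t) = Nat.card Q * Q.relIndex (cz t) := by
  rw [← relIndex_bot_left, ← relIndex_mul_relIndex ⊥ Q _ bot_le g.le, relIndex_bot_left]

/-- The order of a Sylow subgroup of the centraliser. -/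
theorem Fib.sylow_card {Q : Subgroup G} (g : Fib t Q) (S : Sylow 2 G) (hS : (S : Subgroup G) ≤ cz t)
    {a b : ℕ} (hi : Q.relIndex (cz t) = 2 ^ a * b) (hb : ¬ 2 ∣ b) :
    Nat.card (S : Subgroup G) = Nat.card Q * 2 ^ a := by
  have h1 := factorization_eq S.2 hS (odd_relIndex S hS)
  have hb0 : b ≠ 0 := fun e => hb (by rw [e]; exact dvd_zero 2)
  rw [g.card_cz, hi, Nat.factorization_mul Nat.card_pos.ne' (mul_ne_zero (by positivity) hb0), Finsupp.add_apply,
    Nat.factorization_mul (by positivity) hb0, Finsupp.add_apply, Nat.Prime.factorization_pow Nat.prime_two,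
    Finsupp.single_eq_same, Nat.factorization_eq_zero_of_not_dvd hb, add_zero] at h1
  rw [card_eq_pow S.2, ← h1, pow_add, ← card_eq_pow g.two]

theorem ne_of_card {A B : Subgroup G} (h : Nat.card A ≠ Nat.card B) : A ≠ B := fun e => h (e ▸ rfl)

namespace Hyp

variable (h : Hyp t) {Q : Subgroup G}
include h

/-- A normal two-subgroup of the centraliser lies in `Q`. -/
theorem le_Q (g : Fib t Q) (h36 : Q.relIndex (cz t) = 3 ∨ Q.relIndex (cz t) = 6) {N : Subgroup G}
    (hN : IsPGroup 2 N) (hNC : N ≤ cz t) (hn : cz t ≤ normalizer (N : Set G)) : N ≤ Q := by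
  set M := N ⊔ Q with hM
  have hMC : M ≤ cz t := sup_le hNC g.le
  have hMn : cz t ≤ normalizer (M : Set G) := by
    intro a ha
    have : Fintype M := Fintype.ofFinite _
    refine mem_normalizer_fintype (S := (M : Set G)) ?_
    intro m hm
    have h1 : M ≤ M.comap (MulAut.conj a).toMonoidHom :=
      sup_le (fun x hx => mem_sup_left (conj_mem (hn ha) hx)) fun x hx => mem_sup_right (conj_mem (g.norm ha) hx)
    exact h1 hm
  have hM2 : IsPGroup 2 M := hN.to_sup_of_normal_left' g.two (g.le.trans hn)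
  have hmul := relIndex_mul_relIndex Q M (cz t) le_sup_right hMC
  obtain ⟨j, hj⟩ : ∃ j, Q.relIndex M = 2 ^ j := by
    obtain ⟨n, hn'⟩ := hM2.exists_card_eq
    obtain ⟨j, -, hj⟩ := (Nat.dvd_prime_pow Nat.prime_two).1 (hn' ▸ relIndex_dvd_card Q M)
    exact ⟨j, hj⟩
  have hcM : Nat.card M = Nat.card Q * 2 ^ j := by
    rw [← hj, ← relIndex_bot_left, ← relIndex_mul_relIndex ⊥ Q M bot_le le_sup_right, relIndex_bot_left]
  rw [hj] at hmul
  have h1 : Nat.card M % 3 = 2 := h.card_mod hM2 (fun p hp => mem_cz.1 (hMC hp))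
    (mem_sup_right g.z_mem) fun p hp => conj_mem (hMn h.x_mem) hp
  have h2 := h.fib_mod g
  have hd : 2 ^ j ∣ 6 := by
    rcases h36 with e | e <;> rw [e] at hmul
    exacts [(Dvd.intro _ hmul).trans (by norm_num), Dvd.intro _ hmul]
  have hj1 : j ≤ 1 := by
    by_contra! hj2
    exact absurd ((pow_dvd_pow 2 hj2).trans hd) (by norm_num)
  interval_cases j
  · have : Q = M := eq_of_le_of_card_ge le_sup_right (by rw [hcM, pow_zero, mul_one])
    rw [this]; exact le_sup_left
  · rw [hcM, pow_one, Nat.mul_mod, h2] at h1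
    norm_num at h1

/-- The structure of an overgroup of the centraliser with characteristic two. -/
theorem overgroup (g : Good t Q) (h36 : Q.relIndex (cz t) = 3 ∨ Q.relIndex (cz t) = 6) {M R : Subgroup G}
    (hCM : cz t ≤ M) (hRM : R ≤ M) (hMR : M ≤ normalizer (R : Set G)) (hR2 : IsPGroup 2 R)
    (hself : M ⊓ centralizer (R : Set G) ≤ R)
    (hmax : ∀ N : Subgroup G, N ≤ M → M ≤ normalizer (N : Set G) → IsPGroup 2 N → N ≤ R) :
    R = Q ∨ (Q.relIndex (cz t) = 6 ∧ Nat.card Q = 32 ∧ Nat.card R = 8 ∧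
      ∀ S : Sylow 2 G, (S : Subgroup G) ≤ cz t →
        M ⊓ normalizer ((S : Subgroup G) : Set G) ≤ (S : Subgroup G)) := by
  classical
  have : Fact (Nat.Prime 2) := ⟨Nat.prime_two⟩
  obtain ⟨S, hS⟩ := h.exists_sylow_le
  have hSM : (S : Subgroup G) ≤ M := hS.trans hCM
  have hRS : R ≤ (S : Subgroup G) := le_sylow S hR2 (hSM.trans hMR)
  have hRC : R ≤ cz t := hRS.trans hS
  have hRQ : R ≤ Q := h.le_Q g.toFib h36 hR2 hRC (hCM.trans hMR)
  have hQS : Q ≤ (S : Subgroup G) := g.toFib.le_sylow S hS
  have hzR : t ^ 3 ∈ R := hself ⟨hCM h.z_mem, mem_centralizer_iff.2 fun r hr => (mem_cz.1 (hRC hr)).eq⟩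
  have hzc : ∀ p ∈ R, Commute p (t ^ 3) := fun p hp => mem_cz.1 (hRC hp)
  have hxM : t ^ 2 ∈ M := hCM h.x_mem
  set N := R.subgroupOf M with hN
  haveI : N.Normal := (normal_subgroupOf_iff_le_normalizer hRM).2 hMR
  set q := QuotientGroup.mk' N with hq
  have hy := h.over_hyp hMR hR2 hxM hzR hzc
  obtain ⟨K, hKn, hK3, hi⟩ := SelfCentThree.concl hy
  have hNc : Nat.card N = Nat.card R := Nat.card_congr (subgroupOfEquivOfLe hRM).toEquiv
  -- no normal two-subgroup
  have hO2 : ∀ P : Subgroup (M ⧸ N), P.Normal → IsPGroup 2 P → P = ⊥ := by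
    intro P hPn hP
    have h1 : IsPGroup 2 ((P.comap q).map M.subtype) :=
      (hP.comap_of_ker_isPGroup q (by rw [QuotientGroup.ker_mk']; exact hR2.of_equiv (subgroupOfEquivOfLe hRM).symm)).map _
    have h2 : M ≤ normalizer (((P.comap q).map M.subtype : Subgroup G) : Set G) := by
      rw [← normal_subgroupOf_iff_le_normalizer (map_subtype_le _), subgroupOf,
        comap_map_eq_self_of_injective M.subtype_injective]
      exact hPn.comap q
    have h3 := hmax _ (map_subtype_le _) h2 h1
    rw [eq_bot_iff]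
    intro p hp
    obtain ⟨a, rfl⟩ := QuotientGroup.mk'_surjective N p
    rw [mem_bot]
    refine (QuotientGroup.eq_one_iff a).2 ?_
    rw [hN, mem_subgroupOf]
    exact h3 ⟨a, hp, rfl⟩
  have hKodd : ¬ 2 ∣ Nat.card K := fun hd => by
    have := SelfCentThree.isNilpotent hy hK3 SelfCentThree.inv_of_normal
    obtain ⟨P⟩ : Nonempty (Sylow 2 K) := inferInstance
    have htfae := (Group.isNilpotent_of_finite_tfae (G := K)).out 0 3
    have hPn : (P : Subgroup K).Normal := htfae.1 inferInstance 2 ⟨Nat.prime_two⟩ P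
    have := P.characteristic_of_normal hPn
    have e := hO2 ((P : Subgroup K).map K.subtype) inferInstance (P.2.map _)
    exact P.ne_bot_of_dvd_card hd ((map_eq_bot_iff_of_injective _ K.subtype_injective).1 e)
  -- two-parts
  have hfS : R.relIndex (S : Subgroup G) * (S : Subgroup G).relIndex M = Nat.card K * K.index := by
    rw [relIndex_mul_relIndex R _ M hRS hSM, K.card_mul_index, ← index_eq_card]; rfl
  obtain ⟨a, ha⟩ : ∃ a, R.relIndex (S : Subgroup G) = 2 ^ a := by
    obtain ⟨n, hn⟩ := S.2.exists_card_eq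
    obtain ⟨j, -, hj⟩ := (Nat.dvd_prime_pow Nat.prime_two).1 (hn ▸ relIndex_dvd_card R (S : Subgroup G))
    exact ⟨j, hj⟩
  have hoddS := odd_relIndex S hSM
  have key : ∀ c, K.index = 2 ^ c * 3 ∨ K.index = 2 ^ c * 15 ∨ K.index = 2 ^ c * 21 → a = c := by
    intro c hc
    have h1 := congrArg (fun n : ℕ => n.factorization 2) hfS
    have hpos : (S : Subgroup G).relIndex M ≠ 0 := fun e => hoddS (e ▸ dvd_zero 2)
    have hi2 : K.index.factorization 2 = c := by
      rcases hc with e | e | e <;>
        rw [e, Nat.factorization_mul (by positivity) (by norm_num), Finsupp.add_apply,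
          Nat.Prime.factorization_pow Nat.prime_two, Finsupp.single_eq_same,
          Nat.factorization_eq_zero_of_not_dvd (by norm_num), add_zero]
    simp only [ha, Nat.factorization_mul (show (2 : ℕ) ^ a ≠ 0 by positivity) hpos,
      Nat.factorization_mul Nat.card_pos.ne' index_ne_zero_of_finite, Finsupp.add_apply,
      Nat.Prime.factorization_pow Nat.prime_two, Finsupp.single_eq_same,
      Nat.factorization_eq_zero_of_not_dvd hoddS, Nat.factorization_eq_zero_of_not_dvd hKodd, hi2,
      add_zero, zero_add] at h1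
    exact h1
  have hSR : Nat.card (S : Subgroup G) = Nat.card R * 2 ^ a := by
    rw [← ha, ← relIndex_bot_left, ← relIndex_mul_relIndex ⊥ R (S : Subgroup G) bot_le hRS, relIndex_bot_left]
  have hQmod := h.fib_mod g.toFib
  have hRmod : Nat.card R % 3 = 2 := h.card_mod hR2 hzc hzR fun p hp => conj_mem (hMR hxM) hp
  have hS3 : Q.relIndex (cz t) = 3 → Nat.card (S : Subgroup G) = Nat.card Q := fun e => by
    rw [g.toFib.sylow_card S hS (a := 0) (b := 3) (by rw [e]; norm_num) (by norm_num), pow_zero, mul_one]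
  have hS6 : Q.relIndex (cz t) = 6 → Nat.card (S : Subgroup G) = Nat.card Q * 2 := fun e => by
    rw [g.toFib.sylow_card S hS (a := 1) (b := 3) (by rw [e]; norm_num) (by norm_num), pow_one]
  have hRQc := card_dvd_of_le hRQ
  rcases hi with e | e | ⟨e, h2K, -, hmaxK⟩
  · -- quotient of order prime to two
    left
    have ha0 := key 0 (Or.inl (by rw [e]; norm_num))
    rw [ha0, pow_zero, mul_one] at hSR
    refine eq_of_le_of_card_ge hRQ ?_
    rw [← hSR]
    exact Nat.card_le_card_of_injective _ (inclusion_injective hQS)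
  · left
    have ha1 := key 1 (Or.inl (by rw [e]; norm_num))
    rw [ha1, pow_one] at hSR
    refine eq_of_le_of_card_ge hRQ ?_
    rcases h36 with e' | e'
    · rw [hS3 e'] at hSR; omega
    · rw [hS6 e'] at hSR; omega
  have hKb : K = ⊥ := hO2 K hKn h2K
  subst hKb
  have hsimp : IsSimpleGroup (M ⧸ N) := by
    have := SelfCentThree.isSimpleGroup_quot (K := (⊥ : Subgroup (M ⧸ N)))
      (by rcases e with e | e <;> rw [e] <;> norm_num) hmaxK
    exact (QuotientGroup.quotientBot (G := M ⧸ N)).isSimpleGroup_congr.1 this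
  rw [index_bot] at e
  have hMR' : R.relIndex M = Nat.card (M ⧸ N) := rfl
  rcases e with e | e
  · have ha2 := key 2 (Or.inr (Or.inl (by rw [index_bot, e]; norm_num)))
    rw [ha2] at hSR
    rcases h36 with e' | e'
    · -- five fixed points are impossible
      exfalso
      rw [hS3 e'] at hSR
      have hCc : Nat.card (cz t) = 12 * Nat.card R := by rw [g.toFib.card_cz, e', hSR]; ring
      have hMc : Nat.card M = 60 * Nat.card R := by
        rw [← relIndex_bot_left, ← relIndex_mul_relIndex ⊥ R M bot_le hRM, relIndex_bot_left, hMR', e, mul_comm]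
      set C' := (cz t).subgroupOf M with hC'
      have hidx : Nat.card (M ⧸ C') = 5 := by
        have := relIndex_mul_relIndex ⊥ (cz t) M bot_le hCM
        rw [relIndex_bot_left, relIndex_bot_left, hCc, hMc] at this
        rw [← index_eq_card, hC']
        have hpos : 0 < Nat.card R := Nat.card_pos
        change (cz t).relIndex M = 5
        nlinarith
      have : Fact (Nat.Prime 3) := ⟨Nat.prime_three⟩
      let X : Subgroup M := zpowers ⟨t ^ 2, hxM⟩
      have hX : IsPGroup 3 X := IsPGroup.of_card (n := 1) (by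
        rw [Nat.card_zpowers, ← Subgroup.orderOf_coe, h.x_ord, pow_one])
      have h5 := hX.card_modEq_card_fixedPoints (M ⧸ C')
      rw [hidx] at h5
      have hsub : Subsingleton (MulAction.fixedPoints X (M ⧸ C')) := by
        suffices hone : ∀ p : M ⧸ C', p ∈ MulAction.fixedPoints X (M ⧸ C') → p = QuotientGroup.mk 1 from
          ⟨fun p p' => Subtype.ext ((hone _ p.2).trans (hone _ p'.2).symm)⟩
        intro p hp
        obtain ⟨m, rfl⟩ := QuotientGroup.mk_surjective p
        have hfix := hp ⟨⟨t ^ 2, hxM⟩, mem_zpowers _⟩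
        change QuotientGroup.mk ((⟨t ^ 2, hxM⟩ : M) * m) = QuotientGroup.mk m at hfix
        rw [QuotientGroup.eq, hC', mem_subgroupOf] at hfix
        have hc : (m : G)⁻¹ * t ^ 2 * m ∈ cz t := by
          have := inv_mem hfix
          simpa [mul_assoc] using this
        rw [QuotientGroup.eq, mul_one, inv_mem_iff, hC', mem_subgroupOf]
        -- the moved involution is centralised by `t ^ 2`
        have h2 : Commute ((m : G) * t ^ 3 * (m : G)⁻¹) (t ^ 2) := by
          rw [show t ^ 2 = (m : G) * ((m : G)⁻¹ * t ^ 2 * m) * (m : G)⁻¹ by group]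
          exact (commute_conj h).2 (mem_cz.1 hc).symm
        rcases h.mem_zpowers_z.1 (h.fixed_two hR2 hzc (conj_mem (hMR m.2) hzR) h2) with e1 | e1
        · have := h.z_ord
          rw [conj_eq_one_iff.1 e1, orderOf_one] at this
          omega
        · exact mem_cz.2 (mul_inv_eq_iff_eq_mul.1 e1)
      have hle : Nat.card (MulAction.fixedPoints X (M ⧸ C')) ≤ 1 := Finite.card_le_one_iff_subsingleton.2 hsub
      rw [Nat.ModEq] at h5
      omega
    · exfalso
      rw [hS6 e'] at hSR
      omega
  · have ha3 := key 3 (Or.inr (Or.inr (by rw [index_bot, e]; norm_num)))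
    rw [ha3] at hSR
    rcases h36 with e' | e'
    · exfalso
      rw [hS3 e'] at hSR
      omega
    right
    rw [hS6 e'] at hSR
    -- a Frobenius group of order 21 acts on `R`
    have : Fact (Nat.Prime 7) := ⟨by norm_num⟩
    obtain ⟨W, hW, hWI⟩ := SelfCentThree.exists_seven_oneSixtyEight hy e
    let P7 : Sylow 7 (M ⧸ N) := Sylow.ofCard W (by
      rw [hW, e, show (168 : ℕ) = 7 ^ 1 * 24 by norm_num, Nat.factorization_mul (by norm_num) (by norm_num),
        Finsupp.add_apply, Nat.Prime.factorization_pow (by norm_num), Finsupp.single_eq_same,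
        Nat.factorization_eq_zero_of_not_dvd (show ¬ 7 ∣ 24 by norm_num)]
      norm_num)
    set Lb := normalizer (W : Set (M ⧸ N)) with hLb
    have hLbc : Nat.card Lb = 21 := Small.Order168.card_normalizer_seven e P7
    set L := (Lb.comap q).map M.subtype with hL
    have hRL : R ≤ L := fun r hr => ⟨⟨r, hRM hr⟩, by
      rw [SetLike.mem_coe, mem_comap, show q ⟨r, hRM hr⟩ = 1 from
        (QuotientGroup.eq_one_iff _).2 (mem_subgroupOf.2 hr)]
      exact Lb.one_mem, rfl⟩
    have hxL : t ^ 2 ∈ L := ⟨⟨t ^ 2, hxM⟩, hWI.mem_normalizer hy, rfl⟩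
    have hR8 : Nat.card R = 8 := by
      refine h.card_eight hRL ((map_subtype_le _).trans hMR) hR2 hxL hzR hzc (m := 7) ?_ (by decide) ?_
      · have h1 := relIndex_mul_relIndex ⊥ R L bot_le hRL
        rw [relIndex_bot_left, relIndex_bot_left, hL, card_map_of_injective M.subtype_injective] at h1
        have h2 : Nat.card (Lb.comap q) = Nat.card R * 21 := by
          have h3 := (Lb.comap q).card_mul_index
          rw [index_comap_of_surjective _ (QuotientGroup.mk'_surjective N), N.card_eq_card_quotient_mul_card_subgroup,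
            ← Lb.card_mul_index, hLbc, hNc] at h3
          have hpos : 0 < Lb.index := Nat.pos_of_ne_zero index_ne_zero_of_finite
          nlinarith
        rw [h2] at h1
        exact Nat.eq_of_mul_eq_mul_left Nat.card_pos h1
      · intro _ U _ hU p hp hc
        by_contra hp1
        obtain ⟨k, hk⟩ := hR2 ⟨p, hp⟩
        obtain ⟨j, -, hj⟩ := (Nat.dvd_prime_pow Nat.prime_two).1
          (orderOf_dvd_of_pow_eq_one (show p ^ 2 ^ k = 1 from congrArg Subtype.val hk))
        rcases j with - | j
        · exact hp1 (orderOf_eq_one_iff.1 (by rw [hj, pow_zero]))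
        have hu : orderOf (p ^ 2 ^ j) = 2 := by
          rw [orderOf_pow_of_dvd (by positivity) (by rw [hj]; exact pow_dvd_pow 2 (by omega)), hj,
            Nat.pow_div (by omega) (by norm_num), show j + 1 - j = 1 by omega, pow_one]
        obtain ⟨d, hd⟩ := h.exists_conj_z hu
        have hUle : U.map (MulAut.conj d⁻¹).toMonoidHom ≤ cz t := by
          rintro - ⟨v, hv, rfl⟩
          rw [mem_cz, ← commute_conj h (g := d), hd]
          have : d * ((MulAut.conj d⁻¹) v) * d⁻¹ = v := by simp [mul_assoc]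
          simp only [MulEquiv.coe_toMonoidHom]
          rw [this]
          exact ((hc v hv).pow_left _).symm
        have h7 := card_dvd_of_le hUle
        rw [card_map_of_injective (MulAut.conj d⁻¹).injective, hU, g.toFib.card_cz, e'] at h7
        have h27 : Nat.Coprime 7 (Nat.card Q) := by
          rw [card_eq_pow g.two]; exact Nat.Coprime.pow_right _ (by norm_num)
        exact absurd (h27.dvd_of_dvd_mul_left h7) (by norm_num)
    refine ⟨e', by omega, hR8, fun T hT m hm => ?_⟩
    have hTM : (T : Subgroup G) ≤ M := hT.trans hCM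
    have hRT : R ≤ (T : Subgroup G) := le_sylow T hR2 (hTM.trans hMR)
    let T' : Sylow 2 M := T.subtype hTM
    have hT' : (T' : Subgroup M) = (T : Subgroup G).subgroupOf M := Sylow.coe_subtype _ _
    let Tb : Sylow 2 (M ⧸ N) := T'.mapSurjective (QuotientGroup.mk'_surjective N)
    have hTb : (Tb : Subgroup (M ⧸ N)) = (T' : Subgroup M).map q := rfl
    have hmem : q ⟨m, hm.1⟩ ∈ (Tb : Subgroup (M ⧸ N)) := by
      rw [← Small.Order168.normalizer_two e Tb, hTb, hT', mem_normalizer_iff]
      intro v
      constructor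
      · rintro ⟨s, hs, rfl⟩
        refine ⟨⟨m, hm.1⟩ * s * (⟨m, hm.1⟩ : M)⁻¹, ?_, by rw [map_mul, map_mul, map_inv]⟩
        exact conj_mem hm.2 hs
      · rintro ⟨s, hs, e1⟩
        refine ⟨(⟨m, hm.1⟩ : M)⁻¹ * s * ⟨m, hm.1⟩, ?_, ?_⟩
        · rw [SetLike.mem_coe, mem_subgroupOf]
          have := conj_mem (inv_mem hm.2) (show (s : G) ∈ (T : Subgroup G) from hs)
          simpa using this
        · rw [map_mul, map_mul, map_inv, e1]; group
    rw [hTb, hT'] at hmem
    obtain ⟨s, hs, e1⟩ := hmem
    obtain ⟨n, hn, e2⟩ := (QuotientGroup.mk'_eq_mk' N).1 e1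
    rw [← show ((s : G) * (n : G)) = m from congrArg Subtype.val e2]
    exact mul_mem hs (hRT (by rwa [hN, mem_subgroupOf] at hn))

end Hyp

end Cfsg.Lib.SelfCentSix
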