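import Cfsg.Agent.SelfCentSix.QFacts
import Cfsg.Agent.SelfCentSix.Overgroup

/-!
The four-group on a line: its normaliser induces the symmetric group on the three involutions.
-/

set_option autoImplicit false
set_option linter.unusedSectionVars false
set_option linter.style.haveILetI false

namespace Cfsg.Lib.SelfCentSix

open Subgroup
open scoped Pointwise commutatorElement

universe u

variable {G : Type u} [Group G] [Finite G] {t : G}

/-- What the normaliser of a line four-group provides. -/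
structure Pivot (t : G) (S : Sylow 2 G) (e : G) (M : Subgroup G) : Prop where
  S_le : (S : Subgroup G) ≤ M
  meet : M ⊓ cz t = (S : Subgroup G)
  T_le : (S : Subgroup G) ⊓ centralizer ({e} : Set G) ≤ M
  T_norm : M ≤ normalizer (((S : Subgroup G) ⊓ centralizer ({e} : Set G) : Subgroup G) : Set G)
  card : Nat.card M = 3 * Nat.card (S : Subgroup G)
  half : Nat.card (S : Subgroup G) = 2 * Nat.card ↥((S : Subgroup G) ⊓ centralizer ({e} : Set G))
  perm : ∀ g ∈ M, g * t ^ 3 * g⁻¹ = t ^ 3 ∨ g * t ^ 3 * g⁻¹ = e ∨ g * t ^ 3 * g⁻¹ = e * t ^ 3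
  cent_e : cz t ⊓ centralizer ({e} : Set G) = (S : Subgroup G) ⊓ centralizer ({e} : Set G)
  sym : ∀ K : Subgroup G, K ≤ M → M ≤ normalizer (K : Set G) → IsPGroup 2 K →
    K ≤ (S : Subgroup G) ⊓ centralizer ({e} : Set G)
  exists_three : ∃ y ∈ M, orderOf y = 3 ∧ y * t ^ 3 * y⁻¹ ≠ t ^ 3
  quot : ∀ N : Subgroup M, N.Normal → N = ((S : Subgroup G) ⊓ centralizer ({e} : Set G)).subgroupOf M →
    ∀ [N.Normal], Nonempty (M ⧸ N ≃* Equiv.Perm (Fin 3))

/-- A subgroup of the permutations of three points with two involutions is everything. -/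
theorem three_top {α : Type*} [Fintype α] (hα : Fintype.card α = 3) (H : Subgroup (Equiv.Perm α))
    {a b : Equiv.Perm α} (ha : a ∈ H) (hb : b ∈ H) (ha2 : orderOf a = 2) (hb2 : b * b = 1) (hb1 : b ≠ 1)
    (hab : a ≠ b) : H = ⊤ := by
  classical
  have hcard : Nat.card (Equiv.Perm α) = 6 := by
    rw [Nat.card_perm, Nat.card_eq_fintype_card, hα]; rfl
  have hd : Nat.card H ∣ 6 := hcard ▸ card_subgroup_dvd_card H
  have h2 : 2 ∣ Nat.card H := ha2 ▸ Subgroup.orderOf_dvd_natCard H ha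
  have h3 : 2 < Nat.card H := by
    have hsub : ({1, a, b} : Set (Equiv.Perm α)) ⊆ (H : Set (Equiv.Perm α)) := by
      rintro v (rfl | rfl | rfl)
      exacts [H.one_mem, ha, hb]
    have := Set.ncard_le_ncard hsub
    rw [Set.ncard_insert_of_notMem, Set.ncard_pair hab] at this
    · exact this
    · simp only [Set.mem_insert_iff, Set.mem_singleton_iff, not_or]
      exact ⟨fun e => by rw [← e, orderOf_one] at ha2; omega, hb1.symm⟩
  refine eq_top_of_card_eq H ?_
  rw [hcard]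
  have := Nat.le_of_dvd (by norm_num) hd
  interval_cases Nat.card H <;> omega

namespace Hyp

variable (h : Hyp t) {Q : Subgroup G}
include h

/-- Only a Sylow subgroup fixes a line modulo the involution. -/
theorem stab_line (g : Good t Q) (S : Sylow 2 G) (hS : (S : Subgroup G) ≤ cz t) {e : G} (he : Line t Q e)
    (hfix : ∀ s ∈ (S : Subgroup G), (s * e * s⁻¹) * e⁻¹ ∈ zpowers (t ^ 3)) {c : G} (hc : c ∈ cz t)
    (hce : (c * e * c⁻¹) * e⁻¹ ∈ zpowers (t ^ 3)) : c ∈ (S : Subgroup G) := by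
  classical
  have hzc : ∀ {d w : G}, d ∈ cz t → w ∈ zpowers (t ^ 3) → d * w * d⁻¹ = w := by
    intro d w hd hw
    obtain ⟨k, rfl⟩ := mem_zpowers_iff.1 hw
    rw [((mem_cz.1 hd).zpow_right k).eq, mul_inv_cancel_right]
  let St : Subgroup G :=
    { carrier := {c | c ∈ cz t ∧ (c * e * c⁻¹) * e⁻¹ ∈ zpowers (t ^ 3)}
      one_mem' := ⟨one_mem _, by simp⟩
      mul_mem' := fun {a b} ha hb => ⟨mul_mem ha.1 hb.1, by
        rw [show a * b * e * (a * b)⁻¹ * e⁻¹ = (a * ((b * e * b⁻¹) * e⁻¹) * a⁻¹) * ((a * e * a⁻¹) * e⁻¹) by group,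
          hzc ha.1 hb.2]
        exact mul_mem hb.2 ha.2⟩
      inv_mem' := fun {a} ha => ⟨inv_mem ha.1, by
        rw [show a⁻¹ * e * a⁻¹⁻¹ * e⁻¹ = a⁻¹ * ((a * e * a⁻¹) * e⁻¹)⁻¹ * a⁻¹⁻¹ by group,
          hzc (inv_mem ha.1) (inv_mem ha.2)]
        exact inv_mem ha.2⟩ }
  have hSt : (S : Subgroup G) ≤ St := fun s hs => ⟨hS hs, hfix s hs⟩
  have hStC : St ≤ cz t := fun a ha => ha.1
  suffices hle : St ≤ (S : Subgroup G) from hle ⟨hc, hce⟩
  -- no element of order three
  have h3 : ¬ 3 ∣ Nat.card St := by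
    intro hd
    have : Fact (Nat.Prime 3) := ⟨Nat.prime_three⟩
    obtain ⟨⟨v, hv⟩, hvo⟩ := exists_prime_orderOf_dvd_card' 3 hd
    rw [Subgroup.orderOf_mk] at hvo
    obtain ⟨a, ha, hav⟩ := h.three_conj hvo hv.1
    have hle' := h.line_conj g.toFib he (inv_mem ha)
    rw [inv_inv] at hle'
    refine hle'.nz (h.x_mod g.toFib hle'.mem ?_)
    obtain ⟨w, hw, hwv⟩ : ∃ w ∈ St, a * t ^ 2 * a⁻¹ = w := by
      rcases hav with e1 | e1
      exacts [⟨v, hv, e1⟩, ⟨v⁻¹, inv_mem hv, e1⟩]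
    rw [show t ^ 2 * (a⁻¹ * e * a) * (t ^ 2)⁻¹ * (a⁻¹ * e * a)⁻¹ =
      a⁻¹ * ((a * t ^ 2 * a⁻¹) * e * (a * t ^ 2 * a⁻¹)⁻¹ * e⁻¹) * a⁻¹⁻¹ by group, hwv, hzc (inv_mem ha) hw.2]
    exact hw.2
  have hmul := relIndex_mul_relIndex (S : Subgroup G) St (cz t) hSt hStC
  have hodd := odd_relIndex S hS
  have hcS : Nat.card St = Nat.card (S : Subgroup G) * (S : Subgroup G).relIndex St := by
    rw [← relIndex_bot_left, ← relIndex_mul_relIndex ⊥ (S : Subgroup G) St bot_le hSt, relIndex_bot_left]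
  have hk3 : ¬ 3 ∣ (S : Subgroup G).relIndex St := fun hd => h3 (hcS ▸ hd.mul_left _)
  have hcC : Nat.card (cz t) = Nat.card (S : Subgroup G) * (S : Subgroup G).relIndex (cz t) := by
    rw [← relIndex_bot_left, ← relIndex_mul_relIndex ⊥ (S : Subgroup G) _ bot_le hS, relIndex_bot_left]
  have hQ0 : 0 < Nat.card Q := Nat.card_pos
  have hone : (S : Subgroup G).relIndex St = 1 := by
    rcases g.idx with e1 | e1 | e1
    · have hsc := g.toFib.sylow_card S hS (a := 0) (b := 3) (by rw [e1]; norm_num) (by norm_num)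
      rw [g.toFib.card_cz, e1, hsc, pow_zero, mul_one] at hcC
      have h5 : (S : Subgroup G).relIndex (cz t) = 3 := by nlinarith
      rw [h5] at hmul
      rcases (Nat.dvd_prime Nat.prime_three).1 (Dvd.intro _ hmul) with e2 | e2
      exacts [e2, absurd (e2 ▸ dvd_rfl) hk3]
    · have hsc := g.toFib.sylow_card S hS (a := 1) (b := 3) (by rw [e1]; norm_num) (by norm_num)
      rw [g.toFib.card_cz, e1, hsc, pow_one] at hcC
      have h5 : (S : Subgroup G).relIndex (cz t) = 3 := by nlinarith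
      rw [h5] at hmul
      rcases (Nat.dvd_prime Nat.prime_three).1 (Dvd.intro _ hmul) with e2 | e2
      exacts [e2, absurd (e2 ▸ dvd_rfl) hk3]
    · have hsc := g.toFib.sylow_card S hS (a := 2) (b := 15) (by rw [e1]; norm_num) (by norm_num)
      rw [g.toFib.card_cz, e1, hsc] at hcC
      have h5 : (S : Subgroup G).relIndex (cz t) = 15 := by nlinarith
      rw [h5] at hmul
      have hd := Dvd.intro _ hmul
      have hle15 := Nat.le_of_dvd (by norm_num) hd
      by_contra hne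
      have hk : (S : Subgroup G).relIndex St = 5 := by
        interval_cases (S : Subgroup G).relIndex St <;> omega
      rw [hk] at hmul
      have h3' : St.relIndex (cz t) = 3 := by omega
      -- the quotient of the centraliser has no subgroup of index three
      set N := Q.subgroupOf (cz t) with hN
      haveI : N.Normal := (normal_subgroupOf_iff_le_normalizer g.le).2 g.norm
      set q := QuotientGroup.mk' N
      have hy := h.over_hyp g.norm g.two h.x_mem g.z_mem fun p hp => mem_cz.1 (g.le hp)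
      have hc60 : Nat.card (cz t ⧸ N) = 60 := e1
      set K := (St.subgroupOf (cz t)).normalCore
      have hKd : K.index ∣ 6 := by
        rw [show K = (MulAction.toPermHom (cz t) (cz t ⧸ St.subgroupOf (cz t))).ker from normalCore_eq_ker _,
          index_ker]
        refine (card_subgroup_dvd_card _).trans ?_
        rw [Nat.card_perm, ← index_eq_card, show (St.subgroupOf (cz t)).index = 3 from h3']
        decide
      haveI : (K.map q).Normal := Normal.map (normalCore_normal _) q (QuotientGroup.mk'_surjective N)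
      have hK3 : SelfCentThree.P3 (K.map q) := SelfCentThree.P3.map (fun hd' => h3 (by
        have h6 := hd'.trans (card_dvd_of_le (normalCore_le _))
        rwa [Nat.card_congr (subgroupOfEquivOfLe hStC).toEquiv] at h6)) q
      have hcases := SelfCentThree.card_sixty_inv hy hc60 hK3 SelfCentThree.inv_of_normal
      have hidx : (K.map q).index ∣ 6 := (index_map_dvd _ (QuotientGroup.mk'_surjective N)).trans hKd
      have hm := (K.map q).card_mul_index
      rw [hc60] at hm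
      have h6 := Nat.le_of_dvd (by norm_num) hidx
      rcases hcases with e2 | e2 <;> rw [e2] at hm <;> omega
  intro a ha
  exact (relIndex_eq_one.1 hone) ha

/-- The normaliser of the four-group on a fixed line. -/
theorem pivot (g : Good t Q) (S : Sylow 2 G) (hS : (S : Subgroup G) ≤ cz t) {e : G} (he : Line t Q e)
    (hfix : ∀ s ∈ (S : Subgroup G), (s * e * s⁻¹) * e⁻¹ ∈ zpowers (t ^ 3))
    (hZ : ∀ u : G, orderOf u = 2 → u ∈ centralizer ((S : Subgroup G) : Set G) → u = t ^ 3) :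
    ∃ M, Pivot t S e M := by
  classical
  have : Fact (Nat.Prime 2) := ⟨Nat.prime_two⟩
  set z := t ^ 3 with hz
  have hzo : orderOf z = 2 := h.z_ord
  have hz1 : z ≠ 1 := h.z_ne_one g.toFib
  have hzz : z * z = 1 := h.zz g.toFib
  have heo : orderOf e = 2 := orderOf_eq_prime (by rw [pow_two, he.sq]) fun e1 => he.nz (e1 ▸ one_mem _)
  have hez : Commute e z := mem_cz.1 (g.le he.mem)
  have hne : e ≠ z := fun e1 => he.nz (e1 ▸ mem_zpowers _)
  have he1 : e ≠ 1 := fun e1 => he.nz (e1 ▸ one_mem _)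
  have hezne : e * z ≠ z := fun e1 => he1 (mul_eq_right.1 e1)
  have hezne' : e * z ≠ e := fun e1 => hz1 (mul_eq_left.1 e1)
  have hconj : ∀ s ∈ (S : Subgroup G), s * e * s⁻¹ = e ∨ s * e * s⁻¹ = e * z := fun s hs => by
    rcases h.mem_zpowers_z.1 (hfix s hs) with e1 | e1
    · exact Or.inl (mul_inv_eq_one.1 e1)
    · exact Or.inr (by rw [mul_inv_eq_iff_eq_mul.1 e1, hez.eq])
  set T := (S : Subgroup G) ⊓ centralizer ({e} : Set G) with hT
  have hTmem : ∀ {s}, s ∈ T ↔ s ∈ (S : Subgroup G) ∧ s * e * s⁻¹ = e := fun {s} => by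
    rw [hT, mem_inf, mem_centralizer_singleton_iff]
    exact and_congr_right fun _ => ⟨fun h1 => mul_inv_eq_iff_eq_mul.2 h1, fun h1 => mul_inv_eq_iff_eq_mul.1 h1⟩
  obtain ⟨s₀, hs₀, hs₀e⟩ : ∃ s ∈ (S : Subgroup G), s * e * s⁻¹ = e * z := by
    by_contra hno
    push Not at hno
    exact hne (hZ e heo (mem_centralizer_iff.2 fun s hs =>
      mul_inv_eq_iff_eq_mul.1 ((hconj s hs).resolve_right (hno s hs))))
  have hT2 : Nat.card (S : Subgroup G) = 2 * Nat.card T := by
    have hidx : (T.subgroupOf (S : Subgroup G)).index = 2 := by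
      refine index_eq_two_iff.2 ⟨⟨s₀, hs₀⟩, fun b => ?_⟩
      have e2 : (b : G) * s₀ * e * ((b : G) * s₀)⁻¹ = (b : G) * (e * z) * (b : G)⁻¹ := by rw [← hs₀e]; group
      have hbz : (b : G) * z * (b : G)⁻¹ = z := mul_inv_eq_iff_eq_mul.2 (mem_cz.1 (hS b.2)).eq
      rw [show (b : G) * (e * z) * (b : G)⁻¹ = ((b : G) * e * (b : G)⁻¹) * ((b : G) * z * (b : G)⁻¹) by group,
        hbz] at e2
      simp only [mem_subgroupOf, Subgroup.coe_mul, hTmem]
      rcases hconj b b.2 with e1 | e1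
      · refine Or.inr ⟨⟨b.2, e1⟩, fun hm => hezne' ?_⟩
        rw [e1] at e2
        exact e2.symm.trans hm.2
      · refine Or.inl ⟨⟨mul_mem b.2 hs₀, ?_⟩, fun hm => hezne' (e1.symm.trans hm.2)⟩
        rw [e2, e1, mul_assoc, hzz, mul_one]
    have := (T.subgroupOf (S : Subgroup G)).card_mul_index
    rw [hidx, Nat.card_congr (subgroupOfEquivOfLe (inf_le_left : T ≤ (S : Subgroup G))).toEquiv] at this
    rw [← this, mul_comm]
  have hce : cz t ⊓ centralizer ({e} : Set G) = T := by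
    refine le_antisymm (fun c hc => mem_inf.2 ⟨h.stab_line g S hS he hfix hc.1 ?_, hc.2⟩) (inf_le_inf_right _ hS)
    rw [mul_inv_eq_iff_eq_mul.2 (mem_centralizer_singleton_iff.1 hc.2), mul_inv_cancel]; exact one_mem _
  -- central involutions of `T`
  have hTn : ∀ s ∈ (S : Subgroup G), ∀ p ∈ T, s * p * s⁻¹ ∈ T := by
    intro s hs p hp
    rw [hTmem] at hp ⊢
    refine ⟨mul_mem (mul_mem hs hp.1) (inv_mem hs), ?_⟩
    have hse : s⁻¹ * e * s = e ∨ s⁻¹ * e * s = e * z := by simpa using hconj s⁻¹ (inv_mem hs)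
    have hp' : p * (s⁻¹ * e * s) * p⁻¹ = s⁻¹ * e * s := by
      rcases hse with e1 | e1 <;> rw [e1]
      · exact hp.2
      · rw [show p * (e * z) * p⁻¹ = (p * e * p⁻¹) * (p * z * p⁻¹) by group, hp.2,
          (mem_cz.1 (hS hp.1)).eq, mul_inv_cancel_right]
    calc s * p * s⁻¹ * e * (s * p * s⁻¹)⁻¹ = s * (p * (s⁻¹ * e * s) * p⁻¹) * s⁻¹ := by group
      _ = e := by rw [hp']; group
  have homega : ∀ w ∈ T, (∀ p ∈ T, Commute w p) → w * w = 1 → w ≠ 1 → w = z ∨ w = e ∨ w = e * z := by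
    intro w hw hwc hww hw1
    set w' := s₀ * w * s₀⁻¹ with hw'
    have hw'T : w' ∈ T := hTn _ hs₀ w hw
    have hw'' : w' * w' = 1 := by rw [hw', show s₀ * w * s₀⁻¹ * (s₀ * w * s₀⁻¹) = s₀ * (w * w) * s₀⁻¹ by group, hww]; group
    have hs2 : s₀ * s₀ ∈ T := hTmem.2 ⟨mul_mem hs₀ hs₀, by
      rw [show s₀ * s₀ * e * (s₀ * s₀)⁻¹ = s₀ * (s₀ * e * s₀⁻¹) * s₀⁻¹ by group, hs₀e,
        show s₀ * (e * z) * s₀⁻¹ = (s₀ * e * s₀⁻¹) * (s₀ * z * s₀⁻¹) by group, hs₀e, (mem_cz.1 (hS hs₀)).eq,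
        mul_inv_cancel_right, mul_assoc, hzz, mul_one]⟩
    have hw'c : ∀ p ∈ T, Commute w' p := fun p hp => by
      have := hTn s₀⁻¹ (inv_mem hs₀) p hp
      rw [inv_inv] at this
      rw [show p = s₀ * (s₀⁻¹ * p * s₀) * s₀⁻¹ by group]
      exact (commute_conj h).2 (hwc _ this)
    have hcc : (w * w') * (w * w') = 1 := by
      rw [(hwc w' hw'T).symm.mul_mul_mul_comm, hww, hw'', one_mul]
    have hsw : s₀ * w' * s₀⁻¹ = w := by
      rw [hw', show s₀ * (s₀ * w * s₀⁻¹) * s₀⁻¹ = (s₀ * s₀) * w * (s₀ * s₀)⁻¹ by group,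
        (hwc _ hs2).symm.eq, mul_inv_cancel_right]
    have hcent : w * w' ∈ centralizer ((S : Subgroup G) : Set G) := by
      refine mem_centralizer_iff.2 fun s hs => ?_
      have hfixc : s₀ * (w * w') * s₀⁻¹ = w * w' := by
        rw [show s₀ * (w * w') * s₀⁻¹ = (s₀ * w * s₀⁻¹) * (s₀ * w' * s₀⁻¹) by group, hsw, ← hw',
          (hwc w' hw'T).eq]
      rcases hconj s hs with e1 | e1
      · exact (((hwc s (hTmem.2 ⟨hs, e1⟩)).mul_left (hw'c s (hTmem.2 ⟨hs, e1⟩))).symm).eq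
      · have hm : s * s₀ ∈ T := hTmem.2 ⟨mul_mem hs hs₀, by
          rw [show s * s₀ * e * (s * s₀)⁻¹ = s * (s₀ * e * s₀⁻¹) * s⁻¹ by group, hs₀e,
            show s * (e * z) * s⁻¹ = (s * e * s⁻¹) * (s * z * s⁻¹) by group, e1, (mem_cz.1 (hS hs)).eq,
            mul_inv_cancel_right, mul_assoc, hzz, mul_one]⟩
        have h1 : Commute (w * w') (s * s₀) := (hwc _ hm).mul_left (hw'c _ hm)
        have h2 : Commute (w * w') s₀ := (mul_inv_eq_iff_eq_mul.1 hfixc).symm
        have h3 := h1.mul_right h2.inv_right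
        rw [mul_inv_cancel_right] at h3
        exact h3.symm.eq
    have hwwz : w * w' = 1 ∨ w * w' = z := by
      by_cases h1 : w * w' = 1
      exacts [Or.inl h1, Or.inr (hZ _ (orderOf_eq_prime (by rw [pow_two, hcc]) h1) hcent)]
    have hfixed : ∀ v : G, v ∈ T → (∀ p ∈ T, Commute v p) → v * v = 1 → s₀ * v * s₀⁻¹ = v → v = 1 ∨ v = z := by
      intro v hv hvc hvv hvs
      by_cases hv1 : v = 1
      · exact Or.inl hv1
      refine Or.inr (hZ v (orderOf_eq_prime (by rw [pow_two, hvv]) hv1) (mem_centralizer_iff.2 fun s hs => ?_))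
      rcases hconj s hs with e1 | e1
      · exact (hvc s (hTmem.2 ⟨hs, e1⟩)).symm.eq
      · have hm : s * s₀ ∈ T := hTmem.2 ⟨mul_mem hs hs₀, by
          rw [show s * s₀ * e * (s * s₀)⁻¹ = s * (s₀ * e * s₀⁻¹) * s⁻¹ by group, hs₀e,
            show s * (e * z) * s⁻¹ = (s * e * s⁻¹) * (s * z * s⁻¹) by group, e1, (mem_cz.1 (hS hs)).eq,
            mul_inv_cancel_right, mul_assoc, hzz, mul_one]⟩
        have h3 := (hvc _ hm).mul_right (show Commute v s₀ from (mul_inv_eq_iff_eq_mul.1 hvs).symm).inv_right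
        rw [mul_inv_cancel_right] at h3
        exact h3.symm.eq
    rcases hwwz with e1 | e1
    · have hfix1 : s₀ * w * s₀⁻¹ = w := by
        rw [← hw', eq_inv_of_mul_eq_one_right e1, inv_eq_of_mul_eq_one_right hww]
      rcases hfixed w hw hwc hww hfix1 with e2 | e2
      exacts [absurd e2 hw1, Or.inl e2]
    · right
      have heT : e ∈ T := hTmem.2 ⟨g.toFib.le_sylow S hS he.mem, by group⟩
      have hec : ∀ p ∈ T, Commute e p := fun p hp => (mul_inv_eq_iff_eq_mul.1 (hTmem.1 hp).2).symm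
      have hewc := hwc e heT
      have hw'eq : w' = w * z := by
        calc w' = (w * w) * w' := by rw [hww, one_mul]
          _ = w * (w * w') := by group
          _ = w * z := by rw [e1]
      rcases hfixed (w * e) (mul_mem hw heT) (fun p hp => (hwc p hp).mul_left (hec p hp))
        (by rw [hewc.symm.mul_mul_mul_comm, hww, he.sq, one_mul]) (by
          rw [show s₀ * (w * e) * s₀⁻¹ = (s₀ * w * s₀⁻¹) * (s₀ * e * s₀⁻¹) by group, hs₀e, ← hw', hw'eq,
            show w * z * (e * z) = w * e * (z * z) by rw [hez.symm.mul_mul_mul_comm], hzz, mul_one]) with e2 | e2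
      · left
        rw [eq_inv_of_mul_eq_one_left e2, inv_eq_of_mul_eq_one_right he.sq]
      · right
        calc w = (w * e) * e := by rw [mul_assoc, he.sq, mul_one]
          _ = e * z := by rw [e2, hez.eq]
  -- a Sylow subgroup of the centraliser of `e` above `T`
  obtain ⟨d, hd⟩ := h.exists_conj_z heo
  set Sd : Sylow 2 G := d • S
  have hSd : (Sd : Subgroup G) ≤ centralizer ({e} : Set G) := fun a ha => by
    rw [Sylow.coe_subgroup_smul] at ha
    obtain ⟨b, hb, rfl⟩ := ha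
    rw [mem_centralizer_singleton_iff, ← hd]
    simpa using ((commute_conj h (g := d)).2 (mem_cz.1 (hS hb))).eq
  obtain ⟨P, hP⟩ := ((S.2.to_le (inf_le_left : T ≤ _)).of_equiv
    (subgroupOfEquivOfLe (inf_le_right : T ≤ centralizer ({e} : Set G))).symm).exists_le_sylow
  have hPc : Nat.card P = Nat.card (S : Subgroup G) := by
    rw [Nat.card_congr (Sylow.equiv P (Sd.subtype hSd)).toEquiv, Sylow.coe_subtype,
      Nat.card_congr (subgroupOfEquivOfLe hSd).toEquiv, Sylow.coe_subgroup_smul]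
    exact Nat.card_congr (Subgroup.equivSMul (MulAut.conj d) (S : Subgroup G)).symm.toEquiv
  have hTP : ((T.subgroupOf (centralizer ({e} : Set G))).subgroupOf (P : Subgroup _)).index = 2 := by
    have h1 := ((T.subgroupOf (centralizer ({e} : Set G))).subgroupOf (P : Subgroup _)).card_mul_index
    rw [Nat.card_congr (subgroupOfEquivOfLe hP).toEquiv, Nat.card_congr (subgroupOfEquivOfLe inf_le_right).toEquiv,
      hPc, hT2] at h1
    have : 0 < Nat.card T := Nat.card_pos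
    nlinarith
  obtain ⟨s₁, hs₁P, hs₁T⟩ : ∃ s ∈ (P : Subgroup (centralizer ({e} : Set G))), (s : G) ∉ T := by
    by_contra hno
    push Not at hno
    rw [show ((T.subgroupOf (centralizer ({e} : Set G))).subgroupOf (P : Subgroup _)) = ⊤ from
      eq_top_iff.2 fun a _ => mem_subgroupOf.2 (mem_subgroupOf.2 (hno a a.2)), index_top] at hTP
    omega
  have hTn1 : ∀ p ∈ T, (s₁ : G) * p * (s₁ : G)⁻¹ ∈ T := by
    intro p hp
    have hn := normal_of_index_eq_two hTP
    have := hn.conj_mem ⟨⟨p, (mem_inf.1 hp).2⟩, hP (mem_subgroupOf.2 hp)⟩ (mem_subgroupOf.2 (mem_subgroupOf.2 hp))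
      ⟨s₁, hs₁P⟩
    exact mem_subgroupOf.1 (mem_subgroupOf.1 this)
  have hs₁e : (s₁ : G) * e * (s₁ : G)⁻¹ = e :=
    mul_inv_eq_iff_eq_mul.2 (mem_centralizer_singleton_iff.1 s₁.2)
  have hzT : z ∈ T := hTmem.2 ⟨g.toFib.le_sylow S hS g.z_mem, by rw [← hez.eq, mul_inv_cancel_right]⟩
  have hs₁z : (s₁ : G) * z * (s₁ : G)⁻¹ = e * z := by
    set v := (s₁ : G) * z * (s₁ : G)⁻¹ with hv
    have hvT : v ∈ T := hTn1 z hzT
    have hvc : ∀ p ∈ T, Commute v p := fun p hp => by
      have hd1 : ∀ p ∈ T, (s₁ : G)⁻¹ * p * (s₁ : G) ∈ T := fun p hp => by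
        have hn := normal_of_index_eq_two hTP
        have := hn.conj_mem ⟨⟨p, (mem_inf.1 hp).2⟩, hP (mem_subgroupOf.2 hp)⟩
          (mem_subgroupOf.2 (mem_subgroupOf.2 hp)) (⟨s₁, hs₁P⟩ : (P : Subgroup _))⁻¹
        simpa using mem_subgroupOf.1 (mem_subgroupOf.1 this)
      rw [hv, show p = (s₁ : G) * ((s₁ : G)⁻¹ * p * s₁) * (s₁ : G)⁻¹ by group]
      exact (commute_conj h).2 (mem_cz.1 (hS (mem_inf.1 (hd1 p hp)).1)).symm
    rcases homega v hvT hvc (by rw [hv, show (s₁ : G) * z * (s₁ : G)⁻¹ * ((s₁ : G) * z * (s₁ : G)⁻¹) =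
        (s₁ : G) * (z * z) * (s₁ : G)⁻¹ by group, hzz]; group)
      (fun e1 => hz1 (conj_eq_one_iff.1 e1)) with e1 | e1 | e1
    · refine absurd ?_ hs₁T
      rw [← hce]
      exact mem_inf.2 ⟨mem_cz.2 (mul_inv_eq_iff_eq_mul.1 e1), s₁.2⟩
    · exact absurd (mul_left_cancel (mul_right_cancel ((hv ▸ e1 : (s₁ : G) * z * (s₁ : G)⁻¹ = e).trans hs₁e.symm)))
        hne.symm
    · exact e1
  -- the normaliser
  let U : Set G := {z, e, e * z}
  let M : Subgroup G :=
    { carrier := {a | ∀ u ∈ U, a * u * a⁻¹ ∈ U}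
      one_mem' := fun u hu => by simpa using hu
      mul_mem' := fun {a b} ha hb u hu => by
        have := ha _ (hb u hu)
        rwa [show a * (b * u * b⁻¹) * a⁻¹ = a * b * u * (a * b)⁻¹ by group] at this
      inv_mem' := fun {a} ha u hu => by
        have hfin : U.Finite := Set.toFinite U
        have hsur : Set.SurjOn (fun v => a * v * a⁻¹) U U :=
          ((hfin.injOn_iff_bijOn_of_mapsTo ha).1 fun v _ v' _ e1 => mul_left_cancel (mul_right_cancel e1)).surjOn
        obtain ⟨v, hv, e1⟩ := hsur hu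
        rw [← e1]
        simpa [mul_assoc] using hv }
  have hzU : z ∈ U := Or.inl rfl
  have heU : e ∈ U := Or.inr (Or.inl rfl)
  have hsplit : ∀ a : G, a * (e * z) * a⁻¹ = (a * e * a⁻¹) * (a * z * a⁻¹) := fun a => by group
  have hSM : (S : Subgroup G) ≤ M := fun s hs => by
    have hsz : s * z * s⁻¹ = z := mul_inv_eq_iff_eq_mul.2 (mem_cz.1 (hS hs)).eq
    rintro u (rfl | rfl | rfl)
    · rw [hsz]; exact hzU
    · rcases hconj s hs with e1 | e1 <;> rw [e1]
      exacts [Or.inr (Or.inl rfl), Or.inr (Or.inr rfl)]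
    · rw [hsplit, hsz]
      rcases hconj s hs with e1 | e1 <;> rw [e1]
      · exact Or.inr (Or.inr rfl)
      · rw [mul_assoc, hzz, mul_one]; exact Or.inr (Or.inl rfl)
  have hs₁M : (s₁ : G) ∈ M := by
    rintro u (rfl | rfl | rfl)
    · rw [hs₁z]; exact Or.inr (Or.inr rfl)
    · rw [hs₁e]; exact heU
    · rw [hsplit, hs₁e, hs₁z, ← mul_assoc, he.sq, one_mul]; exact hzU
  have hUc : Nat.card U = 3 := by
    rw [Nat.card_coe_set_eq, Set.ncard_insert_of_notMem, Set.ncard_pair hezne'.symm]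
    simp only [Set.mem_insert_iff, Set.mem_singleton_iff, not_or]
    exact ⟨hne.symm, hezne.symm⟩
  haveI : Fintype U := Fintype.ofFinite U
  have hUc' : Fintype.card U = 3 := by rw [← Nat.card_eq_fintype_card, hUc]
  letI : MulAction M U :=
    { smul := fun a u => ⟨(a : G) * u * (a : G)⁻¹, a.2 u u.2⟩
      one_smul := fun u => Subtype.ext (by show (1 : G) * u * (1 : G)⁻¹ = u; simp)
      mul_smul := fun a b u => Subtype.ext (by
        show ((a : G) * b) * u * ((a : G) * b)⁻¹ = (a : G) * ((b : G) * u * (b : G)⁻¹) * (a : G)⁻¹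
        group) }
  set φ : M →* Equiv.Perm U := MulAction.toPermHom M U
  have hφ : ∀ (a : M) (u : U), ((φ a u : U) : G) = (a : G) * u * (a : G)⁻¹ := fun a u => rfl
  have hTM : T ≤ M := (inf_le_left : T ≤ _).trans hSM
  have hker : φ.ker = T.subgroupOf M := by
    ext a
    rw [MonoidHom.mem_ker, mem_subgroupOf, ← hce]
    constructor
    · intro ha
      have h1 : ∀ u : U, (a : G) * u * (a : G)⁻¹ = u := fun u => by rw [← hφ, ha]; rfl
      exact mem_inf.2 ⟨mem_cz.2 (mul_inv_eq_iff_eq_mul.1 (h1 ⟨z, hzU⟩)),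
        mem_centralizer_singleton_iff.2 (mul_inv_eq_iff_eq_mul.1 (h1 ⟨e, heU⟩))⟩
    · intro ha
      have hz' : (a : G) * z * (a : G)⁻¹ = z := mul_inv_eq_iff_eq_mul.2 (mem_cz.1 (mem_inf.1 ha).1).eq
      have he' : (a : G) * e * (a : G)⁻¹ = e :=
        mul_inv_eq_iff_eq_mul.2 (mem_centralizer_singleton_iff.1 (mem_inf.1 ha).2)
      refine Equiv.ext fun u => Subtype.ext ?_
      rw [hφ]
      rcases u.2 with e1 | e1 | e1 <;> show (a : G) * (u : G) * (a : G)⁻¹ = u <;> rw [e1]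
      exacts [hz', he', by rw [hsplit, hz', he']]
  have htop : φ.range = ⊤ := by
    have hne2 : ∀ (a : M) (u : U), (a : G) * u * (a : G)⁻¹ ≠ u → φ a ≠ 1 := fun a u hau e1 =>
      hau (by rw [← hφ, e1]; rfl)
    have hsq : ∀ a : M, (a : G) * (a : G) ∈ T → φ a * φ a = 1 := fun a ha => by
      rw [← map_mul]
      exact MonoidHom.mem_ker.1 (hker.symm ▸ mem_subgroupOf.2 ha)
    have ha : φ ⟨s₀, hSM hs₀⟩ ≠ 1 := hne2 _ ⟨e, heU⟩ (by show s₀ * e * s₀⁻¹ ≠ e; rw [hs₀e]; exact hezne')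
    have hb : φ ⟨s₁, hs₁M⟩ ≠ 1 := hne2 _ ⟨z, hzU⟩ (by show (s₁ : G) * z * (s₁ : G)⁻¹ ≠ z; rw [hs₁z]; exact hezne)
    refine three_top hUc' _ ⟨⟨s₀, hSM hs₀⟩, rfl⟩ ⟨⟨s₁, hs₁M⟩, rfl⟩
      (orderOf_eq_prime (by
        rw [pow_two]
        refine hsq _ (hTmem.2 ⟨mul_mem hs₀ hs₀, ?_⟩)
        rw [show s₀ * s₀ * e * (s₀ * s₀)⁻¹ = s₀ * (s₀ * e * s₀⁻¹) * s₀⁻¹ by group, hs₀e,
          hsplit, hs₀e, (mem_cz.1 (hS hs₀)).eq, mul_inv_cancel_right, mul_assoc, hzz, mul_one]) ha) (hsq _ ?_) hb ?_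
    · show (s₁ : G) * s₁ ∈ T
      have := Subgroup.mul_self_mem_of_index_two hTP ⟨s₁, hs₁P⟩
      exact mem_subgroupOf.1 (mem_subgroupOf.1 this)
    · intro e1
      have := congrArg (fun p : Equiv.Perm U => ((p ⟨z, hzU⟩ : U) : G)) e1
      simp only [hφ] at this
      rw [hs₁z, (mem_cz.1 (hS hs₀)).eq, mul_inv_cancel_right] at this
      exact hezne this.symm
  have hcard : Nat.card M = 3 * Nat.card (S : Subgroup G) := by
    rw [← φ.ker.card_mul_index, index_ker, htop, card_top, Nat.card_perm, hUc, hker,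
      Nat.card_congr (subgroupOfEquivOfLe hTM).toEquiv, hT2]
    simp [Nat.factorial]; ring
  refine ⟨M, hSM, ?_, hTM, ?_, hcard, hT2, fun a ha => ha z hzU, hce, ?_, ?_, ?_⟩
  · refine le_antisymm (fun a ha => h.stab_line g S hS he hfix (mem_inf.1 ha).2 ?_) (le_inf hSM hS)
    rcases (mem_inf.1 ha).1 e heU with e1 | e1 | e1
    · exfalso
      exact hne (mul_left_cancel (mul_right_cancel (e1.trans (mul_inv_eq_iff_eq_mul.2 (mem_cz.1 (mem_inf.1 ha).2).eq).symm)))
    · rw [show a * e * a⁻¹ = e from e1, mul_inv_cancel]; exact one_mem _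
    · rw [show a * e * a⁻¹ = e * z from e1, hez.eq, mul_inv_cancel_right]; exact mem_zpowers _
  · rw [← normal_subgroupOf_iff_le_normalizer hTM, ← hker]; infer_instance
  · intro K hKM hKn hK2
    -- a normal two-subgroup acts trivially
    have hKS : K ≤ (S : Subgroup G) := SelfCentSix.le_sylow S hK2 (hSM.trans hKn)
    intro k hk
    refine hTmem.2 ⟨hKS hk, ?_⟩
    by_contra hke
    have hk' : (s₁ : G)⁻¹ * k * s₁ ∈ (S : Subgroup G) := hKS (by
      have := conj_mem (hKn (inv_mem hs₁M)) hk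
      rwa [inv_inv] at this)
    have e1 : ((s₁ : G)⁻¹ * k * s₁) * z * ((s₁ : G)⁻¹ * k * s₁)⁻¹ = z := mul_inv_eq_iff_eq_mul.2 (mem_cz.1 (hS hk')).eq
    have hkez := (hconj k (hKS hk)).resolve_left hke
    have h2 : k * (e * z) * k⁻¹ = e * z := by
      rw [← hs₁z]
      calc k * ((s₁ : G) * z * (s₁ : G)⁻¹) * k⁻¹
          = (s₁ : G) * (((s₁ : G)⁻¹ * k * s₁) * z * ((s₁ : G)⁻¹ * k * s₁)⁻¹) * (s₁ : G)⁻¹ := by group
        _ = _ := by rw [e1]
    rw [hsplit, hkez, (mem_cz.1 (hS (hKS hk))).eq, mul_inv_cancel_right, mul_assoc, hzz, mul_one] at h2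
    exact hezne' h2.symm
  · have : Fact (Nat.Prime 3) := ⟨Nat.prime_three⟩
    obtain ⟨⟨y, hy⟩, hyo⟩ := exists_prime_orderOf_dvd_card' (G := M) 3 (by rw [hcard]; exact dvd_mul_right 3 _)
    rw [Subgroup.orderOf_mk] at hyo
    refine ⟨y, hy, hyo, fun e1 => ?_⟩
    have hyS : y ∈ (S : Subgroup G) := by
      refine h.stab_line g S hS he hfix (mem_cz.2 (mul_inv_eq_iff_eq_mul.1 e1)) ?_
      rcases hy e heU with e2 | e2 | e2
      · exfalso; exact hne (mul_left_cancel (mul_right_cancel (e2.trans e1.symm)))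
      · rw [show y * e * y⁻¹ = e from e2, mul_inv_cancel]; exact one_mem _
      · rw [show y * e * y⁻¹ = e * z from e2, hez.eq, mul_inv_cancel_right]; exact mem_zpowers _
    exact not_three_dvd S.2 (hyo ▸ Subgroup.orderOf_dvd_natCard _ hyS)
  · intro N hNn hN
    subst hN
    exact ⟨((QuotientGroup.quotientMulEquivOfEq hker.symm).trans
      (QuotientGroup.quotientKerEquivOfSurjective φ (MonoidHom.range_eq_top.1 htop))).trans
      (Fintype.equivFinOfCardEq hUc').permCongrHom⟩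

end Hyp

end Cfsg.Lib.SelfCentSix
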