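import Cfsg.Agent.SelfCentSix.QFacts
import Cfsg.Agent.Coprime.SolvableBasics

/-!
The two-core: the exceptional quaternion case, and a line fixed by a two-subgroup.
-/

set_option autoImplicit false
set_option linter.unusedSectionVars false
set_option linter.style.haveILetI false

namespace Cfsg.Lib.SelfCentSix

open Subgroup
open scoped commutatorElement

universe u

variable {G : Type u} [Group G] [Finite G] {t : G}

theorem mem_midQ {Q : Subgroup G} {g : Fib t Q} {d : G} :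
    d ∈ midQ g ↔ d ∈ Q ∧ ∀ r ∈ Q, ⁅d, r⁆ ∈ zpowers (t ^ 3) := Iff.rfl

namespace Hyp

variable (h : Hyp t) {Q : Subgroup G} (g : Fib t Q)
include h g

theorem center_le (hno : ∀ e, Line t Q e → ¬ ∀ r ∈ Q, Commute e r) {w : G} (hw : w ∈ Q)
    (hc : ∀ r ∈ Q, Commute w r) : w ∈ zpowers (t ^ 3) := by
  by_contra hwz
  obtain ⟨e, he, hce⟩ := h.central_line g hw hc hwz
  exact hno e he hce

/-- Squares of elements central modulo the involution are central. -/
theorem mid_sq {d : G} (hd : d ∈ midQ g) {r : G} (hr : r ∈ Q) : Commute (d * d) r := by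
  have hk := hd.2 r hr
  have hcomm : Commute d ⁅d, r⁆ := h.z_comm g hd.1 hk
  have h2 : ⁅d * d, r⁆ = ⁅d, r⁆ * ⁅d, r⁆ := by
    rw [show ⁅d * d, r⁆ = d * ⁅d, r⁆ * d⁻¹ * ⁅d, r⁆ by simp only [commutatorElement_def]; group, hcomm.eq,
      mul_inv_cancel_right]
  refine commutatorElement_eq_one_iff_commute.1 ?_
  rcases h.mem_zpowers_z.1 hk with e | e <;> rw [h2, e]
  exacts [one_mul 1, h.zz g]

theorem mid_conj {d : G} (hd : d ∈ midQ g) {c : G} (hc : c ∈ cz t) : c * d * c⁻¹ ∈ midQ g := by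
  refine ⟨conj_mem (g.norm hc) hd.1, fun r hr => ?_⟩
  have hr' := conj_mem (inv_mem (g.norm hc)) hr
  rw [inv_inv] at hr'
  rw [show ⁅c * d * c⁻¹, r⁆ = c * ⁅d, c⁻¹ * r * c⁆ * c⁻¹ by simp only [commutatorElement_def]; group]
  obtain ⟨k, hk⟩ := mem_zpowers_iff.1 (hd.2 _ hr')
  rw [← hk, ((mem_cz.1 hc).zpow_right k).eq, mul_inv_cancel_right]
  exact zpow_mem (mem_zpowers _) k

/-- A nontrivial normal subgroup of `Q` above the involution meets the elements central modulo it. -/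
theorem meets_mid {Y : Subgroup G} (hY : Y ≤ Q) (hYn : ∀ r ∈ Q, ∀ y ∈ Y, r * y * r⁻¹ ∈ Y)
    (hne : ¬ Y ≤ zpowers (t ^ 3)) : ∃ y ∈ Y, y ∈ midQ g ∧ y ∉ zpowers (t ^ 3) := by
  have : Fact (Nat.Prime 2) := ⟨Nat.prime_two⟩
  set N := (zpowers (t ^ 3)).subgroupOf Q with hN
  haveI : N.Normal := ⟨fun n hn r => by
    rw [hN, mem_subgroupOf] at hn ⊢
    show (r : G) * n * (r : G)⁻¹ ∈ _
    rw [(h.z_comm g r.2 hn).eq, mul_inv_cancel_right]; exact hn⟩
  haveI : (Y.subgroupOf Q).Normal := ⟨fun n hn r => by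
    rw [mem_subgroupOf] at hn ⊢
    exact hYn r r.2 n hn⟩
  set q := QuotientGroup.mk' N
  haveI : ((Y.subgroupOf Q).map q).Normal := Normal.map inferInstance q (QuotientGroup.mk'_surjective N)
  haveI := g.two.to_quotient N |>.isNilpotent
  have hb : (Y.subgroupOf Q).map q ≠ ⊥ := by
    intro e
    rw [Subgroup.map_eq_bot_iff, QuotientGroup.ker_mk'] at e
    exact hne fun y hy => by
      have := e (show (⟨y, hY hy⟩ : Q) ∈ Y.subgroupOf Q from mem_subgroupOf.2 hy)
      rwa [hN, mem_subgroupOf] at this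
  obtain ⟨v, hv, hv1⟩ := (Subgroup.bot_or_exists_ne_one _).resolve_left
    (Cfsg.Lib.Coprime.inf_center_ne_bot ((Y.subgroupOf Q).map q) hb)
  obtain ⟨⟨y, hyY, hyv⟩, hvc⟩ := hv
  refine ⟨y, mem_subgroupOf.1 hyY, ⟨y.2, fun r hr => ?_⟩, fun hm => hv1 ?_⟩
  · have h1 : q ⁅y, ⟨r, hr⟩⁆ = 1 := by
      rw [map_commutatorElement, hyv]
      exact commutatorElement_eq_one_iff_commute.2 (mem_center_iff.1 hvc _).symm
    have h2 := (QuotientGroup.eq_one_iff _).1 h1
    rwa [hN, mem_subgroupOf] at h2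
  · rw [← hyv]
    exact (QuotientGroup.eq_one_iff _).2 (mem_subgroupOf.2 hm)

/-- Apart from two exceptions there is a line. -/
theorem q_shape : Nat.card Q = 2 ∨ (Nat.card Q = 8 ∧ ∀ q ∈ Q, q * q = 1 → q ∈ zpowers (t ^ 3)) ∨
    ∃ e, Line t Q e := by
  classical
  by_cases hl : ∃ e, Line t Q e
  · exact Or.inr (Or.inr hl)
  push Not at hl
  by_cases hQz : Q ≤ zpowers (t ^ 3)
  · left
    rw [le_antisymm hQz (h.zle g), h.card_z]
  have hz := h.zle g
  have hsq : ∀ d ∈ midQ g, d ∉ zpowers (t ^ 3) → d * d = t ^ 3 := by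
    intro d hd hdz
    rcases h.mem_zpowers_z.1 (h.center_le g (fun e he _ => hl e he) (mul_mem hd.1 hd.1)
      fun r hr => h.mid_sq g hd hr) with e | e
    · exact absurd ⟨hd.1, hd.2, e, hdz⟩ (hl d)
    · exact e
  obtain ⟨a, haQ, ha, haz⟩ := h.meets_mid g le_rfl (fun r hr y hy => mul_mem (mul_mem hr hy) (inv_mem hr)) hQz
  set b := t ^ 2 * a * (t ^ 2)⁻¹ with hb
  have hbm : b ∈ midQ g := h.mid_conj g ha h.x_mem
  have hxa : b * a⁻¹ ∉ zpowers (t ^ 3) := fun hm => haz (h.x_mod g ha.1 hm)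
  have hbz : b ∉ zpowers (t ^ 3) := fun hm => haz (by
    have hc : Commute (t ^ 2) b := by
      obtain ⟨k, hk⟩ := mem_zpowers_iff.1 hm
      rw [← hk]; exact (Commute.pow_pow_self t 2 3).zpow_right k
    have : a = b := by
      calc a = (t ^ 2)⁻¹ * b * t ^ 2 := by rw [hb]; group
        _ = b := by rw [mul_assoc, ← hc.eq, inv_mul_cancel_left]
    rwa [this])
  have haa := hsq a ha haz
  have hbb := hsq b hbm hbz
  have hab : a * b ∉ zpowers (t ^ 3) := fun hm => hxa (by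
    have : b * a⁻¹ = (a * a)⁻¹ * (a * (a * b) * a⁻¹) := by group
    rw [this, (h.z_comm g ha.1 hm).eq, mul_inv_cancel_right, haa]
    exact mul_mem (inv_mem (mem_zpowers _)) hm)
  have habb := hsq (a * b) (mul_mem ha hbm) hab
  have hcom : ⁅a, b⁆ = t ^ 3 := by
    have hc := h.z_comm g hbm.1 (inv_mem (mem_zpowers (t ^ 3)))
    calc ⁅a, b⁆ = (a * b) * a⁻¹ * b⁻¹ := rfl
      _ = (a * b * (a * b)) * (b⁻¹ * (a * a)⁻¹ * b⁻¹) := by group
      _ = t ^ 3 * (b⁻¹ * (t ^ 3)⁻¹ * b⁻¹) := by rw [habb, haa]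
      _ = t ^ 3 * ((t ^ 3)⁻¹ * (b * b)⁻¹) := by rw [hc.inv_left.eq]; group
      _ = (t ^ 3)⁻¹ := by rw [hbb]; group
      _ = t ^ 3 := h.zinv g
  set Y := Q ⊓ centralizer ({a, b} : Set G) with hY
  have hYz : Y ≤ zpowers (t ^ 3) := by
    by_contra hne
    have hYn : ∀ r ∈ Q, ∀ y ∈ Y, r * y * r⁻¹ ∈ Y := by
      intro r hr y hy
      refine mem_inf.2 ⟨mul_mem (mul_mem hr hy.1) (inv_mem hr), mem_centralizer_iff.2 fun v hv => ?_⟩
      have hv' : v ∈ midQ g := by
        rcases hv with rfl | rfl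
        exacts [ha, hbm]
      have hcy : Commute y v := (mem_centralizer_iff.1 hy.2 v hv).symm
      have hk := hv'.2 r⁻¹ (inv_mem hr)
      have hcy' : Commute y (r⁻¹ * v * r) := by
        have e : r⁻¹ * v * r = ⁅v, r⁻¹⁆⁻¹ * v := by rw [commutatorElement_def]; group
        rw [e]
        exact (h.z_comm g hy.1 (inv_mem hk)).mul_right hcy
      have h3 : Commute (r * y * r⁻¹) (r * (r⁻¹ * v * r) * r⁻¹) := (commute_conj h).2 hcy'
      rw [show r * (r⁻¹ * v * r) * r⁻¹ = v by group] at h3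
      exact h3.symm.eq
    obtain ⟨y, hy, hym, hyz⟩ := h.meets_mid g inf_le_left hYn hne
    have hya : Commute y a := (mem_centralizer_iff.1 hy.2 a (Or.inl rfl)).symm
    have hyb : Commute y b := (mem_centralizer_iff.1 hy.2 b (Or.inr rfl)).symm
    have h1 : y * a * (y * a) = 1 := by
      rw [hya.symm.mul_mul_mul_comm, hsq y hym hyz, haa, h.zz g]
    by_cases h2 : y * a ∈ zpowers (t ^ 3)
    · have hc : Commute a b := by
        have h3 : Commute ((y * a)⁻¹) b := (h.z_comm g hbm.1 (inv_mem h2)).symm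
        have h4 : Commute ((y * a)⁻¹ * y)⁻¹ b := (h3.mul_left hyb).inv_left
        rwa [show ((y * a)⁻¹ * y)⁻¹ = y⁻¹ * y * a by group, inv_mul_cancel, one_mul] at h4
      rw [commutatorElement_eq_one_iff_commute.2 hc] at hcom
      exact h.z_ne_one g hcom.symm
    · exact hl _ ⟨mul_mem hy.1 ha.1, (mul_mem hym ha : y * a ∈ midQ g).2, h1, h2⟩
  have hcases : ∀ q ∈ Q, ∃ p ∈ ({1, a, b, a * b} : Set G), p⁻¹ * q ∈ zpowers (t ^ 3) := by
    intro q hq
    have hpa : ∀ p, p ∈ Q → ⁅a, p⁆ = ⁅a, q⁆ → ⁅b, p⁆ = ⁅b, q⁆ → p⁻¹ * q ∈ zpowers (t ^ 3) := by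
      intro p hp e1 e2
      refine hYz (mem_inf.2 ⟨mul_mem (inv_mem hp) hq, mem_centralizer_iff.2 fun v hv => ?_⟩)
      have key : ∀ v, v ∈ midQ g → ⁅v, p⁆ = ⁅v, q⁆ → v * (p⁻¹ * q) = p⁻¹ * q * v := by
        intro v hv e
        rw [commutatorElement_def, commutatorElement_def] at e
        calc v * (p⁻¹ * q) = (v * p⁻¹ * v⁻¹) * (v * q * v⁻¹) * v := by group
          _ = (v * p⁻¹ * v⁻¹) * (v * q * v⁻¹ * q⁻¹) * q * v := by group
          _ = (v * p⁻¹ * v⁻¹) * (v * p * v⁻¹ * p⁻¹) * q * v := by rw [e]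
          _ = p⁻¹ * q * v := by group
      rcases hv with rfl | rfl
      exacts [key _ ha e1, key _ hbm e2]
    have hba : ⁅b, a⁆ = t ^ 3 := by rw [← commutatorElement_inv, hcom, h.zinv g]
    have haab : ⁅a, a * b⁆ = t ^ 3 := by
      rw [show ⁅a, a * b⁆ = a * ⁅a, b⁆ * a⁻¹ by simp only [commutatorElement_def]; group, hcom,
        (mem_cz.1 (g.le ha.1)).eq, mul_inv_cancel_right]
    have hbab : ⁅b, a * b⁆ = t ^ 3 := by
      rw [show ⁅b, a * b⁆ = ⁅b, a⁆ * (a * ⁅b, b⁆ * a⁻¹) by simp only [commutatorElement_def]; group, hba,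
        commutatorElement_self, mul_one, mul_inv_cancel, mul_one]
    rcases h.mem_zpowers_z.1 (ha.2 q hq) with e1 | e1 <;> rcases h.mem_zpowers_z.1 (hbm.2 q hq) with e2 | e2
    · exact ⟨1, by simp, hpa 1 Q.one_mem (by simp [e1]) (by simp [e2])⟩
    · exact ⟨a, by simp, hpa a ha.1 (by rw [e1, commutatorElement_self]) (by rw [e2, hba])⟩
    · exact ⟨b, by simp, hpa b hbm.1 (by rw [e1, hcom]) (by rw [e2, commutatorElement_self])⟩
    · exact ⟨a * b, by simp, hpa _ (mul_mem ha.1 hbm.1) (by rw [e1, haab]) (by rw [e2, hbab])⟩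
  refine Or.inr (Or.inl ⟨?_, fun q hq hq2 => ?_⟩)
  · have hle : Nat.card Q ≤ 8 := by
      have hsub : (Q : Set G) ⊆
          (fun p : G × G => p.1 * p.2) '' (({1, a, b, a * b} : Set G) ×ˢ ({1, t ^ 3} : Set G)) := by
        intro q hq
        obtain ⟨p, hp, hpq⟩ := hcases q hq
        exact ⟨(p, p⁻¹ * q), ⟨hp, h.mem_zpowers_z.1 hpq⟩, mul_inv_cancel_left p q⟩
      calc Nat.card Q = (Q : Set G).ncard := rfl
        _ ≤ _ := Set.ncard_le_ncard hsub
        _ ≤ _ := Set.ncard_image_le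
        _ ≤ 4 * 2 := by
          rw [Set.ncard_prod]
          exact Nat.mul_le_mul (((Set.ncard_insert_le _ _).trans (Nat.add_le_add_right
            ((Set.ncard_insert_le _ _).trans (Nat.add_le_add_right ((Set.ncard_insert_le _ _).trans
              (by rw [Set.ncard_singleton])) 1)) 1)).trans (by norm_num))
            ((Set.ncard_insert_le _ _).trans (by rw [Set.ncard_singleton]))
    have hmod := h.fib_mod g
    obtain ⟨n, hn⟩ := g.two.exists_card_eq
    rw [hn] at hle hmod ⊢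
    have hn3 : n ≤ 3 := (Nat.pow_le_pow_iff_right (by norm_num)).1 (hle.trans_eq (by norm_num : 8 = 2 ^ 3))
    have hne2 : 2 ^ n ≠ 2 := fun e => hQz (by
      rw [eq_of_le_of_card_ge hz (by rw [hn, e, h.card_z])])
    interval_cases n <;> simp_all
  · obtain ⟨p, hp, hpq⟩ := hcases q hq
    have hq' : q = p * (p⁻¹ * q) := by group
    have hpQ : p ∈ Q := by
      rcases hp with rfl | rfl | rfl | rfl
      exacts [Q.one_mem, ha.1, hbm.1, mul_mem ha.1 hbm.1]
    have hpp : p * p = 1 := by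
      have hc := h.z_comm g hpQ hpq
      rw [hq', hc.symm.mul_mul_mul_comm] at hq2
      have h2 : p⁻¹ * q * (p⁻¹ * q) = 1 := by
        rcases h.mem_zpowers_z.1 hpq with e | e <;> rw [e]
        exacts [one_mul 1, h.zz g]
      rwa [h2, mul_one] at hq2
    rcases hp with rfl | rfl | rfl | rfl
    · simpa using hpq
    · exact absurd (haa.symm.trans hpp) (h.z_ne_one g)
    · exact absurd (hbb.symm.trans hpp) (h.z_ne_one g)
    · exact absurd (habb.symm.trans hpp) (h.z_ne_one g)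

/-- A conjugation invariant set with `2 (mod 4)` elements contains an element fixed modulo the involution. -/
theorem fixed_class {P : Subgroup G} (hP : IsPGroup 2 P) (hPC : P ≤ cz t) {W : Set G} (hW : W ⊆ (Q : Set G))
    (hconj : ∀ s ∈ P, ∀ w ∈ W, s * w * s⁻¹ ∈ W) (hz : ∀ w ∈ W, w * t ^ 3 ∈ W) (h2 : W.ncard % 4 = 2) :
    ∃ w ∈ W, ∀ s ∈ P, (s * w * s⁻¹) * w⁻¹ ∈ zpowers (t ^ 3) := by
  classical
  have : Fact (Nat.Prime 2) := ⟨Nat.prime_two⟩
  haveI := h.normal_z
  set N := (zpowers (t ^ 3)).subgroupOf (cz t) with hN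
  let q : cz t →* cz t ⧸ N := QuotientGroup.mk' N
  let W' : Set (cz t) := Subtype.val ⁻¹' W
  let Y : Set (cz t ⧸ N) := q '' W'
  have hpre : q ⁻¹' Y = W' := by
    refine Set.Subset.antisymm ?_ (Set.subset_preimage_image q W')
    rintro a ⟨w, hw, e⟩
    obtain ⟨n, hn, e'⟩ := (QuotientGroup.mk'_eq_mk' N).1 e
    rw [← e']
    show (w : G) * n ∈ W
    rw [hN, mem_subgroupOf] at hn
    rcases h.mem_zpowers_z.1 hn with e1 | e1 <;> rw [e1]
    · rw [mul_one]; exact hw
    · exact hz _ hw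
  have hcard : W.ncard = 2 * Nat.card Y := by
    have e1 : W.ncard = Nat.card W' := by
      rw [← Nat.card_coe_set_eq]
      exact Nat.card_congr ⟨fun w => ⟨⟨w.1, g.le (hW w.2)⟩, w.2⟩, fun w => ⟨w.1.1, w.2⟩, fun _ => rfl, fun _ => rfl⟩
    rw [e1, ← hpre]
    show Nat.card (QuotientGroup.mk ⁻¹' Y : Set (cz t)) = _
    rw [Nat.card_congr (QuotientGroup.preimageMkEquivSubgroupProdSet N Y), Nat.card_prod,
      Nat.card_congr (subgroupOfEquivOfLe h.zpowers_z_le).toEquiv, h.card_z]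
  let ι : P →* cz t := Subgroup.inclusion hPC
  have hY : ∀ (s : P) (y : cz t ⧸ N), y ∈ Y → q (ι s) * y * (q (ι s))⁻¹ ∈ Y := by
    rintro s - ⟨w, hw, rfl⟩
    exact ⟨ι s * w * (ι s)⁻¹, hconj s s.2 w hw, by rw [map_mul, map_mul, map_inv]⟩
  letI : MulAction P Y :=
    { smul := fun s y => ⟨q (ι s) * y * (q (ι s))⁻¹, hY s y y.2⟩
      one_smul := fun y => Subtype.ext (by
        show q (ι 1) * (y : cz t ⧸ N) * (q (ι 1))⁻¹ = y
        simp)
      mul_smul := fun a b y => Subtype.ext (by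
        show q (ι (a * b)) * (y : cz t ⧸ N) * (q (ι (a * b)))⁻¹ = _
        rw [map_mul, map_mul, mul_inv_rev]
        show _ = q (ι a) * (q (ι b) * (y : cz t ⧸ N) * (q (ι b))⁻¹) * (q (ι a))⁻¹
        group) }
  obtain ⟨⟨y, w, hw, rfl⟩, hy⟩ := hP.nonempty_fixed_point_of_prime_not_dvd_card Y (by omega)
  refine ⟨w, hw, fun s hs => ?_⟩
  have h1 : q (ι ⟨s, hs⟩ * w * (ι ⟨s, hs⟩)⁻¹ * w⁻¹) = 1 := by
    have h2 : q (ι ⟨s, hs⟩) * q w * (q (ι ⟨s, hs⟩))⁻¹ = q w := congrArg Subtype.val (hy ⟨s, hs⟩)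
    rw [map_mul, map_mul, map_mul, map_inv, map_inv, h2, mul_inv_cancel]
  have h3 := (QuotientGroup.eq_one_iff _).1 h1
  rw [hN, mem_subgroupOf] at h3
  exact h3

omit g in
theorem two_sub_two {n : ℕ} (h4 : 4 ∣ n) (h2 : 2 ≤ n) : (n - 2) % 4 = 2 := by omega

/-- A line fixed by a two-subgroup of the centraliser modulo the involution. -/
theorem exists_fixed_line {P : Subgroup G} (hP : IsPGroup 2 P) (hPC : P ≤ cz t) (hl : ∃ e, Line t Q e) :
    ∃ e, Line t Q e ∧ ∀ s ∈ P, (s * e * s⁻¹) * e⁻¹ ∈ zpowers (t ^ 3) := by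
  classical
  have : Fact (Nat.Prime 2) := ⟨Nat.prime_two⟩
  have hz1 := h.z_ne_one g
  have hzset : ((zpowers (t ^ 3) : Subgroup G) : Set G).ncard = 2 := h.card_z
  have mk : ∀ E : Set G, (∀ e ∈ E, e ∈ Q ∧ e * e = 1 ∧ ∀ r ∈ Q, ⁅e, r⁆ ∈ zpowers (t ^ 3)) →
      (∀ s ∈ P, ∀ e ∈ E, s * e * s⁻¹ ∈ E) → (∀ e ∈ E, e * t ^ 3 ∈ E) →
      ((zpowers (t ^ 3) : Subgroup G) : Set G) ⊆ E → 4 ∣ E.ncard →
      ∃ e, Line t Q e ∧ ∀ s ∈ P, (s * e * s⁻¹) * e⁻¹ ∈ zpowers (t ^ 3) := by
    intro E hE hconj hzE hzsub h4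
    have hc : (E \ (zpowers (t ^ 3) : Set G)).ncard % 4 = 2 := by
      rw [Set.ncard_sdiff hzsub, hzset]
      exact h.two_sub_two h4 (hzset ▸ Set.ncard_le_ncard hzsub)
    obtain ⟨w, hw, hfix⟩ := h.fixed_class g hP hPC (W := E \ (zpowers (t ^ 3) : Set G))
      (fun e he => (hE e he.1).1)
      (fun s hs e he => ⟨hconj s hs e he.1, fun hm => he.2 (by
        have : e = s⁻¹ * (s * e * s⁻¹) * s := by group
        rw [this]
        obtain ⟨k, hk⟩ := mem_zpowers_iff.1 hm
        rw [← hk, mul_assoc, ← ((mem_cz.1 (hPC hs)).zpow_right k).eq, inv_mul_cancel_left]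
        exact zpow_mem (mem_zpowers _) k)⟩)
      (fun e he => ⟨hzE e he.1, fun hm => he.2 ((mul_mem_cancel_right (mem_zpowers _)).1 hm)⟩) hc
    exact ⟨w, ⟨(hE w hw.1).1, (hE w hw.1).2.2, (hE w hw.1).2.1, hw.2⟩, hfix⟩
  by_cases hcen : ∃ w ∈ Q, (∀ r ∈ Q, Commute w r) ∧ w ∉ zpowers (t ^ 3)
  · obtain ⟨w, hwQ, hwc, hwz⟩ := hcen
    obtain ⟨e, he, hec⟩ := h.central_line g hwQ hwc hwz
    let E : Subgroup G :=
      { carrier := {a | a ∈ Q ∧ a * a = 1 ∧ ∀ r ∈ Q, Commute a r}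
        one_mem' := ⟨Q.one_mem, one_mul 1, fun r _ => Commute.one_left r⟩
        mul_mem' := fun {a b} ha hb => ⟨mul_mem ha.1 hb.1, by
          rw [(ha.2.2 b hb.1).symm.mul_mul_mul_comm, ha.2.1, hb.2.1, one_mul],
          fun r hr => (ha.2.2 r hr).mul_left (hb.2.2 r hr)⟩
        inv_mem' := fun {a} ha => ⟨inv_mem ha.1, by rw [← mul_inv_rev, ha.2.1, inv_one],
          fun r hr => (ha.2.2 r hr).inv_left⟩ }
    have hzE : t ^ 3 ∈ E := ⟨g.z_mem, h.zz g, fun r hr => (mem_cz.1 (g.le hr)).symm⟩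
    refine mk (E : Set G) (fun a ha => ⟨ha.1, ha.2.1, fun r hr => by
        rw [commutatorElement_eq_one_iff_commute.2 (ha.2.2 r hr)]; exact one_mem _⟩)
      (fun s hs a ha => ⟨conj_mem (g.norm (hPC hs)) ha.1, by
        rw [show s * a * s⁻¹ * (s * a * s⁻¹) = s * (a * a) * s⁻¹ by group, ha.2.1]; group, fun r hr => by
        have := conj_mem (inv_mem (g.norm (hPC hs))) hr
        rw [inv_inv] at this
        rw [show r = s * (s⁻¹ * r * s) * s⁻¹ by group]
        exact (commute_conj h).2 (ha.2.2 _ this)⟩)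
      (fun a ha => mul_mem (show a ∈ E from ha) hzE) (zpowers_le.2 hzE) ?_
    show 4 ∣ Nat.card E
    have h2 : IsPGroup 2 E := g.two.to_le fun a ha => ha.1
    obtain ⟨n, hn⟩ := h2.exists_card_eq
    rw [hn]
    have h3 : 2 < Nat.card E := by
      have hsub : ({1, t ^ 3, e} : Set G) ⊆ (E : Set G) := by
        rintro v (rfl | rfl | rfl)
        exacts [E.one_mem, hzE, ⟨he.mem, he.sq, hec⟩]
      have := Set.ncard_le_ncard hsub
      rw [Set.ncard_insert_of_notMem, Set.ncard_pair] at this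
      · exact this
      · exact fun e1 => he.nz (e1 ▸ mem_zpowers _)
      · simp only [Set.mem_insert_iff, Set.mem_singleton_iff, not_or]
        exact ⟨hz1.symm, fun e1 => he.nz (e1 ▸ one_mem _)⟩
    rw [hn] at h3
    rcases n with - | - | n
    · norm_num at h3
    · norm_num at h3
    · exact ⟨2 ^ n, by rw [pow_add]; ring⟩
  push Not at hcen
  obtain ⟨e, he⟩ := hl
  let E : Set G := {a | a ∈ Q ∧ a * a = 1 ∧ ∀ r ∈ Q, ⁅a, r⁆ ∈ zpowers (t ^ 3)}
  refine mk E (fun a ha => ha) (fun s hs a ha => ⟨conj_mem (g.norm (hPC hs)) ha.1,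
      by rw [show s * a * s⁻¹ * (s * a * s⁻¹) = s * (a * a) * s⁻¹ by group, ha.2.1]; group,
      (h.mid_conj g (show a ∈ midQ g from ⟨ha.1, ha.2.2⟩) (hPC hs)).2⟩)
    (fun a ha => ⟨mul_mem ha.1 g.z_mem, by
      rw [(h.z_comm g ha.1 (mem_zpowers _)).symm.mul_mul_mul_comm, ha.2.1, h.zz g, one_mul],
      (mul_mem (show a ∈ midQ g from ⟨ha.1, ha.2.2⟩)
        (show t ^ 3 ∈ midQ g from ⟨g.z_mem, fun r hr => by
          rw [commutatorElement_eq_one_iff_commute.2 (mem_cz.1 (g.le hr)).symm]; exact one_mem _⟩)).2⟩)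
    ?_ ?_
  · rintro v hv
    have hvQ : v ∈ Q := h.zle g hv
    refine ⟨hvQ, ?_, fun r hr => by
      rw [commutatorElement_eq_one_iff_commute.2 (h.z_comm g hr hv).symm]; exact one_mem _⟩
    rcases h.mem_zpowers_z.1 hv with rfl | rfl
    exacts [one_mul 1, h.zz g]
  -- the involutions central modulo the involution come in fours
  have heM : e ∈ midQ g := ⟨he.mem, he.comm⟩
  have hzM : t ^ 3 ∈ midQ g := ⟨g.z_mem, fun r hr => by
    rw [commutatorElement_eq_one_iff_commute.2 (mem_cz.1 (g.le hr)).symm]; exact one_mem _⟩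
  set D := midQ g
  set C₀ := D ⊓ centralizer ({e} : Set G) with hC₀
  have hdsq : ∀ d ∈ D, d * d = 1 ∨ d * d = t ^ 3 := fun d hd =>
    h.mem_zpowers_z.1 (hcen _ (mul_mem hd.1 hd.1) fun r hr => h.mid_sq g hd hr)
  let F : Subgroup G := zpowers (t ^ 3) ⊔ zpowers e
  haveI := h.normal_z
  have hFc : Nat.card F = 4 := by
    have hFset : (F : Set G) = {1, t ^ 3, e, t ^ 3 * e} := by
      have hc : Commute e (t ^ 3) := mem_cz.1 (g.le he.mem)
      refine Set.Subset.antisymm ?_ ?_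
      · intro v hv
        have hn : zpowers e ≤ normalizer ((zpowers (t ^ 3) : Subgroup G) : Set G) := by
          rw [zpowers_le]
          exact le_normalizer_of_normal_subgroupOf (H := zpowers (t ^ 3)) (K := cz t) h.zpowers_z_le
            (g.le he.mem)
        rw [SetLike.mem_coe, ← SetLike.mem_coe, show (F : Set G) = _ from
          coe_mul_of_right_le_normalizer_left _ _ hn] at hv
        obtain ⟨p, hp, q, hq, rfl⟩ := hv
        obtain ⟨k, rfl⟩ := Submonoid.mem_powers_iff _ _ |>.1 (mem_powers_iff_mem_zpowers.2 hq)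
        have hk : e ^ k = 1 ∨ e ^ k = e := by
          rcases Nat.even_or_odd' k with ⟨j, rfl | rfl⟩
          · left; rw [pow_mul, pow_two, he.sq, one_pow]
          · right; rw [pow_succ, pow_mul, pow_two, he.sq, one_pow, one_mul]
        rcases h.mem_zpowers_z.1 hp with rfl | rfl <;> rcases hk with e1 | e1 <;> simp [e1]
      · rintro v (rfl | rfl | rfl | rfl)
        exacts [F.one_mem, mem_sup_left (mem_zpowers _), mem_sup_right (mem_zpowers _),
          mul_mem (mem_sup_left (mem_zpowers _)) (mem_sup_right (mem_zpowers _))]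
    show Set.ncard (F : Set G) = 4
    have n1 : e ≠ 1 := fun e1 => he.nz (e1 ▸ one_mem _)
    have n2 : e ≠ t ^ 3 := fun e1 => he.nz (e1 ▸ mem_zpowers _)
    have n3 : t ^ 3 * e ≠ 1 := fun e1 => he.nz (by rw [eq_inv_of_mul_eq_one_right e1]; exact inv_mem (mem_zpowers _))
    have n4 : t ^ 3 * e ≠ t ^ 3 := fun e1 => n1 (mul_eq_left.1 e1)
    have n5 : t ^ 3 * e ≠ e := fun e1 => hz1 (mul_eq_right.1 e1)
    rw [hFset, Set.ncard_insert_of_notMem, Set.ncard_insert_of_notMem, Set.ncard_pair n5.symm] <;>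
      simp [hz1.symm, n1.symm, n2.symm, n3.symm, n4.symm]
  have hFset2 : ∀ v ∈ F, v ∈ zpowers (t ^ 3) ∨ e * v ∈ zpowers (t ^ 3) := by
    intro v hv
    have hn' : zpowers e ≤ normalizer ((zpowers (t ^ 3) : Subgroup G) : Set G) := by
      rw [zpowers_le]
      exact le_normalizer_of_normal_subgroupOf (H := zpowers (t ^ 3)) (K := cz t) h.zpowers_z_le
        (g.le he.mem)
    rw [← SetLike.mem_coe, show (F : Set G) = _ from coe_mul_of_right_le_normalizer_left _ _ hn'] at hv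
    obtain ⟨p, hp, q, hq, rfl⟩ := hv
    obtain ⟨k, rfl⟩ := Submonoid.mem_powers_iff _ _ |>.1 (mem_powers_iff_mem_zpowers.2 hq)
    rcases Nat.even_or_odd' k with ⟨j, rfl | rfl⟩
    · left; show p * e ^ (2 * j) ∈ _; rw [pow_mul, pow_two, he.sq, one_pow, mul_one]; exact hp
    · right
      show e * (p * e ^ (2 * j + 1)) ∈ _
      rw [show e ^ (2 * j + 1) = e by rw [pow_succ, pow_mul, pow_two, he.sq, one_pow, one_mul], ← mul_assoc,
        (h.z_comm g he.mem hp).eq, mul_assoc, he.sq, mul_one]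
      exact hp
  -- inside the centraliser
  let A : Set G := E ∩ {a | Commute a e}
  let B : Set G := {a | a ∈ D ∧ ¬ Commute a e}
  have hEsplit : E = A ∪ (E ∩ B) := by
    ext a
    refine ⟨fun ha => ?_, fun ha => ha.elim (fun h => h.1) fun h => h.1⟩
    by_cases hc : Commute a e
    exacts [Or.inl ⟨ha, hc⟩, Or.inr ⟨ha, ⟨ha.1, ha.2.2⟩, hc⟩]
  have hdisj : Disjoint A (E ∩ B) := Set.disjoint_left.2 fun a ha hb => hb.2.2 ha.2
  have hA4 : 4 ∣ A.ncard := by
    have hclosed : ∀ a ∈ A, ∀ f ∈ F, a * f ∈ A := by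
      intro a ha f hf
      have hfM : f ∈ D := (sup_le (zpowers_le.2 hzM) (zpowers_le.2 heM) : F ≤ D) hf
      have hcle : F ≤ centralizer ({e} : Set G) := sup_le
        (zpowers_le.2 (mem_centralizer_singleton_iff.2 (mem_cz.1 (g.le he.mem)).symm.eq))
        (zpowers_le.2 (mem_centralizer_singleton_iff.2 rfl))
      have hca : F ≤ centralizer ({a} : Set G) := sup_le
        (zpowers_le.2 (mem_centralizer_singleton_iff.2 (mem_cz.1 (g.le ha.1.1)).symm.eq))
        (zpowers_le.2 (mem_centralizer_singleton_iff.2 (show Commute a e from ha.2).symm.eq))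
      have hff : f * f = 1 := by
        rcases hFset2 f hf with hm | hm
        · rcases h.mem_zpowers_z.1 hm with rfl | rfl
          exacts [one_mul 1, h.zz g]
        · have hfQ : f ∈ Q := hfM.1
          have hc : Commute e f := (show Commute f e from mem_centralizer_singleton_iff.1 (hcle hf)).symm
          have h2 : e * f * (e * f) = 1 := by
            rcases h.mem_zpowers_z.1 hm with e1 | e1 <;> rw [e1]
            exacts [one_mul 1, h.zz g]
          rw [hc.symm.mul_mul_mul_comm, he.sq, one_mul] at h2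
          exact h2
      exact ⟨⟨mul_mem ha.1.1 hfM.1, by
          rw [(show Commute f a from mem_centralizer_singleton_iff.1 (hca hf)).mul_mul_mul_comm, ha.1.2.1, hff,
            one_mul], (mul_mem (show a ∈ D from ⟨ha.1.1, ha.1.2.2⟩) hfM).2⟩,
        (show Commute a e from ha.2).mul_left (mem_centralizer_singleton_iff.1 (hcle hf))⟩
    have hpre : (QuotientGroup.mk : G → G ⧸ F) ⁻¹' (QuotientGroup.mk '' A) = A := by
      refine Set.Subset.antisymm ?_ (Set.subset_preimage_image _ A)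
      rintro b ⟨a, ha, e1⟩
      rw [QuotientGroup.eq] at e1
      have := hclosed a ha _ e1
      rwa [mul_inv_cancel_left] at this
    rw [← Nat.card_coe_set_eq, ← hpre, Nat.card_congr (QuotientGroup.preimageMkEquivSubgroupProdSet F _),
      Nat.card_prod, hFc]
    exact Dvd.intro _ rfl
  -- outside the centraliser exactly half are involutions
  have hB : 4 ∣ (E ∩ B).ncard := by
    rcases Set.eq_empty_or_nonempty B with hBe | ⟨b, hb⟩
    · rw [hBe, Set.inter_empty, Set.ncard_empty]; exact dvd_zero 4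
    have hswap : ∀ d ∈ B, d * e ∈ B ∧ d * e * (d * e) = d * d * t ^ 3 := by
      intro d hd
      refine ⟨⟨mul_mem hd.1 heM, fun hc => hd.2 ?_⟩, ?_⟩
      · have := hc.mul_left (Commute.refl e)
        rwa [mul_assoc, he.sq, mul_one] at this
      · have hk : ⁅e, d⁆ = t ^ 3 := (h.mem_zpowers_z.1 (he.comm d hd.1.1)).resolve_left fun e1 =>
          hd.2 (commutatorElement_eq_one_iff_commute.1 e1).symm
        rw [commutatorElement_def, inv_eq_of_mul_eq_one_right he.sq] at hk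
        calc d * e * (d * e) = d * (e * d * e * d⁻¹) * d := by group
          _ = d * t ^ 3 * d := by rw [hk]
          _ = d * d * t ^ 3 := by rw [mul_assoc, ← (mem_cz.1 (g.le hd.1.1)).eq, mul_assoc]
    have hhalf : (E ∩ B).ncard * 2 = B.ncard := by
      have h1 : (E ∩ B).ncard = (B \ E).ncard := by
        refine Set.ncard_congr (fun d _ => d * e) (fun d hd => ?_) (fun a b _ _ e1 => mul_right_cancel e1)
          fun d hd => ?_
        · obtain ⟨h1, h2⟩ := hswap d hd.2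
          refine ⟨h1, fun hE => hz1 ?_⟩
          rw [hE.2.1, hd.1.2.1, one_mul] at h2
          exact h2.symm
        · obtain ⟨h1, h2⟩ := hswap d hd.1
          refine ⟨d * e, ⟨⟨h1.1.1, ?_, h1.1.2⟩, h1⟩, by rw [mul_assoc, he.sq, mul_one]⟩
          rw [h2]
          rcases hdsq d hd.1.1 with e1 | e1
          · exact absurd ⟨hd.1.1.1, e1, hd.1.1.2⟩ hd.2
          · rw [e1, h.zz g]
      have h2 := Set.ncard_inter_add_ncard_sdiff_eq_ncard B E
      rw [Set.inter_comm] at h2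
      omega
    -- the outside is a coset of a subgroup of index two
    have hBc : 8 ∣ B.ncard := by
      have hxe := h.four g he
      set e' := t ^ 2 * e * (t ^ 2)⁻¹
      have he'C : e' ∈ C₀ := ⟨h.mid_conj g heM h.x_mem, mem_centralizer_singleton_iff.2 hxe.1.symm.eq⟩
      have hBeq : B = (fun c => b * c) '' (C₀ : Set G) := by
        ext d
        constructor
        · intro hd
          refine ⟨b⁻¹ * d, mem_inf.2 ⟨mul_mem (inv_mem hb.1) hd.1, mem_centralizer_singleton_iff.2 ?_⟩,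
            mul_inv_cancel_left b d⟩
          have k1 : ⁅e, b⁆ = ⁅e, d⁆ := by
            rw [(h.mem_zpowers_z.1 (he.comm b hb.1.1)).resolve_left fun e1 =>
                hb.2 (commutatorElement_eq_one_iff_commute.1 e1).symm,
              (h.mem_zpowers_z.1 (he.comm d hd.1.1)).resolve_left fun e1 =>
                hd.2 (commutatorElement_eq_one_iff_commute.1 e1).symm]
          rw [commutatorElement_def, commutatorElement_def] at k1
          calc b⁻¹ * d * e = b⁻¹ * (e * b * e⁻¹ * b⁻¹)⁻¹ * (e * b * e⁻¹ * b⁻¹) * d * e := by group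
            _ = b⁻¹ * (e * b * e⁻¹ * b⁻¹)⁻¹ * (e * d * e⁻¹ * d⁻¹) * d * e := by rw [k1]
            _ = e * (b⁻¹ * d) := by group
        · rintro ⟨c, hc, rfl⟩
          refine ⟨mul_mem hb.1 hc.1, fun hcc => hb.2 ?_⟩
          have := hcc.mul_left ((show Commute c e from mem_centralizer_singleton_iff.1 hc.2).inv_left)
          rwa [mul_inv_cancel_right] at this
      rw [hBeq, Set.ncard_image_of_injective _ (mul_right_injective b)]
      show 8 ∣ Nat.card C₀
      obtain ⟨n, hn⟩ := (g.two.to_le (fun a ha => ha.1.1) : IsPGroup 2 C₀).exists_card_eq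
      have hFC : F ≤ C₀ := sup_le
        (zpowers_le.2 ⟨hzM, mem_centralizer_singleton_iff.2 (mem_cz.1 (g.le he.mem)).symm.eq⟩)
        (zpowers_le.2 ⟨heM, mem_centralizer_singleton_iff.2 rfl⟩)
      have hd4 := card_dvd_of_le hFC
      have hne : Nat.card C₀ ≠ 4 := by
        intro e4
        have := eq_of_le_of_card_ge hFC (by rw [hFc, e4])
        have he'F : e' ∈ F := this ▸ he'C
        rcases hFset2 _ he'F with e1 | e1
        · exact (h.line_conj g he h.x_mem).nz e1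
        · exact hxe.2.2 e1
      rw [hn] at hd4 hne ⊢
      rw [hFc] at hd4
      rcases n with - | - | - | n
      · norm_num at hd4
      · norm_num at hd4
      · norm_num at hne
      · exact ⟨2 ^ n, by rw [pow_add]; ring⟩
    omega
  rw [hEsplit, Set.ncard_union_eq hdisj]
  exact dvd_add hA4 hB

end Hyp

end Cfsg.Lib.SelfCentSix
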