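import Cfsg.Agent.SelfCentSix.Basic
import Cfsg.Agent.S0204
import Cfsg.Agent.S0494
import Cfsg.Agent.S1644

/-!
The shape of the centraliser of an involution.
-/

set_option autoImplicit false
set_option linter.unusedSectionVars false
set_option linter.style.haveILetI false

namespace Cfsg.Lib.SelfCentSix

open Subgroup
open scoped Pointwise

universe u

variable {G : Type u} [Group G] [Finite G] {t : G}

/-- The maximal normal subgroup of order prime to three of the centraliser. -/
structure Shape (t : G) (R : Subgroup G) : Prop where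
  le : R ≤ cz t
  norm : cz t ≤ normalizer (R : Set G)
  z_mem : t ^ 3 ∈ R
  p3 : ¬ 3 ∣ Nat.card R
  nil : Group.IsNilpotent R
  idx : R.relIndex (cz t) = 3 ∨ R.relIndex (cz t) = 6 ∨
    (R.relIndex (cz t) = 60 ∧ IsPGroup 2 R ∧ R ≠ zpowers (t ^ 3))

theorem mem_invol_of_sq {N : Type*} [Group N] {g : N} (h1 : g * g = 1) (h2 : g ≠ 1) : orderOf g = 2 :=
  orderOf_eq_prime (by rw [pow_two, h1]) h2

namespace Hyp

variable (h : Hyp t)
include h

theorem exists_klein : ∃ E : Subgroup G, IsKleinFour E := by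
  have := h.simple
  exact Cfsg.Agent.S0204.result fun hc => h.nc (@IsCyclic.isMulCommutative G _ hc)

/-- The centraliser contains a second involution. -/
theorem exists_other : ∃ u ∈ cz t, orderOf u = 2 ∧ u ≠ t ^ 3 := by
  have : Fact (Nat.Prime 2) := ⟨Nat.prime_two⟩
  obtain ⟨E, hE⟩ := h.exists_klein
  have := hE
  obtain ⟨S, hS⟩ := h.exists_sylow_le
  obtain ⟨T, hT⟩ := (IsPGroup.of_card (p := 2) (n := 2) (by rw [hE.card_four]; norm_num) :
    IsPGroup 2 E).exists_le_sylow
  obtain ⟨g, hg⟩ := MulAction.exists_smul_eq G T S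
  by_contra hno
  push Not at hno
  have key : ∀ e : E, e ≠ 1 → g * (e : G) * g⁻¹ = t ^ 3 := fun e he => by
    refine hno _ (hS ?_) ?_
    · have : g * (e : G) * g⁻¹ ∈ ((g • T : Sylow 2 G) : Subgroup G) := by
        rw [Sylow.coe_subgroup_smul]; exact ⟨e, hT e.2, rfl⟩
      rwa [hg] at this
    · have h2 : orderOf (e : G) = 2 := by
        refine mem_invol_of_sq (congrArg Subtype.val (IsKleinFour.mul_self (G := E) e)) ?_
        exact fun e1 => he (Subtype.ext e1)
      rw [← h2]
      exact MulEquiv.orderOf_eq (MulAut.conj g) (e : G)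
  have h3 : Nat.card E ≤ 2 := by
    classical
    have : Function.Injective (fun e : E => decide (e = 1)) := by
      intro a b hab
      simp only [decide_eq_decide] at hab
      by_cases ha : a = 1
      · rw [ha, hab.1 ha]
      · exact Subtype.ext (by
          have := (key a ha).trans (key b (fun hb => ha (hab.2 hb))).symm
          exact mul_left_cancel (mul_right_cancel this))
    simpa using Nat.card_le_card_of_injective _ this
  rw [hE.card_four] at h3
  omega

/-- A central element of a Sylow subgroup fixed by its normaliser is the involution of the centraliser. -/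
theorem fixed_eq {S : Sylow 2 G} (hS : (S : Subgroup G) ≤ cz t) {u : G}
    (hu : u ∈ centralizer ((S : Subgroup G) : Set G)) (huo : orderOf u = 2)
    (hfix : ∀ n ∈ normalizer ((S : Subgroup G) : Set G), n * u * n⁻¹ = u) : u = t ^ 3 := by
  have hz : t ^ 3 ∈ centralizer ((S : Subgroup G) : Set G) :=
    mem_centralizer_iff.2 fun s hs => (mem_cz.1 (hS hs)).eq
  obtain ⟨n, hn, e⟩ := h.burnside S hu hz huo h.z_ord
  rw [← e, hfix n hn]

end Hyp

section Quot

variable {C : Type*} [Group C] [Finite C] {N : Subgroup C} [N.Normal]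

/-- All involutions of a quotient lift to involutions if one does and there is one class. -/
theorem lifts_invol {z : C} (hN : ∀ n, n ∈ N ↔ n = 1 ∨ n = z) (hz : z * z = 1) (hzc : ∀ g, Commute g z)
    {u : C} (hu : u * u = 1) (huN : u ∉ N) {g : C}
    (hconj : ∃ c, QuotientGroup.mk' N (c * u * c⁻¹) = QuotientGroup.mk' N g) : g * g = 1 := by
  obtain ⟨c, hc⟩ := hconj
  obtain ⟨n, hn, e⟩ := (QuotientGroup.mk'_eq_mk' N).1 hc
  rw [← e]
  have h1 : c * u * c⁻¹ * (c * u * c⁻¹) = 1 := by
    rw [show c * u * c⁻¹ * (c * u * c⁻¹) = c * (u * u) * c⁻¹ by group, hu]; group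
  rcases (hN n).1 hn with rfl | rfl
  · rw [mul_one, h1]
  · rw [(hzc _).symm.mul_mul_mul_comm, h1, hz, one_mul]

end Quot

namespace Hyp

variable (h : Hyp t)
include h

/-- The quotient of the centraliser by the involution is not of order 168. -/
theorem not_168 [((zpowers (t ^ 3)).subgroupOf (cz t)).Normal]
    [IsSimpleGroup (cz t ⧸ (zpowers (t ^ 3)).subgroupOf (cz t))]
    (hc : Nat.card (cz t ⧸ (zpowers (t ^ 3)).subgroupOf (cz t)) = 168) : False := by
  have : Fact (Nat.Prime 2) := ⟨Nat.prime_two⟩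
  set N := (zpowers (t ^ 3)).subgroupOf (cz t) with hN
  set q := QuotientGroup.mk' N with hq
  obtain ⟨u, huC, hu, huz⟩ := h.exists_other
  obtain ⟨S, hS⟩ := h.exists_sylow_le
  let S' : Sylow 2 (cz t) := S.subtype hS
  have hS' : (S' : Subgroup (cz t)) = (S : Subgroup G).subgroupOf (cz t) := Sylow.coe_subtype _ _
  obtain ⟨T, hT⟩ : ∃ T : Sylow 2 (cz t ⧸ N), (T : Subgroup (cz t ⧸ N)) = (S' : Subgroup (cz t)).map q :=
    ⟨S'.mapSurjective (QuotientGroup.mk'_surjective N), rfl⟩
  obtain ⟨a, ha, b, hb, ha4, -, -, -, -, ha2, hall, hother⟩ := Small.Order168.dihedral_data hc T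
  let zC : cz t := ⟨t ^ 3, h.z_mem⟩
  have hNm : ∀ n, n ∈ N ↔ n = 1 ∨ n = zC := fun n => by
    rw [hN, mem_subgroupOf, h.mem_zpowers_z]
    exact ⟨fun e => e.imp (fun e => Subtype.ext e) fun e => Subtype.ext e,
      fun e => e.imp (fun e => congrArg Subtype.val e) fun e => congrArg Subtype.val e⟩
  have hz2 : zC * zC = 1 := Subtype.ext (by
    show t ^ 3 * t ^ 3 = 1
    rw [← pow_two, ← h.z_ord, pow_orderOf_eq_one])
  have hu2 : (⟨u, huC⟩ : cz t) * ⟨u, huC⟩ = 1 := Subtype.ext (by
    show u * u = 1; rw [← pow_two, ← hu, pow_orderOf_eq_one])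
  have huN : (⟨u, huC⟩ : cz t) ∉ N := fun hm => by
    rcases (hNm _).1 hm with e | e
    · rw [show u = 1 from congrArg Subtype.val e, orderOf_one] at hu; omega
    · exact huz (congrArg Subtype.val e)
  have huq : orderOf (q ⟨u, huC⟩) = 2 := mem_invol_of_sq (by rw [← map_mul, hu2, map_one])
    fun e => huN ((QuotientGroup.eq_one_iff _).1 e)
  have hlift : ∀ g : cz t, q g * q g = 1 → g * g = 1 := fun g hg => by
    by_cases h1 : q g = 1
    · rcases (hNm _).1 ((QuotientGroup.eq_one_iff _).1 h1) with e | e <;> rw [e]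
      exacts [one_mul 1, hz2]
    obtain ⟨c, hc'⟩ := isConj_iff.1 (Small.Order168.conj_two hc huq (mem_invol_of_sq hg h1))
    obtain ⟨c, rfl⟩ := QuotientGroup.mk'_surjective N c
    exact lifts_invol hNm hz2 (fun g => Subtype.ext (mem_cz.1 g.2).eq) hu2 huN
      ⟨c, by rw [map_mul, map_mul, map_inv]; exact hc'⟩
  obtain ⟨A, hA⟩ := QuotientGroup.mk'_surjective N a
  rw [hT] at ha
  obtain ⟨A', hA'S, hA'⟩ := ha
  clear hA A
  -- the squares in the Sylow subgroup
  set w : G := (A' : G) * (A' : G) with hw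
  have hwS : w ∈ (S : Subgroup G) := by
    rw [SetLike.mem_coe, hS', mem_subgroupOf] at hA'S
    exact mul_mem hA'S hA'S
  have hw2 : w * w = 1 := by
    have := hlift (A' * A') (by
      rw [map_mul, hA', ← pow_two a, ← pow_two, ← pow_mul, show 2 * 2 = orderOf a from ha4.symm,
        pow_orderOf_eq_one])
    exact congrArg Subtype.val this
  have hsq : ∀ s ∈ (S : Subgroup G), s * s = 1 ∨ s * s = w := by
    intro s hs
    have hmem : q ⟨s, hS hs⟩ ∈ (T : Subgroup (cz t ⧸ N)) := by
      rw [hT]; exact ⟨_, by rw [SetLike.mem_coe, hS', mem_subgroupOf]; exact hs, rfl⟩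
    by_cases h1 : q ⟨s, hS hs⟩ * q ⟨s, hS hs⟩ = 1
    · exact Or.inl (congrArg Subtype.val (hlift _ h1))
    have hm : q ⟨s, hS hs⟩ ∈ zpowers a := by
      by_contra hm
      exact h1 (by rw [← pow_two, ← hother _ hmem hm, pow_orderOf_eq_one])
    obtain ⟨k, hk⟩ := Submonoid.mem_powers_iff _ _ |>.1 (mem_powers_iff_mem_zpowers.2 hm)
    obtain ⟨n, hn, e⟩ := (QuotientGroup.mk'_eq_mk' N).1
      (show q (A' ^ k) = q ⟨s, hS hs⟩ by rw [map_pow, hA', hk])
    have hA4 : ((A' : G)) ^ 4 = 1 := by rw [show (4 : ℕ) = 2 * 2 from rfl, pow_mul, pow_two, pow_two]; exact hw2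
    have e' : s * s = (A' : G) ^ (2 * k) := by
      have e1 : ((A' : G)) ^ k * (n : G) = s := by simpa using congrArg Subtype.val e
      rw [← e1]
      rcases (hNm n).1 hn with rfl | rfl
      · rw [OneMemClass.coe_one, mul_one, two_mul, pow_add]
      · have hc' : Commute ((A' : G) ^ k) (t ^ 3) := (mem_cz.1 A'.2).pow_left k
        show (A' : G) ^ k * t ^ 3 * ((A' : G) ^ k * t ^ 3) = _
        rw [hc'.symm.mul_mul_mul_comm, show t ^ 3 * t ^ 3 = 1 from congrArg Subtype.val hz2, mul_one, two_mul, pow_add]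
    rw [e', pow_eq_pow_mod _ hA4]
    rcases (by omega : 2 * k % 4 = 0 ∨ 2 * k % 4 = 2) with e2 | e2 <;> rw [e2]
    · exact Or.inl (pow_zero _)
    · exact Or.inr (pow_two _)
  have hw1 : w ≠ 1 := fun e => by
    have : a * a = 1 := by
      rw [← hA', ← map_mul, show A' * A' = 1 from Subtype.ext e, map_one]
    have := orderOf_dvd_of_pow_eq_one (show a ^ 2 = 1 by rw [pow_two, this])
    rw [ha4] at this
    norm_num at this
  have hwz : w ≠ t ^ 3 := fun e => by
    have hq1 : q (A' * A') = 1 := (QuotientGroup.eq_one_iff _).2 ((hNm _).2 (Or.inr (Subtype.ext e)))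
    rw [map_mul, hA'] at hq1
    have := orderOf_dvd_of_pow_eq_one (show a ^ 2 = 1 by rw [pow_two, hq1])
    rw [ha4] at this
    norm_num at this
  have hA'G : (A' : G) ∈ (S : Subgroup G) := by
    rwa [SetLike.mem_coe, hS', mem_subgroupOf] at hA'S
  have hfix : ∀ n ∈ normalizer ((S : Subgroup G) : Set G), n * w * n⁻¹ = w := by
    intro n hn
    have hn' : n * (A' : G) * n⁻¹ ∈ (S : Subgroup G) := ((mem_normalizer_iff.1 hn) _).1 hA'G
    have e : n * w * n⁻¹ = n * (A' : G) * n⁻¹ * (n * (A' : G) * n⁻¹) := by rw [hw]; group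
    rcases hsq _ hn' with e1 | e1
    · rw [← e] at e1
      exact absurd (conj_eq_one_iff.1 e1) hw1
    · rw [e, e1]
  refine hwz (h.fixed_eq hS (mem_centralizer_iff.2 fun s hs => ?_) (mem_invol_of_sq hw2 hw1) hfix)
  exact mul_inv_eq_iff_eq_mul.1 (hfix s (le_normalizer hs))

/-- The quotient of order sixty gives the first Janko group. -/
theorem isoJ1_of_sixty [((zpowers (t ^ 3)).subgroupOf (cz t)).Normal]
    [IsSimpleGroup (cz t ⧸ (zpowers (t ^ 3)).subgroupOf (cz t))]
    (hc : Nat.card (cz t ⧸ (zpowers (t ^ 3)).subgroupOf (cz t)) = 60) : Cfsg.Spor.IsoJ1 G := by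
  classical
  have := h.simple
  have : Fact (Nat.Prime 2) := ⟨Nat.prime_two⟩
  set N := (zpowers (t ^ 3)).subgroupOf (cz t) with hN
  set q := QuotientGroup.mk' N with hq
  obtain ⟨u, huC, hu, huz⟩ := h.exists_other
  obtain ⟨S, hS⟩ := h.exists_sylow_le
  let S' : Sylow 2 (cz t) := S.subtype hS
  have hS' : (S' : Subgroup (cz t)) = (S : Subgroup G).subgroupOf (cz t) := Sylow.coe_subtype _ _
  have hcC : Nat.card (cz t) = 120 := by
    rw [N.card_eq_card_quotient_mul_card_subgroup, hc,
      Nat.card_congr (subgroupOfEquivOfLe h.zpowers_z_le).toEquiv, h.card_z]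
  have hS8 : Nat.card (S : Subgroup G) = 8 := by
    rw [← Nat.card_congr (subgroupOfEquivOfLe hS).toEquiv, ← hS', Sylow.card_eq_multiplicity, hcC,
      show (120 : ℕ) = 2 ^ 3 * 15 by norm_num, Nat.factorization_mul (by norm_num) (by norm_num),
      Finsupp.add_apply, Nat.Prime.factorization_pow Nat.prime_two, Finsupp.single_eq_same,
      Nat.factorization_eq_zero_of_not_dvd (show ¬ 2 ∣ 15 by norm_num)]
    norm_num
  let zC : cz t := ⟨t ^ 3, h.z_mem⟩
  have hNm : ∀ n, n ∈ N ↔ n = 1 ∨ n = zC := fun n => by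
    rw [hN, mem_subgroupOf, h.mem_zpowers_z]
    exact ⟨fun e => e.imp (fun e => Subtype.ext e) fun e => Subtype.ext e,
      fun e => e.imp (fun e => congrArg Subtype.val e) fun e => congrArg Subtype.val e⟩
  have hz2 : zC * zC = 1 := Subtype.ext (by
    show t ^ 3 * t ^ 3 = 1
    rw [← pow_two, ← h.z_ord, pow_orderOf_eq_one])
  have hu2 : (⟨u, huC⟩ : cz t) * ⟨u, huC⟩ = 1 := Subtype.ext (by
    show u * u = 1; rw [← pow_two, ← hu, pow_orderOf_eq_one])
  have huN : (⟨u, huC⟩ : cz t) ∉ N := fun hm => by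
    rcases (hNm _).1 hm with e | e
    · rw [show u = 1 from congrArg Subtype.val e, orderOf_one] at hu; omega
    · exact huz (congrArg Subtype.val e)
  -- a four-group permuted by the element of order three
  have hy := h.quot_hyp
  set y := q ⟨t ^ 2, h.x_mem⟩ with hydef
  obtain ⟨V, hV4, hVI⟩ := SelfCentThree.exists_four_sixty hy hc
  have hV2 : IsPGroup 2 V := IsPGroup.of_card (n := 2) (by rw [hV4]; norm_num)
  have hV3 : SelfCentThree.P3 V := by unfold SelfCentThree.P3; rw [hV4]; norm_num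
  obtain ⟨T, hT⟩ := hV2.exists_le_sylow
  have hTc : Nat.card (T : Subgroup (cz t ⧸ N)) = 4 := by
    rw [Sylow.card_eq_multiplicity, hc, show (60 : ℕ) = 2 ^ 2 * 15 by norm_num,
      Nat.factorization_mul (by norm_num) (by norm_num),
      Finsupp.add_apply, Nat.Prime.factorization_pow Nat.prime_two, Finsupp.single_eq_same,
      Nat.factorization_eq_zero_of_not_dvd (show ¬ 2 ∣ 15 by norm_num)]
    norm_num
  have hVT : V = T := eq_of_le_of_card_ge hT (by rw [hTc, hV4])
  -- every two-element of the quotient is conjugate into `V`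
  have hinto : ∀ v : cz t ⧸ N, (∃ k : ℕ, v ^ 2 ^ k = 1) → ∃ c, c * v * c⁻¹ ∈ V := by
    rintro v ⟨k, hk⟩
    obtain ⟨j, -, hj⟩ := (Nat.dvd_prime_pow Nat.prime_two).1 (orderOf_dvd_of_pow_eq_one hk)
    obtain ⟨U, hU⟩ := (IsPGroup.of_card (p := 2) (n := j) (by rw [Nat.card_zpowers, hj]) :
      IsPGroup 2 (zpowers v)).exists_le_sylow
    obtain ⟨c, hc'⟩ := MulAction.exists_smul_eq (cz t ⧸ N) U T
    refine ⟨c, ?_⟩
    rw [hVT]
    have : c * v * c⁻¹ ∈ ((c • U : Sylow 2 (cz t ⧸ N)) : Subgroup (cz t ⧸ N)) := by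
      rw [Sylow.coe_subgroup_smul]; exact ⟨v, hU (mem_zpowers v), rfl⟩
    rwa [hc'] at this
  -- all elements of `V` are conjugate
  have hconj : ∀ v ∈ V, ∀ w ∈ V, v ≠ 1 → w ≠ 1 → ∃ c, c * v * c⁻¹ = w := by
    intro v hv w hw hv1 hw1
    have hne : y * v * y⁻¹ ≠ v := fun e =>
      hv1 (SelfCentThree.fixed_eq_one hy hV3 hv (mul_inv_eq_iff_eq_mul.1 e).symm)
    have hne2 : y⁻¹ * v * y ≠ v := fun e => hne (by
      conv_lhs => rw [← e]
      group)
    have hne3 : y⁻¹ * v * y ≠ y * v * y⁻¹ := fun e => hne (by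
      conv_rhs => rw [show v = y⁻¹ * (y * v * y⁻¹) * y by group, ← e]
      rw [show y * v * y⁻¹ = (y * y)⁻¹ * v * (y * y) * 1 from ?_]
      · group
      · rw [hy.mul_self, mul_one, inv_inv])
    by_contra hno
    push Not at hno
    have h1 := hno 1
    have h2 := hno y
    have h3 := hno y⁻¹
    rw [inv_inv] at h3
    simp only [one_mul, inv_one, mul_one] at h1
    have hsub : ({1, v, y * v * y⁻¹, y⁻¹ * v * y, w} : Set (cz t ⧸ N)) ⊆ (V : Set (cz t ⧸ N)) := by
      rintro p (rfl | rfl | rfl | rfl | rfl)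
      exacts [V.one_mem, hv, hVI v hv, hVI.back hy hv, hw]
    have := Set.ncard_le_ncard hsub
    rw [show Set.ncard (V : Set (cz t ⧸ N)) = 4 from hV4] at this
    have h5 : ({1, v, y * v * y⁻¹, y⁻¹ * v * y, w} : Set (cz t ⧸ N)).ncard = 5 := by
      have hc1 : ∀ g : cz t ⧸ N, g * v * g⁻¹ ≠ 1 := fun g e => hv1 (conj_eq_one_iff.1 e)
      have hc2 := hc1 y⁻¹
      rw [inv_inv] at hc2
      rw [Set.ncard_insert_of_notMem, Set.ncard_insert_of_notMem, Set.ncard_insert_of_notMem,
        Set.ncard_pair h3] <;>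
        simp [hv1.symm, hw1.symm, hne.symm, hne2.symm, hne3.symm, h1, h2, (hc1 y).symm, hc2.symm]
    omega
  have huq : ∀ g : cz t, q g ∈ V → g * g = 1 := fun g hg => by
    by_cases h1 : q g = 1
    · rcases (hNm _).1 ((QuotientGroup.eq_one_iff _).1 h1) with e | e <;> rw [e]
      exacts [one_mul 1, hz2]
    obtain ⟨c, hc'⟩ := hinto (q ⟨u, huC⟩) ⟨1, by rw [pow_one, pow_two, ← map_mul, hu2, map_one]⟩
    obtain ⟨d, hd⟩ := hconj _ hc' _ hg
      (fun e => huN ((QuotientGroup.eq_one_iff _).1 (conj_eq_one_iff.1 e))) h1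
    obtain ⟨e, he⟩ := QuotientGroup.mk'_surjective N (d * c)
    refine lifts_invol hNm hz2 (fun g => Subtype.ext (mem_cz.1 g.2).eq) hu2 huN ⟨e, ?_⟩
    rw [map_mul, map_mul, map_inv, show QuotientGroup.mk' N e = d * c from he, ← hd, hq]
    group
  have hel : ∀ s : cz t, s ∈ (S' : Subgroup (cz t)) → s * s = 1 := fun s hs => by
    obtain ⟨k, hk⟩ := S'.2 ⟨s, hs⟩
    obtain ⟨c, hc'⟩ := hinto (q s) ⟨k, by rw [← map_pow, show s ^ 2 ^ k = 1 from congrArg Subtype.val hk, map_one]⟩
    obtain ⟨e, rfl⟩ := QuotientGroup.mk'_surjective N c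
    rw [← map_inv, ← map_mul, ← map_mul] at hc'
    have := huq _ hc'
    rw [show e * s * e⁻¹ * (e * s * e⁻¹) = e * (s * s) * e⁻¹ by group] at this
    exact conj_eq_one_iff.1 this
  have hScomm : ∀ a ∈ (S' : Subgroup (cz t)), ∀ b ∈ (S' : Subgroup (cz t)), a * b = b * a := fun a ha b hb => by
    have h1 := hel _ (mul_mem ha hb)
    have ia : a⁻¹ = a := inv_eq_of_mul_eq_one_right (hel a ha)
    have ib : b⁻¹ = b := inv_eq_of_mul_eq_one_right (hel b hb)
    rw [← inv_eq_of_mul_eq_one_right h1, mul_inv_rev, ia, ib]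
  have hSab : IsMulCommutative (S : Subgroup G) := ⟨⟨fun a b => Subtype.ext (by
    have := hScomm ⟨a, hS a.2⟩ (by rw [hS', mem_subgroupOf]; exact a.2) ⟨b, hS b.2⟩
      (by rw [hS', mem_subgroupOf]; exact b.2)
    simpa using congrArg Subtype.val this)⟩⟩
  -- a complement of the involution
  letI : CommGroup (S' : Subgroup (cz t)) :=
    { (inferInstance : Group (S' : Subgroup (cz t))) with
      mul_comm := fun a b => Subtype.ext (hScomm a a.2 b b.2) }
  haveI : (S' : Subgroup (cz t)).FiniteIndex := inferInstance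
  let τ : cz t →* (S' : Subgroup (cz t)) := MonoidHom.transfer (MonoidHom.id _)
  have hzS : zC ∈ (S' : Subgroup (cz t)) := by
    have hcen : ∀ g, Commute g zC := fun g => Subtype.ext (mem_cz.1 g.2).eq
    have hp : IsPGroup 2 (zpowers zC) := IsPGroup.of_card (n := 1) (by
      rw [Nat.card_zpowers, mem_invol_of_sq hz2 (fun e => by
        have := h.z_ord
        rw [show t ^ 3 = 1 from congrArg Subtype.val e, orderOf_one] at this
        omega), pow_one])
    have hnorm : (zpowers zC).Normal := ⟨fun n hn g => by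
      obtain ⟨k, rfl⟩ := mem_zpowers_iff.1 hn
      rw [((hcen g).zpow_right k).eq, mul_inv_cancel_right]; exact zpow_mem (mem_zpowers _) k⟩
    exact S'.3 (hp.to_sup_of_normal_left S'.2) le_sup_right ▸ mem_sup_left (mem_zpowers zC)
  have hτz : τ zC = ⟨zC, hzS⟩ := by
    have hidx : (S' : Subgroup (cz t)).index = 15 := by
      have := (S' : Subgroup (cz t)).card_mul_index
      rw [hcC, hS', Nat.card_congr (subgroupOfEquivOfLe hS).toEquiv, hS8] at this
      rw [hS']
      omega
    refine Subtype.ext ?_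
    have h15 : zC ^ (S' : Subgroup (cz t)).index = zC := by
      rw [hidx, show (15 : ℕ) = 2 * 7 + 1 from rfl, pow_succ, pow_mul, pow_two, hz2, one_pow, one_mul]
    refine Eq.trans ?_ h15
    show ((MonoidHom.transfer (MonoidHom.id (S' : Subgroup (cz t))) zC : (S' : Subgroup (cz t))) : cz t) = _
    rw [MonoidHom.transfer_eq_pow (MonoidHom.id (S' : Subgroup (cz t))) zC fun k g hk => ?_]
    · rfl
    · rw [((show Commute g⁻¹ zC from Subtype.ext (mem_cz.1 (g⁻¹).2).eq).pow_right k).eq,
        inv_mul_cancel_right]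
  have hdisj : ∀ n, n ∈ N → n ∈ τ.ker → n = 1 := fun n hn hk => by
    rcases (hNm n).1 hn with rfl | rfl
    · rfl
    · rw [MonoidHom.mem_ker, hτz] at hk
      exact congrArg Subtype.val hk
  have hinj : Function.Injective (q.comp τ.ker.subtype) := by
    rw [injective_iff_map_eq_one]
    exact fun a ha => Subtype.ext (hdisj a ((QuotientGroup.eq_one_iff _).1 ha) a.2)
  have hsur : Function.Surjective (q.comp τ.ker.subtype) := by
    have hn : (q.comp τ.ker.subtype).range.Normal := by
      rw [MonoidHom.range_comp, Subgroup.range_subtype]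
      exact (inferInstance : τ.ker.Normal).map q (QuotientGroup.mk'_surjective N)
    rcases hn.eq_bot_or_eq_top with e | e
    · exfalso
      have h1 : ∀ a : τ.ker, a = 1 := fun a => hinj (by
        rw [map_one]
        exact mem_bot.1 (e ▸ ⟨a, rfl⟩ : q.comp τ.ker.subtype a ∈ (⊥ : Subgroup _)))
      have h2 : Function.Injective τ := by
        rw [injective_iff_map_eq_one]
        exact fun a ha => congrArg Subtype.val (h1 ⟨a, ha⟩)
      have := Nat.card_le_card_of_injective τ h2
      rw [hcC, hS', Nat.card_congr (subgroupOfEquivOfLe hS).toEquiv, hS8] at this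
      omega
    · exact MonoidHom.range_eq_top.1 e
  let eK : τ.ker ≃* (cz t ⧸ N) := MulEquiv.ofBijective _ ⟨hinj, hsur⟩
  obtain ⟨eA⟩ := Cfsg.Agent.S0494.result (G := cz t ⧸ N) hc
  let σ : Multiplicative (ZMod 2) →* zpowers (t ^ 3) :=
    (zmodMulEquivOfGenerator (g := (⟨t ^ 3, mem_zpowers _⟩ : zpowers (t ^ 3))) (fun a => by
      obtain ⟨k, hk⟩ := mem_zpowers_iff.1 a.2
      exact mem_zpowers_iff.2 ⟨k, Subtype.ext (by simpa using hk)⟩) h.card_z).toMonoidHom
  let φ : Multiplicative (ZMod 2) × alternatingGroup (Fin 5) →* cz t :=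
    MonoidHom.noncommCoprod ((Subgroup.inclusion h.zpowers_z_le).comp σ)
      (τ.ker.subtype.comp ((eA.symm.trans eK.symm)).toMonoidHom)
      (fun m k => by
        obtain ⟨j, hj⟩ := mem_zpowers_iff.1 (σ m).2
        refine Subtype.ext ?_
        show ((σ m : G)) * _ = _ * (σ m : G)
        rw [← hj]
        exact ((mem_cz.1 (((τ.ker.subtype.comp ((eA.symm.trans eK.symm)).toMonoidHom) k)).2).zpow_right j).symm)
  have hσ : Function.Injective σ := (zmodMulEquivOfGenerator _ _).injective
  have hφi : Function.Injective φ := by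
    rw [injective_iff_map_eq_one]
    rintro ⟨m, k⟩ hmk
    rw [MonoidHom.noncommCoprod_apply] at hmk
    have hm : (Subgroup.inclusion h.zpowers_z_le (σ m) : cz t) ∈ N := by
      rw [hN, mem_subgroupOf]; exact (σ m).2
    have hk : (Subgroup.inclusion h.zpowers_z_le (σ m) : cz t) ∈ τ.ker := by
      have e : Subgroup.inclusion h.zpowers_z_le (σ m) = ((((eA.symm.trans eK.symm) k)⁻¹ : τ.ker) : cz t) :=
        eq_inv_of_mul_eq_one_left hmk
      rw [e]
      exact (((eA.symm.trans eK.symm) k)⁻¹).2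
    have hm1 := hdisj _ hm hk
    have hm0 : m = 1 := hσ (by
      rw [map_one]
      exact Subgroup.inclusion_injective h.zpowers_z_le (hm1.trans (map_one _).symm))
    subst hm0
    rw [map_one, one_mul] at hmk
    exact Prod.ext rfl ((eA.symm.trans eK.symm).injective ((Subtype.ext hmk).trans (map_one _).symm))
  have hφ : Function.Bijective φ := hφi.bijective_of_nat_card_le (by
    rw [hcC, Nat.card_prod, ← Nat.card_congr eA.toEquiv, hc]
    simp)
  exact Cfsg.Agent.S1644.result S hSab hS8 (t ^ 3) h.z_ord (MulEquiv.ofBijective φ hφ).symm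

/-- The centraliser has a normal subgroup of small index, unless the group is the first Janko group. -/
theorem shape : Cfsg.Spor.IsoJ1 G ∨ ∃ R, Shape t R := by
  have := h.normal_z
  set N := (zpowers (t ^ 3)).subgroupOf (cz t) with hN
  set q := QuotientGroup.mk' N with hq
  have hy := h.quot_hyp
  obtain ⟨K, hKn, hK, hi⟩ := SelfCentThree.concl hy
  have hmk : (∀ n, n ∈ N → Commute n.1 (t ^ 3)) := fun n _ => mem_cz.1 n.2
  have hNcard : Nat.card N = 2 := by rw [Nat.card_congr (subgroupOfEquivOfLe h.zpowers_z_le).toEquiv, h.card_z]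
  set R' := K.comap q with hR'
  set R := R'.map (cz t).subtype with hR
  have hsub : R.subgroupOf (cz t) = R' := comap_map_eq_self_of_injective (cz t).subtype_injective _
  have hrel : R.relIndex (cz t) = K.index := by
    rw [relIndex, hsub, hR', index_comap_of_surjective _ (QuotientGroup.mk'_surjective N)]
  have hNR : N ≤ R' := fun n hn => by
    rw [hR', mem_comap, show q n = 1 from (QuotientGroup.eq_one_iff n).2 hn]; exact K.one_mem
  have hP3 : SelfCentThree.P3 R' := SelfCentThree.P3.comap q (QuotientGroup.mk'_surjective N)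
    (by unfold SelfCentThree.P3; rw [QuotientGroup.ker_mk', hNcard]; norm_num) hK
  have base : (K.index = 3 ∨ K.index = 6 ∨ (K.index = 60 ∧ IsPGroup 2 K ∧ K ≠ ⊥)) → ∃ R, Shape t R := by
    intro hi'
    have hKnil := SelfCentThree.isNilpotent hy hK SelfCentThree.inv_of_normal
    have hnil : Group.IsNilpotent R' := by
      let f : R' →* K := (q.comp R'.subtype).codRestrict K fun a => a.2
      refine Subgroup.isNilpotent_of_ker_le_center f fun a ha => mem_center_iff.2 fun b => ?_
      have h1 : q a = 1 := congrArg Subtype.val ha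
      have h2 := (QuotientGroup.eq_one_iff _).1 h1
      rw [hN, mem_subgroupOf] at h2
      obtain ⟨k, hk⟩ := mem_zpowers_iff.1 h2
      refine Subtype.ext (Subtype.ext ?_)
      show ((b : cz t) : G) * ((a : cz t) : G) = ((a : cz t) : G) * ((b : cz t) : G)
      rw [← hk]
      exact ((mem_cz.1 (b : cz t).2).zpow_right k).eq
    refine ⟨R, map_subtype_le _, ?_, ⟨⟨t ^ 3, h.z_mem⟩, hNR (by rw [hN, mem_subgroupOf]; exact mem_zpowers _), rfl⟩,
      ?_, ?_, ?_⟩
    · rw [← normal_subgroupOf_iff_le_normalizer (map_subtype_le _), hsub]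
      exact hKn.comap q
    · rw [hR, card_map_of_injective (cz t).subtype_injective]; exact hP3
    · exact Group.isNilpotent_congr (R'.equivMapOfInjective _ (cz t).subtype_injective) |>.1 hnil
    · rw [hrel]
      refine hi'.imp_right (Or.imp_right fun ⟨e, h2, hne⟩ => ⟨e, ?_, fun hRz => hne ?_⟩)
      · exact (h2.comap_of_ker_isPGroup q (by
          rw [QuotientGroup.ker_mk']; exact IsPGroup.of_card (n := 1) (by rw [hNcard, pow_one]))).map _
      · have : R' = N := by rw [← hsub, hRz, hN]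
        rw [← map_comap_eq_self_of_surjective (QuotientGroup.mk'_surjective N) K, ← hR', this,
          QuotientGroup.map_mk'_self]
  rcases hi with e | e | ⟨e, h2, h168, hmax⟩
  · exact Or.inr (base (Or.inl e))
  · exact Or.inr (base (Or.inr (Or.inl e)))
  by_cases hKb : K = ⊥
  · have := SelfCentThree.isSimpleGroup_quot (K := K) (by omega) hmax
    subst hKb
    have := (QuotientGroup.quotientBot (G := cz t ⧸ N)).isSimpleGroup_congr.1 this
    rw [index_bot] at e
    rcases e with e | e
    · exact Or.inl (h.isoJ1_of_sixty e)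
    · exact (h.not_168 e).elim
  · rcases e with e | e
    · exact Or.inr (base (Or.inr (Or.inr ⟨e, h2, hKb⟩)))
    · exact absurd (h168 e) hKb

end Hyp

end Cfsg.Lib.SelfCentSix
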