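import Cfsg.Agent.SelfCentSix.NormSylow
import Cfsg.Agent.SelfCentSix.Pivot
import Cfsg.Agent.SelfCentSix.QShape
import Cfsg.Agent.SelfCentSix.Shapes
import Cfsg.Agent.JComp.Basic

/-!
A two-core of index three in the centraliser is impossible: the graph of involutions joined by lines has
commuting components.
-/

set_option autoImplicit false
set_option linter.unusedSectionVars false
set_option linter.style.haveILetI false

namespace Cfsg.Lib.SelfCentSix

open Subgroup
open scoped Pointwise commutatorElement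

universe u

variable {G : Type u} [Group G] [Finite G] {t : G}

/-- Walks of a given length. -/
def Walk (r : G → G → Prop) : ℕ → G → G → Prop
  | 0, a, b => a = b
  | n + 1, a, b => ∃ c, Walk r n a c ∧ r c b

theorem Walk.front {r : G → G → Prop} : ∀ {n : ℕ} {a b : G}, Walk r (n + 1) a b → ∃ d, r a d ∧ Walk r n d b
  | 0, _, b, ⟨_, h, hr⟩ => ⟨b, (show _ = _ from h) ▸ hr, rfl⟩
  | _ + 1, _, _, ⟨c, h, hr⟩ => by
    obtain ⟨d, hd, hw⟩ := Walk.front h
    exact ⟨d, hd, c, hw, hr⟩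

theorem Walk.exists_of_gen {r : G → G → Prop} {a b : G} (h : Relation.ReflTransGen r a b) :
    ∃ n, Walk r n a b := by
  induction h with
  | refl => exact ⟨0, rfl⟩
  | tail _ hr ih =>
    obtain ⟨n, hn⟩ := ih
    exact ⟨n + 1, _, hn, hr⟩

namespace Hyp

variable (h : Hyp t) {Q : Subgroup G}
include h

/-- Two-elements of the centraliser lie in the core of odd index. -/
theorem two_mem (g : Fib t Q) (h3 : Q.relIndex (cz t) = 3) {b : G} (hb : b ∈ cz t) {k : ℕ}
    (hk : b ^ 2 ^ k = 1) : b ∈ Q := by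
  haveI : (Q.subgroupOf (cz t)).Normal := (normal_subgroupOf_iff_le_normalizer g.le).2 g.norm
  have h1 : orderOf (QuotientGroup.mk' (Q.subgroupOf (cz t)) ⟨b, hb⟩) ∣ 3 := by
    have : Nat.card (cz t ⧸ Q.subgroupOf (cz t)) = 3 := h3
    exact this ▸ orderOf_dvd_natCard _
  have h2 : orderOf (QuotientGroup.mk' (Q.subgroupOf (cz t)) ⟨b, hb⟩) ∣ 2 ^ k := by
    refine orderOf_dvd_of_pow_eq_one ?_
    rw [← map_pow, show (⟨b, hb⟩ : cz t) ^ 2 ^ k = 1 from Subtype.ext hk, map_one]
  have h4 := Nat.eq_one_of_dvd_coprimes (Nat.Coprime.pow_right k (by norm_num)) h1 h2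
  rw [orderOf_eq_one_iff, QuotientGroup.mk'_apply, QuotientGroup.eq_one_iff, mem_subgroupOf] at h4
  exact h4

/-- A two-core of index three is impossible. -/
theorem case_three (g : Good t Q) (h3 : Q.relIndex (cz t) = 3) : False := by
  classical
  have : Fact (Nat.Prime 2) := ⟨Nat.prime_two⟩
  have : Fact (Nat.Prime 3) := ⟨Nat.prime_three⟩
  set z := t ^ 3 with hz
  set x := t ^ 2 with hx
  obtain ⟨S, hS⟩ := h.exists_sylow_le
  have hQS : Q = (S : Subgroup G) := eq_of_le_of_card_ge (g.toFib.le_sylow S hS) (by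
    rw [g.toFib.sylow_card S hS (a := 0) (b := 3) (by rw [h3]; norm_num) (by norm_num), pow_zero, mul_one])
  have hxS : x ∈ normalizer ((S : Subgroup G) : Set G) := by rw [← hQS]; exact g.norm h.x_mem
  have hZ : ∀ u : G, orderOf u = 2 → u ∈ centralizer ((S : Subgroup G) : Set G) → u = z :=
    fun u hu hu' => h.norm_sylow g S hS hxS hu hu'
  have hline : ∃ e, Line t Q e := by
    rcases h.q_shape g.toFib with e | ⟨-, e⟩ | e
    · exact absurd e (h.card_Q_ne_two g)
    · exfalso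
      obtain ⟨u, huC, hu, huz⟩ := h.exists_other
      have hu2 : u * u = 1 := by rw [← pow_two, ← hu, pow_orderOf_eq_one]
      have := e u (h.two_mem g.toFib h3 huC (k := 1) (by rw [pow_one, pow_two, hu2])) hu2
      rcases h.mem_zpowers_z.1 this with e1 | e1
      · rw [e1, orderOf_one] at hu; omega
      · exact huz e1
    · exact e
  obtain ⟨e, he, hef⟩ := h.exists_fixed_line g.toFib S.2 hS hline
  obtain ⟨M, hM⟩ := h.pivot g S hS he hef hZ
  obtain ⟨y, hyM, hyo, hyz⟩ := hM.exists_three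
  have hez : Commute e z := mem_cz.1 (g.le he.mem)
  have hy3 : y ^ 3 = 1 := by rw [← hyo, pow_orderOf_eq_one]
  -- the two moves
  have hyz' : y⁻¹ * z * y ≠ z := fun e1 => hyz (by
    calc y * z * y⁻¹ = y * (y⁻¹ * z * y) * y⁻¹ := by rw [e1]
      _ = z := by group)
  have hyy : y⁻¹ * z * y ≠ y * z * y⁻¹ := fun e1 => hyz (by
    have e2 : (y ^ 2) * z * (y ^ 2)⁻¹ = z := by
      calc y ^ 2 * z * (y ^ 2)⁻¹ = y * (y * z * y⁻¹) * y⁻¹ := by rw [pow_two]; group
        _ = y * (y⁻¹ * z * y) * y⁻¹ := by rw [e1]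
        _ = z := by group
    have e3 : y = y ^ 2 * y ^ 2 := by rw [← pow_add, pow_succ y 3, hy3, one_mul]
    conv_lhs => rw [e3]
    rw [show y ^ 2 * y ^ 2 * z * (y ^ 2 * y ^ 2)⁻¹ = y ^ 2 * (y ^ 2 * z * (y ^ 2)⁻¹) * (y ^ 2)⁻¹ by group, e2, e2])
  have hp1 := (hM.perm y hyM).resolve_left hyz
  have hp2 : y⁻¹ * z * y = e ∨ y⁻¹ * z * y = e * z := by
    have := hM.perm y⁻¹ (inv_mem hyM)
    rw [inv_inv] at this
    exact this.resolve_left hyz'
  have moves : ∀ u, (u = e ∨ u = e * z) → ∃ a ∈ M, a * z * a⁻¹ = u ∧ (a⁻¹ * z * a = e ∨ a⁻¹ * z * a = e * z) := by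
    intro u hu
    by_cases h1 : y * z * y⁻¹ = u
    · exact ⟨y, hyM, h1, hp2⟩
    · refine ⟨y⁻¹, inv_mem hyM, ?_, by rw [inv_inv]; exact hp1⟩
      rw [inv_inv]
      rcases hu with rfl | rfl <;> rcases hp1 with e1 | e1 <;> rcases hp2 with e2 | e2
      all_goals first | exact e2 | exact absurd e1 h1 | exact absurd (e2.trans e1.symm) hyy
  -- the neighbours of `z`
  let N0 : Set G := {v | (v * e⁻¹ ∈ zpowers z) ∨ (v * (x * e * x⁻¹)⁻¹ ∈ zpowers z) ∨
    (v * (x⁻¹ * e * x)⁻¹ ∈ zpowers z)}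
  have hxC : x ∈ cz t := h.x_mem
  have hconjz : ∀ c ∈ cz t, ∀ w ∈ zpowers z, c * w * c⁻¹ = w := fun c hc w hw => by
    obtain ⟨k, rfl⟩ := mem_zpowers_iff.1 hw
    rw [((mem_cz.1 hc).zpow_right k).eq, mul_inv_cancel_right]
  have hx3 : x * x * x = 1 := by rw [← pow_three' x, hx, ← h.x_ord, pow_orderOf_eq_one]
  have hN0Q : ∀ v ∈ N0, v ∈ Q ∧ (∀ r ∈ Q, ⁅v, r⁆ ∈ zpowers z) := by
    intro v hv
    have hmid : ∀ w, Line t Q w → v * w⁻¹ ∈ zpowers z → v ∈ midQ g.toFib := fun w hw hvw => by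
      have : v = (v * w⁻¹) * w := by group
      rw [this]
      refine mul_mem ⟨h.zle g.toFib hvw, fun r hr => ?_⟩ ⟨hw.mem, hw.comm⟩
      rw [commutatorElement_eq_one_iff_commute.2 (h.z_comm g.toFib hr hvw).symm]; exact one_mem _
    rcases hv with hv | hv | hv
    · exact hmid e he hv
    · exact hmid _ (h.line_conj g.toFib he hxC) hv
    · exact hmid _ (by simpa using h.line_conj g.toFib he (inv_mem hxC)) hv
  have hN0c : ∀ v ∈ N0, ∀ w ∈ N0, Commute v w := by
    obtain ⟨h01, -, -⟩ := h.four g.toFib he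
    have h12 : Commute (x * e * x⁻¹) (x⁻¹ * e * x) := by
      have := (commute_conj h (g := x)).2 h01
      rwa [show x * (x * e * x⁻¹) * x⁻¹ = x⁻¹ * e * x by
        rw [show x * (x * e * x⁻¹) * x⁻¹ = (x * x) * e * (x * x)⁻¹ by group,
          eq_inv_of_mul_eq_one_left hx3, inv_inv]] at this
    have h20 : Commute (x⁻¹ * e * x) e := by
      have := (commute_conj h (g := x⁻¹)).2 h01
      rwa [inv_inv, show x⁻¹ * (x * e * x⁻¹) * x = e by group] at this
    have hbase : ∀ p ∈ ({e, x * e * x⁻¹, x⁻¹ * e * x} : Set G), ∀ r ∈ ({e, x * e * x⁻¹, x⁻¹ * e * x} : Set G),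
        Commute p r := by
      rintro p (rfl | rfl | rfl) r (rfl | rfl | rfl)
      exacts [Commute.refl _, h01, h20.symm, h01.symm, Commute.refl _, h12, h20, h12.symm, Commute.refl _]
    have hdec : ∀ v ∈ N0, ∃ p ∈ ({e, x * e * x⁻¹, x⁻¹ * e * x} : Set G), ∃ w ∈ zpowers z, v = w * p := by
      rintro v (hv | hv | hv)
      exacts [⟨_, Or.inl rfl, _, hv, (inv_mul_cancel_right v _).symm⟩,
        ⟨_, Or.inr (Or.inl rfl), _, hv, (inv_mul_cancel_right v _).symm⟩,
        ⟨_, Or.inr (Or.inr rfl), _, hv, (inv_mul_cancel_right v _).symm⟩]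
    intro v hv w hw
    have hvQ := (hN0Q v hv).1
    have hwQ := (hN0Q w hw).1
    obtain ⟨p, hp, a, ha, rfl⟩ := hdec v hv
    obtain ⟨r, hr, b, hb, rfl⟩ := hdec w hw
    have hpQ : p ∈ Q := (Q.mul_mem_cancel_left (h.zle g.toFib ha)).1 hvQ
    refine Commute.mul_left ((h.z_comm g.toFib hwQ ha).symm) ?_
    exact (h.z_comm g.toFib hpQ hb).mul_right (hbase p hp r hr)
  have hN0conj : ∀ c ∈ cz t, ∀ v ∈ N0, c * v * c⁻¹ ∈ N0 := by
    have hxz : ∀ w ∈ zpowers z, x * w * x⁻¹ = w := hconjz x hxC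
    let St : Subgroup G :=
      { carrier := {c | c ∈ cz t ∧ (∀ v ∈ N0, c * v * c⁻¹ ∈ N0) ∧ ∀ v ∈ N0, c⁻¹ * v * c ∈ N0}
        one_mem' := ⟨one_mem _, fun v hv => by simpa using hv, fun v hv => by simpa using hv⟩
        mul_mem' := fun {a b} ha hb => ⟨mul_mem ha.1 hb.1, fun v hv => by
            rw [show a * b * v * (a * b)⁻¹ = a * (b * v * b⁻¹) * a⁻¹ by group]; exact ha.2.1 _ (hb.2.1 v hv),
          fun v hv => by
            rw [show (a * b)⁻¹ * v * (a * b) = b⁻¹ * (a⁻¹ * v * a) * b by group]; exact hb.2.2 _ (ha.2.2 v hv)⟩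
        inv_mem' := fun {a} ha => ⟨inv_mem ha.1, fun v hv => by rw [inv_inv]; exact ha.2.2 v hv,
          fun v hv => by rw [inv_inv]; exact ha.2.1 v hv⟩ }
    have hxN : ∀ v ∈ N0, x * v * x⁻¹ ∈ N0 := by
      have key : ∀ v w, v * w⁻¹ ∈ zpowers z → x * v * x⁻¹ * (x * w * x⁻¹)⁻¹ ∈ zpowers z := fun v w hvw => by
        rw [show x * v * x⁻¹ * (x * w * x⁻¹)⁻¹ = x * (v * w⁻¹) * x⁻¹ by group, hxz _ hvw]; exact hvw
      rintro v (hv | hv | hv)
      · exact Or.inr (Or.inl (key v e hv))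
      · refine Or.inr (Or.inr ?_)
        have := key v _ hv
        rwa [show x * (x * e * x⁻¹) * x⁻¹ = x⁻¹ * e * x by
          rw [show x * (x * e * x⁻¹) * x⁻¹ = (x * x) * e * (x * x)⁻¹ by group,
            eq_inv_of_mul_eq_one_left hx3, inv_inv]] at this
      · refine Or.inl ?_
        have := key v _ hv
        rwa [show x * (x⁻¹ * e * x) * x⁻¹ = e by group] at this
    have hxSt : x ∈ St := ⟨hxC, hxN, fun v hv => by
      rw [← eq_inv_of_mul_eq_one_left hx3]
      rw [show x * x * v * x = x * (x * v * x⁻¹) * x⁻¹ * (x * x * x) by group, hx3, mul_one]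
      exact hxN _ (hxN v hv)⟩
    have hQc : ∀ r ∈ Q, ∀ v ∈ N0, r * v * r⁻¹ ∈ N0 := by
      intro r hr v hv
      obtain ⟨w, hw, hrw⟩ : ∃ w ∈ zpowers z, r * v * r⁻¹ = w * v := by
        refine ⟨⁅v, r⁆⁻¹, inv_mem ((hN0Q v hv).2 r hr), ?_⟩
        rw [commutatorElement_def]; group
      rw [hrw]
      rcases hv with hv | hv | hv
      · left; rw [mul_assoc]; exact mul_mem hw hv
      · right; left; rw [mul_assoc]; exact mul_mem hw hv
      · right; right; rw [mul_assoc]; exact mul_mem hw hv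
    have hQSt : Q ≤ St := fun r hr => ⟨g.le hr, hQc r hr, fun v hv => by
      simpa using hQc r⁻¹ (inv_mem hr) v hv⟩
    have hCSt : cz t ≤ St := by
      have hmul := relIndex_mul_relIndex Q St (cz t) hQSt (fun c hc => hc.1)
      rw [h3] at hmul
      rcases (Nat.dvd_prime Nat.prime_three).1 (Dvd.intro _ hmul) with e1 | e1
      · exact absurd (relIndex_eq_one.1 e1 hxSt) fun hxQ => by
          have := Subgroup.orderOf_dvd_natCard Q hxQ
          rw [hx, h.x_ord] at this
          exact not_three_dvd g.two this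
      · rw [e1] at hmul
        exact relIndex_eq_one.1 (by omega)
    exact fun c hc v hv => (hCSt hc).2.1 v hv
  -- adjacency
  let Adj : G → G → Prop := fun a b => ∃ c, c * z * c⁻¹ = a ∧ c⁻¹ * b * c ∈ N0
  have hAdjany : ∀ {a b c : G}, Adj a b → c * z * c⁻¹ = a → c⁻¹ * b * c ∈ N0 := by
    rintro a b c ⟨d, hd, hdb⟩ hc
    have hm : c⁻¹ * d ∈ cz t := mem_cz.2 (mul_inv_eq_iff_eq_mul.1 (by
      calc c⁻¹ * d * z * (c⁻¹ * d)⁻¹ = c⁻¹ * (d * z * d⁻¹) * c := by group
        _ = c⁻¹ * (c * z * c⁻¹) * c := by rw [hd, hc]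
        _ = z := by group))
    have := hN0conj _ hm _ hdb
    rwa [show c⁻¹ * d * (d⁻¹ * b * d) * (c⁻¹ * d)⁻¹ = c⁻¹ * b * c by group] at this
  have hAdjconj : ∀ {a b : G} (d : G), Adj a b → Adj (d * a * d⁻¹) (d * b * d⁻¹) := by
    rintro a b d ⟨c, hc, hcb⟩
    exact ⟨d * c, by rw [← hc]; group,
      by rwa [show (d * c)⁻¹ * (d * b * d⁻¹) * (d * c) = c⁻¹ * b * c by group]⟩
  have hN0rep : ∀ v ∈ N0, ∃ c ∈ cz t, c⁻¹ * v * c = e ∨ c⁻¹ * v * c = e * z := by
    have key : ∀ v w, v * w⁻¹ ∈ zpowers z → v = w ∨ v = z * w := fun v w hvw =>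
      (h.mem_zpowers_z.1 hvw).imp mul_inv_eq_one.1 mul_inv_eq_iff_eq_mul.1
    rintro v (hv | hv | hv)
    · exact ⟨1, one_mem _, by
        rcases key _ _ hv with e1 | e1 <;> [left; right] <;> simp [e1, hez.eq]⟩
    · refine ⟨x, hxC, ?_⟩
      rcases key _ _ hv with e1 | e1 <;> [left; right] <;> rw [e1]
      · group
      · rw [show x⁻¹ * (z * (x * e * x⁻¹)) * x = (x⁻¹ * z * x) * e by group,
          show x⁻¹ * z * x = z by simpa using hconjz x⁻¹ (inv_mem hxC) z (mem_zpowers z), hez.eq]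
    · refine ⟨x⁻¹, inv_mem hxC, ?_⟩
      rcases key _ _ hv with e1 | e1 <;> [left; right] <;> rw [e1]
      · group
      · rw [show x⁻¹⁻¹ * (z * (x⁻¹ * e * x)) * x⁻¹ = (x * z * x⁻¹) * e by group,
          hconjz x hxC z (mem_zpowers z), hez.eq]
  have hN0e : ∀ u, (u = e ∨ u = e * z) → u ∈ N0 := by
    rintro u (rfl | rfl)
    · left; rw [mul_inv_cancel]; exact one_mem _
    · left; rw [hez.eq, mul_inv_cancel_right]; exact mem_zpowers z
  have hsymm : ∀ {a b : G}, Adj a b → Adj b a := by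
    rintro a b ⟨c, hc, hcb⟩
    obtain ⟨d, hd, hdb⟩ := hN0rep _ hcb
    obtain ⟨m, -, hm, hm'⟩ := moves (d⁻¹ * (c⁻¹ * b * c) * d) hdb
    refine ⟨c * d * m, ?_, ?_⟩
    · calc c * d * m * z * (c * d * m)⁻¹ = c * d * (m * z * m⁻¹) * (c * d)⁻¹ := by group
        _ = b := by rw [hm]; group
    · have hdz : d⁻¹ * z * d = z := by simpa using hconjz d⁻¹ (inv_mem hd) z (mem_zpowers z)
      refine hN0e _ ?_
      rwa [show (c * d * m)⁻¹ * a * (c * d * m) = m⁻¹ * (d⁻¹ * z * d) * m by rw [← hc]; group, hdz]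
  -- joined involutions commute
  have hadjc : ∀ {a b : G}, Adj a b → Commute a b := by
    rintro a b ⟨c, hc, hcb⟩
    rw [← hc, show b = c * (c⁻¹ * b * c) * c⁻¹ by group]
    exact (commute_conj h).2 (mem_cz.1 (g.le (hN0Q _ hcb).1)).symm
  have hone : ∀ {a b d : G}, Adj d a → Commute b d → b * b = 1 → ⁅a, b⁆ ∈ zpowers d := by
    rintro a b d ⟨c, hc, hca⟩ hbd hbb
    have hbC : c⁻¹ * b * c ∈ cz t := by
      rw [mem_cz, ← commute_conj h (g := c), show c * t ^ 3 * c⁻¹ = d from hc,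
        show c * (c⁻¹ * b * c) * c⁻¹ = b by group]
      exact hbd
    have hbQ := h.two_mem g.toFib h3 hbC (k := 1) (by
      rw [pow_one, pow_two, show c⁻¹ * b * c * (c⁻¹ * b * c) = c⁻¹ * (b * b) * c by group, hbb]; group)
    obtain ⟨k, hk⟩ := mem_zpowers_iff.1 ((hN0Q _ hca).2 _ hbQ)
    refine mem_zpowers_iff.2 ⟨k, ?_⟩
    rw [← hc, conj_zpow, hk]
    simp only [commutatorElement_def]
    group
  have hsq : ∀ {a b : G}, Adj a b → a * a = 1 ∧ b * b = 1 := by
    intro a b hab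
    have h1 : ∀ {p r : G}, Adj p r → p * p = 1 := by
      rintro p r ⟨c, hc, -⟩
      rw [← hc, show c * z * c⁻¹ * (c * z * c⁻¹) = c * (z * z) * c⁻¹ by group, h.zz g.toFib]; group
    exact ⟨h1 hab, h1 (hsymm hab)⟩
  have htwo : ∀ {a b d : G}, Adj d a → Adj d b → Commute a b := by
    rintro a b d ⟨c, hc, hca⟩ hdb
    have := hN0c _ hca _ (hAdjany hdb hc)
    rw [← commute_conj h (g := c)] at this
    simpa [mul_assoc] using this
  have hwalk : ∀ n a b, Walk Adj n a b → Commute a b := by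
    intro n
    induction n with
    | zero => intro a b hab; exact (show a = b from hab) ▸ Commute.refl a
    | succ n ih =>
      intro a b hab
      obtain ⟨d, had, hdb⟩ := hab.front
      obtain ⟨c, hac, hcb⟩ := hab
      have h1 := hone (hsymm had) (ih d b hdb).symm (hsq hcb).2
      have h2 := hone hcb (ih a c hac) (hsq had).1
      by_contra hne
      have hd2 : ∀ p : G, p * p = 1 → ∀ v ∈ zpowers p, v ≠ 1 → v = p := by
        intro p hp v hv hv1
        obtain ⟨k, rfl⟩ := mem_zpowers_iff.1 hv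
        rcases Int.even_or_odd' k with ⟨j, rfl | rfl⟩
        · exact absurd (by rw [zpow_mul, zpow_two, hp, one_zpow]) hv1
        · rw [zpow_add_one, zpow_mul, zpow_two, hp, one_zpow, one_mul]
      have hab1 : ⁅a, b⁆ ≠ 1 := fun e1 => hne (commutatorElement_eq_one_iff_commute.1 e1)
      have e1 := hd2 d (hsq had).2 _ h1 hab1
      have e2 := hd2 c (hsq hcb).1 _ h2 (fun e' => hne (commutatorElement_eq_one_iff_commute.1 e').symm)
      have hcd : c = d := by
        rw [← e2, ← commutatorElement_inv, e1, inv_eq_of_mul_eq_one_right (hsq had).2]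
      exact hne (htwo (hsymm had) (hcd ▸ hcb))
  -- the component
  let R := {b | Relation.ReflTransGen Adj z b}
  have hRc : ∀ a ∈ R, ∀ b ∈ R, Commute a b := by
    intro a ha b hb
    have hrev : ∀ {p r : G}, Relation.ReflTransGen Adj p r → Relation.ReflTransGen Adj r p := by
      intro p r hpr
      induction hpr with
      | refl => exact Relation.ReflTransGen.refl
      | tail _ hr ih => exact Relation.ReflTransGen.head (hsymm hr) ih
    obtain ⟨n, hn⟩ := Walk.exists_of_gen ((hrev ha).trans hb)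
    exact hwalk n a b hn
  have hR2 : ∀ a ∈ R, a * a = 1 := by
    intro a ha
    rcases Relation.ReflTransGen.cases_tail ha with e1 | ⟨c, -, hca⟩
    · rw [e1]; exact h.zz g.toFib
    · exact (hsq hca).2
  set W := closure R with hW
  haveI hWab : IsMulCommutative W := Subgroup.isMulCommutative_closure fun a ha b hb => (hRc a ha b hb).eq
  have hW2 : IsPGroup 2 W := by
    have hsq' : ∀ a ∈ W, a * a = 1 := by
      intro a ha
      induction ha using closure_induction with
      | mem a ha => exact hR2 a ha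
      | one => exact one_mul 1
      | mul a b ha hb iha ihb =>
        have hc : Commute a b := congrArg Subtype.val (hWab.is_comm.comm (⟨a, ha⟩ : W) ⟨b, hb⟩)
        rw [hc.symm.mul_mul_mul_comm, iha, ihb, one_mul]
      | inv a _ iha => rw [← mul_inv_rev, iha, inv_one]
    exact fun a => ⟨1, Subtype.ext (by rw [pow_one, pow_two]; exact hsq' a a.2)⟩
  set M' := normalizer (W : Set G) with hM'
  have hstab : ∀ d : G, Relation.ReflTransGen Adj z (d * z * d⁻¹) → d ∈ M' := by
    intro d hd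
    have hle : W ≤ W.comap (MulAut.conj d).toMonoidHom := by
      rw [hW, closure_le]
      intro v hv
      refine subset_closure (show d * v * d⁻¹ ∈ R from ?_)
      have hlift : ∀ {p r : G}, Relation.ReflTransGen Adj p r →
          Relation.ReflTransGen Adj (d * p * d⁻¹) (d * r * d⁻¹) := by
        intro p r hpr
        induction hpr with
        | refl => exact Relation.ReflTransGen.refl
        | tail _ hr ih => exact ih.tail (hAdjconj d hr)
      exact hd.trans (hlift hv)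
    exact mem_normalizer_fintype (S := (W : Set G)) (fun v hv => hle hv)
  have hCM : cz t ≤ M' := fun c hc => hstab c (by
    rw [hconjz c hc z (mem_zpowers z)])
  have hzW : z ∈ W := subset_closure (show z ∈ R from Relation.ReflTransGen.refl)
  have heW : e ∈ W := subset_closure (show e ∈ R from Relation.ReflTransGen.single
    ⟨1, by simp, by simpa using hN0e e (Or.inl rfl)⟩)
  have hyM' : y ∈ M' := hstab y (Relation.ReflTransGen.single ⟨1, by simp, by
    simpa using hN0e _ hp1⟩)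
  set R0 := Cfsg.pCoreOf 2 M' with hR0
  have hR0n : M' ≤ normalizer (R0 : Set G) := le_normalizer.trans (JComp.normalizer_le_pCoreOf 2 M')
  have hR0M : R0 ≤ M' := JComp.pCoreOf_le M'
  have hWR0 : W ≤ R0 := JComp.le_pCoreOf hW2 le_normalizer le_rfl
  have hD2 : IsPGroup 2 ↥(M' ⊓ centralizer (R0 : Set G)) := by
    set D := M' ⊓ centralizer (R0 : Set G)
    have hDC : D ≤ cz t := fun v hv => mem_cz.2 (mem_centralizer_iff.1 hv.2 z (hWR0 hzW)).symm
    have hD3 : ¬ 3 ∣ Nat.card D := by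
      intro hd
      obtain ⟨⟨v, hv⟩, hvo⟩ := exists_prime_orderOf_dvd_card' 3 hd
      rw [Subgroup.orderOf_mk] at hvo
      obtain ⟨d, hd', hdv⟩ := h.three_conj hvo (hDC hv)
      have hde : d * e * d⁻¹ ∈ R0 := hWR0 (JComp.conj_mem (hCM hd') heW)
      have hc : Commute (d * x * d⁻¹) (d * e * d⁻¹) := by
        have hcv : Commute v (d * e * d⁻¹) := (mem_centralizer_iff.1 hv.2 _ hde).symm
        rcases hdv with e1 | e1 <;> rw [e1]
        exacts [hcv, hcv.inv_left]
      refine he.nz (h.x_mod g.toFib he.mem ?_)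
      rw [((commute_conj h).1 hc).eq, mul_inv_cancel_right, mul_inv_cancel]; exact one_mem _
    have hdvd := card_dvd_of_le hDC
    rw [g.toFib.card_cz, h3] at hdvd
    have hdQ := (Nat.Coprime.dvd_of_dvd_mul_right ((Nat.prime_three.coprime_iff_not_dvd.2 hD3).symm) hdvd)
    obtain ⟨n, hn⟩ := g.two.exists_card_eq
    obtain ⟨j, -, hj⟩ := (Nat.dvd_prime_pow Nat.prime_two).1 (hn ▸ hdQ)
    exact IsPGroup.of_card (n := j) hj
  have hDn : M' ≤ normalizer ((M' ⊓ centralizer (R0 : Set G) : Subgroup G) : Set G) := by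
    refine JComp.le_normalizer_of_conj fun m hm v hv => mem_inf.2 ⟨M'.mul_mem (M'.mul_mem hm hv.1) (M'.inv_mem hm), ?_⟩
    refine mem_centralizer_iff.2 fun r hr => ?_
    have hr' := JComp.conj_mem (hR0n (inv_mem hm)) hr
    rw [inv_inv] at hr'
    have hc : Commute (m⁻¹ * r * m) v := mem_centralizer_iff.1 hv.2 _ hr'
    have := (commute_conj h (g := m)).2 hc
    rw [show m * (m⁻¹ * r * m) * m⁻¹ = r by group] at this
    exact this.eq
  rcases h.overgroup g (Or.inl h3) hCM hR0M hR0n (JComp.isPGroup_pCoreOf M')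
    (JComp.le_pCoreOf hD2 inf_le_left hDn) (fun N hN hn hN2 => JComp.le_pCoreOf hN2 hN hn) with hRQ | ⟨h6, -⟩
  swap
  · omega
  have hyQ : y ∈ normalizer ((S : Subgroup G) : Set G) := by
    rw [← hQS, ← hRQ]; exact hR0n hyM'
  refine hyz (hZ _ ?_ (mem_centralizer_iff.2 fun s hs => ?_))
  · rw [← h.z_ord]; exact MulEquiv.orderOf_eq (MulAut.conj y) z
  · have := conj_mem (inv_mem hyQ) hs
    rw [inv_inv] at this
    have hc : Commute (y⁻¹ * s * y) z := mem_cz.1 (hS this)
    have h2 := (commute_conj h (g := y)).2 hc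
    rw [show y * (y⁻¹ * s * y) * y⁻¹ = s by group] at h2
    exact h2.eq

end Hyp

end Cfsg.Lib.SelfCentSix
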