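import Cfsg.Agent.SelfCentSix.Local
import Cfsg.Prelude.Def_CaseTheorems

/-!
The two-core: lines through the involution, and the exceptions.
-/

set_option autoImplicit false
set_option linter.unusedSectionVars false
set_option linter.style.haveILetI false

namespace Cfsg.Lib.SelfCentSix

open Subgroup
open scoped commutatorElement

universe u

variable {G : Type u} [Group G] [Finite G] {t : G}

/-- An involution of `Q` other than `t ^ 3` whose commutators with `Q` are powers of `t ^ 3`. -/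
structure Line (t : G) (Q : Subgroup G) (e : G) : Prop where
  mem : e ∈ Q
  comm : ∀ r ∈ Q, ⁅e, r⁆ ∈ zpowers (t ^ 3)
  sq : e * e = 1
  nz : e ∉ zpowers (t ^ 3)

/-- The elements of `Q` that are central modulo the involution. -/
def midQ {Q : Subgroup G} (g : Fib t Q) : Subgroup G where
  carrier := {d | d ∈ Q ∧ ∀ r ∈ Q, ⁅d, r⁆ ∈ zpowers (t ^ 3)}
  one_mem' := ⟨Q.one_mem, fun r _ => by rw [commutatorElement_one_left]; exact one_mem _⟩
  mul_mem' := fun {a b} ha hb => ⟨mul_mem ha.1 hb.1, fun r hr => by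
    obtain ⟨k, hk⟩ := mem_zpowers_iff.1 (hb.2 r hr)
    have hc : Commute a ⁅b, r⁆ := hk ▸ (mem_cz.1 (g.le ha.1)).zpow_right k
    rw [show ⁅a * b, r⁆ = a * ⁅b, r⁆ * a⁻¹ * ⁅a, r⁆ by simp only [commutatorElement_def]; group,
      hc.eq, mul_inv_cancel_right]
    exact mul_mem (hb.2 r hr) (ha.2 r hr)⟩
  inv_mem' := fun {a} ha => ⟨inv_mem ha.1, fun r hr => by
    obtain ⟨k, hk⟩ := mem_zpowers_iff.1 (ha.2 r hr)
    have hc : Commute a⁻¹ ⁅a, r⁆⁻¹ := (hk ▸ (mem_cz.1 (g.le ha.1)).zpow_right k : Commute a ⁅a, r⁆).inv_inv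
    rw [show ⁅a⁻¹, r⁆ = a⁻¹ * ⁅a, r⁆⁻¹ * a by simp only [commutatorElement_def]; group, hc.eq,
      inv_mul_cancel_right]
    exact inv_mem (ha.2 r hr)⟩

namespace Hyp

variable (h : Hyp t) {Q : Subgroup G} (g : Fib t Q)
include h g

theorem zz : t ^ 3 * t ^ 3 = 1 := by rw [← pow_two, ← h.z_ord, pow_orderOf_eq_one]

theorem zinv : (t ^ 3)⁻¹ = t ^ 3 := inv_eq_of_mul_eq_one_right (h.zz g)

theorem z_ne_one : t ^ 3 ≠ 1 := fun e => by
  have := h.z_ord
  rw [e, orderOf_one] at this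
  omega

theorem z_comm {q : G} (hq : q ∈ Q) {w : G} (hw : w ∈ zpowers (t ^ 3)) : Commute q w := by
  obtain ⟨k, rfl⟩ := mem_zpowers_iff.1 hw
  exact (mem_cz.1 (g.le hq)).zpow_right k

theorem zle : zpowers (t ^ 3) ≤ Q := zpowers_le.2 g.z_mem

/-- A point of `Q` moved by `t ^ 2` inside its coset of the involution is trivial there. -/
theorem x_mod {p : G} (hp : p ∈ Q) (he : t ^ 2 * p * (t ^ 2)⁻¹ * p⁻¹ ∈ zpowers (t ^ 3)) :
    p ∈ zpowers (t ^ 3) := by
  refine h.fixed_two g.two (fun _ hq => mem_cz.1 (g.le hq)) hp ?_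
  rcases h.mem_zpowers_z.1 he with e | e
  · exact (mul_inv_eq_iff_eq_mul.1 (mul_inv_eq_one.1 e)).symm
  · exfalso
    rw [mul_inv_eq_iff_eq_mul] at e
    have hxz : t ^ 2 * t ^ 3 * (t ^ 2)⁻¹ = t ^ 3 := by
      rw [(Commute.pow_pow_self t 2 3).eq, mul_inv_cancel_right]
    have e2 : (t ^ 2) ^ 2 * p * ((t ^ 2) ^ 2)⁻¹ = p := by
      rw [show (t ^ 2) ^ 2 * p * ((t ^ 2) ^ 2)⁻¹ = t ^ 2 * (t ^ 2 * p * (t ^ 2)⁻¹) * (t ^ 2)⁻¹ by group, e,
        show t ^ 2 * (t ^ 3 * p) * (t ^ 2)⁻¹ = (t ^ 2 * t ^ 3 * (t ^ 2)⁻¹) * (t ^ 2 * p * (t ^ 2)⁻¹) by group,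
        hxz, e, ← mul_assoc, h.zz g, one_mul]
    have e3 : (t ^ 2) ^ 3 * p * ((t ^ 2) ^ 3)⁻¹ = t ^ 3 * p := by
      rw [show (t ^ 2) ^ 3 * p * ((t ^ 2) ^ 3)⁻¹ = t ^ 2 * ((t ^ 2) ^ 2 * p * ((t ^ 2) ^ 2)⁻¹) * (t ^ 2)⁻¹ by
        rw [pow_succ' (t ^ 2) 2]; group, e2, e]
    rw [show (t ^ 2) ^ 3 = 1 by rw [← h.x_ord, pow_orderOf_eq_one], one_mul, inv_one, mul_one] at e3
    exact h.z_ne_one g (mul_eq_right.1 e3.symm)

theorem line_conj {e : G} (he : Line t Q e) {c : G} (hc : c ∈ cz t) : Line t Q (c * e * c⁻¹) := by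
  have hcz : ∀ w ∈ zpowers (t ^ 3), c * w * c⁻¹ = w := fun w hw => by
    obtain ⟨k, rfl⟩ := mem_zpowers_iff.1 hw
    rw [((mem_cz.1 hc).zpow_right k).eq, mul_inv_cancel_right]
  refine ⟨conj_mem (g.norm hc) he.mem, fun r hr => ?_, ?_, fun hm => he.nz ?_⟩
  · have hr' := conj_mem (inv_mem (g.norm hc)) hr
    rw [inv_inv] at hr'
    have := he.comm _ hr'
    rw [show ⁅c * e * c⁻¹, r⁆ = c * ⁅e, c⁻¹ * r * c⁆ * c⁻¹ by simp only [commutatorElement_def]; group, hcz _ this]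
    exact this
  · rw [show c * e * c⁻¹ * (c * e * c⁻¹) = c * (e * e) * c⁻¹ by group, he.sq]; group
  · have h1 := hcz _ hm
    have : e = c⁻¹ * (c * e * c⁻¹) * c := by group
    rw [this]
    rcases h.mem_zpowers_z.1 hm with e1 | e1 <;> rw [e1]
    · simp
    · rw [show c⁻¹ * t ^ 3 * c = t ^ 3 by rw [mul_assoc, ← (mem_cz.1 hc).eq, inv_mul_cancel_left]]
      exact mem_zpowers _

/-- The three conjugates of a line involution form a four-group modulo the involution. -/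
theorem four {e : G} (he : Line t Q e) :
    Commute e (t ^ 2 * e * (t ^ 2)⁻¹) ∧
      e * (t ^ 2 * e * (t ^ 2)⁻¹) * ((t ^ 2)⁻¹ * e * t ^ 2) ∈ zpowers (t ^ 3) ∧
      e * (t ^ 2 * e * (t ^ 2)⁻¹) ∉ zpowers (t ^ 3) := by
  set x := t ^ 2 with hx
  have hx3 : x ^ 3 = 1 := by rw [hx, ← h.x_ord, pow_orderOf_eq_one]
  set e' := x * e * x⁻¹ with he'
  set e'' := x⁻¹ * e * x with he''
  have hL' : Line t Q e' := h.line_conj g he h.x_mem
  have hL'' : Line t Q e'' := by simpa [he''] using h.line_conj g he (inv_mem h.x_mem)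
  have hxe' : x * e' * x⁻¹ = e'' := by
    rw [he', he'', show x * (x * e * x⁻¹) * x⁻¹ = (x * x) * e * (x * x)⁻¹ by group,
      show x * x = x⁻¹ from eq_inv_of_mul_eq_one_left (by rw [← hx3, pow_three, mul_assoc]), inv_inv]
  have hxe'' : x * e'' * x⁻¹ = e := by rw [he'']; group
  set p := e * e' * e'' with hp
  have hpQ : p ∈ Q := mul_mem (mul_mem he.mem hL'.mem) hL''.mem
  have hxp : x * p * x⁻¹ = e' * e'' * e := by
    rw [hp, show x * (e * e' * e'') * x⁻¹ = (x * e * x⁻¹) * (x * e' * x⁻¹) * (x * e'' * x⁻¹) by group, hxe',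
      hxe'', ← he']
  have hpz : p ∈ zpowers (t ^ 3) := by
    refine h.x_mod g hpQ ?_
    rw [hxp]
    have ie : e⁻¹ = e := inv_eq_of_mul_eq_one_right he.sq
    have : e' * e'' * e * p⁻¹ = ⁅e, p⁆ := by
      rw [commutatorElement_def, ie, hp, show e * (e * e' * e'') = (e * e) * (e' * e'') by group, he.sq, one_mul]
    rw [this]; exact he.comm p hpQ
  have hee : e * e' = p * e'' := by rw [hp, mul_assoc, hL''.sq, mul_one]
  have hsq : (e * e') * (e * e') = 1 := by
    have hcp : Commute e'' p := h.z_comm g hL''.mem hpz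
    rw [hee, hcp.mul_mul_mul_comm, hL''.sq, mul_one]
    rcases h.mem_zpowers_z.1 hpz with e1 | e1 <;> rw [e1]
    exacts [one_mul 1, h.zz g]
  refine ⟨?_, hpz, ?_⟩
  · show e * e' = e' * e
    rw [← inv_eq_of_mul_eq_one_right hsq, mul_inv_rev, inv_eq_of_mul_eq_one_right he.sq,
      inv_eq_of_mul_eq_one_right hL'.sq]
  · intro hm
    rw [hee] at hm
    exact hL''.nz ((mul_mem_cancel_left hpz).1 hm)

/-- A line gives an elementary abelian subgroup of order eight. -/
theorem not_rank {e : G} (he : Line t Q e) : ¬ Cfsg.PRankLE 2 2 G := by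
  intro hr
  obtain ⟨hcomm, -, hne⟩ := h.four g he
  set e' := t ^ 2 * e * (t ^ 2)⁻¹
  have hL' : Line t Q e' := h.line_conj g he h.x_mem
  set A := closure ({t ^ 3, e, e'} : Set G)
  have hze : Commute e (t ^ 3) := mem_cz.1 (g.le he.mem)
  have hze' : Commute e' (t ^ 3) := mem_cz.1 (g.le hL'.mem)
  have hA : IsMulCommutative A := by
    refine Subgroup.isMulCommutative_closure fun a ha b hb => ?_
    simp only [Set.mem_insert_iff, Set.mem_singleton_iff] at ha hb
    rcases ha with rfl | rfl | rfl <;> rcases hb with rfl | rfl | rfl <;>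
      first
        | rfl
        | exact hze.eq | exact hze.eq.symm | exact hze'.eq | exact hze'.eq.symm
        | exact hcomm.eq | exact hcomm.eq.symm
  have hsq : ∀ a ∈ A, a ^ 2 = 1 := by
    intro a ha
    induction ha using closure_induction with
    | mem a ha =>
      simp only [Set.mem_insert_iff, Set.mem_singleton_iff] at ha
      rcases ha with rfl | rfl | rfl <;> rw [pow_two]
      exacts [h.zz g, he.sq, hL'.sq]
    | one => exact one_pow 2
    | mul a b ha hb iha ihb =>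
      have hc : Commute a b := congrArg Subtype.val (hA.is_comm.comm (⟨a, ha⟩ : A) ⟨b, hb⟩)
      rw [hc.mul_pow, iha, ihb, one_mul]
    | inv a _ iha => rw [inv_pow, iha, inv_one]
  have h4 := hr A hA hsq
  have hmem : ∀ v ∈ ({t ^ 3, e, e'} : Set G), v ∈ A := fun v hv => subset_closure hv
  have hsub : ({1, t ^ 3, e, e', e * e'} : Set G) ⊆ (A : Set G) := by
    rintro v (rfl | rfl | rfl | rfl | rfl)
    exacts [A.one_mem, hmem _ (Or.inl rfl), hmem _ (Or.inr (Or.inl rfl)), hmem _ (Or.inr (Or.inr rfl)),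
      mul_mem (hmem _ (Or.inr (Or.inl rfl))) (hmem _ (Or.inr (Or.inr rfl)))]
  have h5 := Set.ncard_le_ncard hsub
  rw [← Nat.card_coe_set_eq (A : Set G)] at h5
  have hz1 := h.z_ne_one g
  have hee' : e ≠ e' := fun e1 => hne (by rw [← e1, he.sq]; exact one_mem _)
  have n1 : ∀ v, v ∉ zpowers (t ^ 3) → (1 : G) ≠ v ∧ t ^ 3 ≠ v := fun v hv =>
    ⟨fun e1 => hv (e1 ▸ one_mem _), fun e1 => hv (e1 ▸ mem_zpowers _)⟩
  have n2 : e ≠ e * e' := fun e1 => hL'.nz (by rw [left_eq_mul.1 e1]; exact one_mem _)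
  have n3 : e' ≠ e * e' := fun e1 => he.nz (by rw [right_eq_mul.1 e1]; exact one_mem _)
  rw [Set.ncard_insert_of_notMem, Set.ncard_insert_of_notMem, Set.ncard_insert_of_notMem,
    Set.ncard_pair n3] at h5
  · have hA5 : 5 ≤ Nat.card A := h5
    norm_num at h4
    omega
  all_goals
    simp [hz1.symm, hee', n2, (n1 _ he.nz).1, (n1 _ he.nz).2, (n1 _ hL'.nz).1, (n1 _ hL'.nz).2,
      (n1 _ hne).1, (n1 _ hne).2]

/-- A central element of `Q` outside the involution yields a central line. -/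
theorem central_line {w : G} (hw : w ∈ Q) (hc : ∀ r ∈ Q, Commute w r) (hwz : w ∉ zpowers (t ^ 3)) :
    ∃ e, Line t Q e ∧ ∀ r ∈ Q, Commute e r := by
  obtain ⟨n, hn⟩ : ∃ n : ℕ, w ^ 2 ^ n ∈ zpowers (t ^ 3) := by
    obtain ⟨k, hk⟩ := g.two ⟨w, hw⟩
    exact ⟨k, by rw [show w ^ 2 ^ k = 1 from congrArg Subtype.val hk]; exact one_mem _⟩
  induction n generalizing w with
  | zero => exact absurd (by simpa using hn) hwz
  | succ n ih =>
    by_cases h1 : w ^ 2 ∈ zpowers (t ^ 3)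
    swap
    · exact ih (pow_mem hw 2) (fun r hr => (hc r hr).pow_left 2) h1 (by rwa [← pow_mul, ← pow_succ'])
    rcases h.mem_zpowers_z.1 h1 with e | e
    · refine ⟨w, ⟨hw, fun r hr => ?_, by rw [← pow_two, e], hwz⟩, hc⟩
      rw [commutatorElement_eq_one_iff_commute.2 (hc r hr)]; exact one_mem _
    · -- a product with a conjugate is an involution
      set w' := t ^ 2 * w * (t ^ 2)⁻¹
      have hw' : w' ∈ Q := conj_mem (g.norm h.x_mem) hw
      refine ⟨w * w', ⟨mul_mem hw hw', fun r hr => ?_, ?_, fun hm => hwz ?_⟩, fun r hr => ?_⟩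
      · have hc' : Commute w' r := by
          have := conj_mem (inv_mem (g.norm h.x_mem)) hr
          rw [inv_inv] at this
          rw [show r = t ^ 2 * ((t ^ 2)⁻¹ * r * t ^ 2) * (t ^ 2)⁻¹ by group]
          exact (commute_conj h).2 (hc _ this)
        rw [commutatorElement_eq_one_iff_commute.2 ((hc r hr).mul_left hc')]; exact one_mem _
      · rw [(hc w' hw').symm.mul_mul_mul_comm, ← pow_two w, e,
          show w' * w' = t ^ 2 * (w * w) * (t ^ 2)⁻¹ by simp [w', mul_assoc], ← pow_two w, e,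
          (Commute.pow_pow_self t 2 3).eq, mul_inv_cancel_right, h.zz g]
      · refine h.x_mod g hw ?_
        have h2 : w' = (w * w)⁻¹ * w * (w * w') := by group
        have h3 : w * (w * w') * w⁻¹ = w * w' := by
          rw [((Commute.refl w).mul_right (hc w' hw')).eq, mul_inv_cancel_right]
        rw [show t ^ 2 * w * (t ^ 2)⁻¹ = w' from rfl, h2,
          show (w * w)⁻¹ * w * (w * w') * w⁻¹ = (w * w)⁻¹ * (w * (w * w') * w⁻¹) by group, h3]
        exact mul_mem (inv_mem (by rw [← pow_two, e]; exact mem_zpowers _)) hm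
      · have hc' : Commute w' r := by
          have := conj_mem (inv_mem (g.norm h.x_mem)) hr
          rw [inv_inv] at this
          rw [show r = t ^ 2 * ((t ^ 2)⁻¹ * r * t ^ 2) * (t ^ 2)⁻¹ by group]
          exact (commute_conj h).2 (hc _ this)
        exact (hc r hr).mul_left hc'

end Hyp

end Cfsg.Lib.SelfCentSix
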