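import Cfsg.Agent.SelfCentSix.Overgroup
import Cfsg.Agent.SelfCentSix.QFacts
import Cfsg.Agent.S3188
import Cfsg.Agent.Classical.Misc.SmallPSL
import Cfsg.Agent.Known.POver.Small

/-!
A Sylow two-subgroup of the centraliser normalised by the element of order three has one central involution.
-/

set_option autoImplicit false
set_option linter.unusedSectionVars false
set_option linter.style.haveILetI false

namespace Cfsg.Lib.SelfCentSix

open Subgroup
open scoped Pointwise

universe u

variable {G : Type u} [Group G] [Finite G] {t : G}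

theorem five_of_dvd {m n : ℕ} (hn : n ∣ 60) (hm : m ∣ n) (h2 : ¬ 2 ∣ m) (h3 : ¬ 3 ∣ m) : m ∣ 5 := by
  have h := hm.trans hn
  have h60 : m ∈ Nat.divisors 60 := Nat.mem_divisors.2 ⟨h, by norm_num⟩
  rw [show Nat.divisors 60 = {1, 2, 3, 4, 5, 6, 10, 12, 15, 20, 30, 60} by decide] at h60
  simp only [Finset.mem_insert, Finset.mem_singleton] at h60
  rcases h60 with rfl | rfl | rfl | rfl | rfl | rfl | rfl | rfl | rfl | rfl | rfl | rfl <;> omega

theorem no_small_index [IsSimpleGroup G] {H : Subgroup G} (h1 : H.index ≠ 1) (h3 : H.index ≤ 3) :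
    Nat.card G ≤ 6 := by
  have hk : H.normalCore = ⊥ := (H.normalCore_normal.eq_bot_or_eq_top).resolve_right fun e =>
    h1 (index_eq_one.2 (top_le_iff.1 (e ▸ H.normalCore_le)))
  rw [normalCore_eq_ker] at hk
  refine (Nat.card_le_card_of_injective _ ((MonoidHom.ker_eq_bot_iff _).1 hk)).trans ?_
  rw [Nat.card_perm, ← index_eq_card]
  exact (Nat.factorial_le h3).trans (by decide)

theorem oddCore_bot [IsSimpleGroup G] (h2 : 2 ∣ Nat.card G) : Cfsg.oddCore G = ⊥ := by
  refine eq_bot_iff.2 (sSup_le fun N ⟨hN, hc⟩ => ?_)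
  rcases hN.eq_bot_or_eq_top with e | e
  · exact e.le
  · exfalso
    rw [e, card_top] at hc
    exact absurd (hc.symm.eq_one_of_dvd h2) (by norm_num)

namespace Hyp

variable (h : Hyp t) {Q : Subgroup G}
include h

theorem card_Q_ne_two (g : Good t Q) : Nat.card Q ≠ 2 := by
  intro e
  have hQz : zpowers (t ^ 3) = Q := eq_of_le_of_card_ge (h.zle g.toFib) (by rw [e, h.card_z])
  have hle : cz t ≤ Q := fun c hc => g.self (mem_centralizer_iff.2 fun q hq => by
    rw [SetLike.mem_coe, ← hQz] at hq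
    obtain ⟨k, rfl⟩ := mem_zpowers_iff.1 hq
    exact ((mem_cz.1 hc).zpow_right k).eq.symm)
  have := Subgroup.orderOf_dvd_natCard Q (hle h.x_mem)
  rw [h.x_ord, e] at this
  norm_num at this

/-- No second central involution. -/
theorem norm_sylow (g : Good t Q) (S : Sylow 2 G) (hS : (S : Subgroup G) ≤ cz t)
    (hxS : t ^ 2 ∈ normalizer ((S : Subgroup G) : Set G)) {u : G} (hu : orderOf u = 2)
    (hc : u ∈ centralizer ((S : Subgroup G) : Set G)) : u = t ^ 3 := by
  classical
  by_contra huz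
  have := h.simple
  have : Fact (Nat.Prime 2) := ⟨Nat.prime_two⟩
  set N := normalizer ((S : Subgroup G) : Set G) with hN
  have hSN : (S : Subgroup G) ≤ N := le_normalizer
  have hzS : t ^ 3 ∈ (S : Subgroup G) := g.toFib.le_sylow S hS g.z_mem
  have hzc : ∀ p ∈ (S : Subgroup G), Commute p (t ^ 3) := fun p hp => mem_cz.1 (hS hp)
  -- the central involutions
  let Ω : Subgroup G :=
    { carrier := {a | a ∈ (S : Subgroup G) ∧ (∀ s ∈ (S : Subgroup G), Commute a s) ∧ a * a = 1}
      one_mem' := ⟨one_mem _, fun s _ => Commute.one_left s, one_mul 1⟩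
      mul_mem' := fun {a b} ha hb => ⟨mul_mem ha.1 hb.1, fun s hs => (ha.2.1 s hs).mul_left (hb.2.1 s hs), by
        rw [(ha.2.1 b hb.1).symm.mul_mul_mul_comm, ha.2.2, hb.2.2, one_mul]⟩
      inv_mem' := fun {a} ha => ⟨inv_mem ha.1, fun s hs => (ha.2.1 s hs).inv_left, by
        rw [← mul_inv_rev, ha.2.2, inv_one]⟩ }
  have hmemΩ : ∀ w, orderOf w = 2 → w ∈ centralizer ((S : Subgroup G) : Set G) → w ∈ Ω := by
    intro w hw hwc
    have hcm : ∀ s ∈ (S : Subgroup G), Commute w s := fun s hs => (mem_centralizer_iff.1 hwc s hs).symm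
    refine ⟨SelfCentSix.le_sylow S (IsPGroup.of_card (n := 1) (by rw [Nat.card_zpowers, hw, pow_one]) :
      IsPGroup 2 (zpowers w)) (fun s hs => ?_) (mem_zpowers w), hcm, by rw [← pow_two, ← hw, pow_orderOf_eq_one]⟩
    refine centralizer_le_normalizer _ (mem_centralizer_iff.2 fun v hv => ?_)
    obtain ⟨k, rfl⟩ := mem_zpowers_iff.1 hv
    exact ((hcm s hs).zpow_left k).eq
  have hzΩ : t ^ 3 ∈ Ω := ⟨hzS, fun s hs => (hzc s hs).symm, h.zz g.toFib⟩
  have huΩ : u ∈ Ω := hmemΩ u hu hc
  have hΩ2 : IsPGroup 2 Ω := S.2.to_le fun a ha => ha.1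
  -- the orbit
  have hΩN : ∀ n ∈ N, ∀ a ∈ Ω, n * a * n⁻¹ ∈ Ω := by
    intro n hn a ha
    refine ⟨conj_mem hn ha.1, fun s hs => ?_, by
      rw [show n * a * n⁻¹ * (n * a * n⁻¹) = n * (a * a) * n⁻¹ by group, ha.2.2]; group⟩
    rw [show s = n * (n⁻¹ * s * n) * n⁻¹ by group]
    refine (commute_conj h).2 (ha.2.1 _ ?_)
    have := conj_mem (inv_mem hn) hs
    rwa [inv_inv] at this
  set W : Set G := {a | a ∈ Ω ∧ a ≠ 1} with hW
  set C' := (cz t).subgroupOf N with hC'
  have hWc : Nat.card W = C'.index := by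
    let f : N ⧸ C' → W := Quotient.lift (fun n : N => (⟨(n : G) * t ^ 3 * (n : G)⁻¹, hΩN n n.2 _ hzΩ,
      fun e => h.z_ne_one g.toFib (conj_eq_one_iff.1 e)⟩ : W)) fun a b hab => by
      have hm : (a⁻¹ * b : N) ∈ C' := QuotientGroup.leftRel_apply.1 hab
      rw [hC', mem_subgroupOf, mem_cz] at hm
      refine Subtype.ext ?_
      show (a : G) * t ^ 3 * (a : G)⁻¹ = (b : G) * t ^ 3 * (b : G)⁻¹
      calc (a : G) * t ^ 3 * (a : G)⁻¹
          = (a : G) * ((((a⁻¹ * b : N)) : G) * t ^ 3 * (((a⁻¹ * b : N)) : G)⁻¹) * (a : G)⁻¹ := by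
            rw [hm.eq, mul_inv_cancel_right]
        _ = _ := by push_cast; group
    refine (Nat.card_congr (Equiv.ofBijective f ⟨?_, ?_⟩)).symm
    · rintro ⟨a⟩ ⟨b⟩ e
      have e' : (a : G) * t ^ 3 * (a : G)⁻¹ = (b : G) * t ^ 3 * (b : G)⁻¹ := congrArg Subtype.val e
      refine Quotient.sound (QuotientGroup.leftRel_apply.2 ?_)
      rw [hC', mem_subgroupOf, mem_cz]
      refine mul_inv_eq_iff_eq_mul.1 ?_
      calc ((a⁻¹ * b : N) : G) * t ^ 3 * ((a⁻¹ * b : N) : G)⁻¹
          = (a : G)⁻¹ * ((b : G) * t ^ 3 * (b : G)⁻¹) * a := by push_cast; group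
        _ = t ^ 3 := by rw [← e']; group
    · rintro ⟨w, hw, hw1⟩
      have hzC : t ^ 3 ∈ centralizer ((S : Subgroup G) : Set G) := mem_centralizer_iff.2 fun s hs => (hzc s hs).eq
      obtain ⟨n, hn, e⟩ := h.burnside S hzC (mem_centralizer_iff.2 fun s hs => (hw.2.1 s hs).eq.symm) h.z_ord
        (orderOf_eq_prime (by rw [pow_two, hw.2.2]) hw1)
      exact ⟨QuotientGroup.mk (⟨n, hn⟩ : N), Subtype.ext e⟩
  have hW3 : 2 ≤ Nat.card W := by
    have hsub : ({t ^ 3, u} : Set G) ⊆ W := by
      rintro v (rfl | rfl)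
      exacts [⟨hzΩ, h.z_ne_one g.toFib⟩, ⟨huΩ, fun e => by rw [e, orderOf_one] at hu; omega⟩]
    have := Set.ncard_le_ncard hsub
    rwa [Set.ncard_pair (Ne.symm huz), ← Nat.card_coe_set_eq] at this
  have hWΩ : Nat.card W + 1 = Nat.card Ω := by
    rw [Nat.card_coe_set_eq, show W = (Ω : Set G) \ {1} by ext a; simp [hW]]
    exact Set.ncard_sdiff_singleton_add_one Ω.one_mem (Set.toFinite _)
  obtain ⟨r, hr⟩ := hΩ2.exists_card_eq
  -- the index
  set SN := (S : Subgroup G).subgroupOf N with hSNdef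
  have hSC : SN ≤ C' := fun s hs => mem_subgroupOf.2 (hS (mem_subgroupOf.1 hs))
  have hmulN := relIndex_mul_relIndex (G := N) SN C' ⊤ hSC le_top
  rw [relIndex_top_right, relIndex_top_right] at hmulN
  have h3k : 3 ∣ SN.relIndex C' := by
    have h1 : Nat.card C' = Nat.card SN * SN.relIndex C' := by
      rw [← relIndex_bot_left, ← relIndex_mul_relIndex ⊥ SN C' bot_le hSC, relIndex_bot_left]
    have h2 := Subgroup.orderOf_dvd_natCard C' (show (⟨t ^ 2, hxS⟩ : N) ∈ C' from mem_subgroupOf.2 h.x_mem)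
    rw [← Subgroup.orderOf_coe, h.x_ord, h1] at h2
    refine (Nat.prime_three.dvd_mul.1 h2).resolve_left fun h3 => not_three_dvd S.2 ?_
    rwa [Nat.card_congr (subgroupOfEquivOfLe hSN).toEquiv] at h3
  obtain ⟨k, hk⟩ := h3k
  have hidx : (S : Subgroup G).relIndex N = 3 * (k * C'.index) := by
    show SN.index = _
    rw [← hmulN, hk]; ring
  have hodd : Odd (k * C'.index) := by
    have := odd_relIndex S hSN
    rw [hidx] at this
    exact Nat.odd_iff.2 (by omega)
  -- the fixed point formula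
  have hS8 : Nat.card (S : Subgroup G) = 8 := by
    refine h.card_eight hSN le_rfl S.2 hxS hzS hzc hidx hodd fun h3 U _ hU p hp hpc => ?_
    by_contra hp1
    obtain ⟨e, he⟩ := S.2 ⟨p, hp⟩
    obtain ⟨j, -, hj⟩ := (Nat.dvd_prime_pow Nat.prime_two).1
      (orderOf_dvd_of_pow_eq_one (show p ^ 2 ^ e = 1 from congrArg Subtype.val he))
    rcases j with - | j
    · exact hp1 (orderOf_eq_one_iff.1 (by rw [hj, pow_zero]))
    have hi : orderOf (p ^ 2 ^ j) = 2 := by
      rw [orderOf_pow_of_dvd (by positivity) (by rw [hj]; exact pow_dvd_pow 2 (by omega)), hj,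
        Nat.pow_div (by omega) (by norm_num), show j + 1 - j = 1 by omega, pow_one]
    obtain ⟨d, hd⟩ := h.exists_conj_z hi
    have hUle : U.map (MulAut.conj d⁻¹).toMonoidHom ≤ cz t := by
      rintro - ⟨v, hv, rfl⟩
      rw [mem_cz, ← commute_conj h (g := d), hd]
      have : d * ((MulAut.conj d⁻¹) v) * d⁻¹ = v := by simp [mul_assoc]
      simp only [MulEquiv.coe_toMonoidHom]
      rw [this]
      exact ((hpc v hv).pow_left _).symm
    have hd' := card_dvd_of_le hUle
    rw [card_map_of_injective (MulAut.conj d⁻¹).injective, hU, g.toFib.card_cz] at hd'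
    have hcop : Nat.Coprime (k * C'.index) (Nat.card Q) := by
      rw [card_eq_pow g.two]
      exact Nat.Coprime.pow_right _ (Nat.coprime_two_right.2 hodd)
    have h60 : Q.relIndex (cz t) ∣ 60 := by rcases g.idx with e | e | e <;> rw [e] <;> norm_num
    have h5 := five_of_dvd h60 (hcop.dvd_of_dvd_mul_left hd') (fun hd2 =>
      (Nat.not_even_iff_odd.2 hodd) (even_iff_two_dvd.2 hd2)) h3
    have h5' : C'.index ∣ 5 := (dvd_mul_left _ k).trans h5
    rcases (Nat.dvd_prime (by norm_num : Nat.Prime 5)).1 h5' with e5 | e5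
    · omega
    · have h6 : Nat.card Ω = 6 := by omega
      exact not_three_dvd hΩ2 (h6 ▸ by norm_num)
  -- the two-core is the Sylow subgroup
  have hQS := g.toFib.le_sylow S hS
  have hQ8 : Nat.card Q = 8 := by
    have hd := card_dvd_of_le hQS
    rw [hS8] at hd
    obtain ⟨j, hj3, hj⟩ := (Nat.dvd_prime_pow Nat.prime_two (m := 3)).1 hd
    have hm := h.fib_mod g.toFib
    have hne := h.card_Q_ne_two g
    rw [hj] at hm hne ⊢
    interval_cases j <;> omega
  have hi3 : Q.relIndex (cz t) = 3 := by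
    rcases g.idx with e | e | e
    · exact e
    · have := g.toFib.sylow_card S hS (a := 1) (b := 3) (by rw [e]; norm_num) (by norm_num)
      omega
    · have := g.toFib.sylow_card S hS (a := 2) (b := 15) (by rw [e]; norm_num) (by norm_num)
      omega
  have hQeq : Q = (S : Subgroup G) := eq_of_le_of_card_ge hQS (by rw [hS8, hQ8])
  have hΩS : Ω = (S : Subgroup G) := by
    have hm : Nat.card Ω % 3 = 2 := h.card_mod hΩ2 (fun p hp => hzc p hp.1) hzΩ fun p hp => hΩN _ hxS p hp
    have hd : Nat.card Ω ∣ 8 := hS8 ▸ card_dvd_of_le (fun a ha => ha.1)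
    refine eq_of_le_of_card_ge (fun a ha => ha.1) ?_
    obtain ⟨j, hj3, hj⟩ := (Nat.dvd_prime_pow Nat.prime_two (m := 3)).1 hd
    rw [hS8, hj]
    rw [hj] at hm hWΩ
    interval_cases j <;> omega
  have hab : IsMulCommutative (S : Subgroup G) := by
    refine ⟨⟨fun a b => Subtype.ext ?_⟩⟩
    have ha : (a : G) ∈ Ω := by rw [hΩS]; exact a.2
    exact (ha.2.1 b b.2).eq
  have hNcard : Nat.card N = 168 := by
    have hCN : cz t ≤ N := by
      intro c hc'
      rw [hN, ← hQeq]
      exact g.norm hc'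
    rw [← C'.card_mul_index, ← hWc, hC', Nat.card_congr (subgroupOfEquivOfLe hCN).toEquiv, g.toFib.card_cz,
      hi3, hQ8, show Nat.card W = 7 by rw [hΩS, hS8] at hWΩ; omega]
  have hsol : ∀ v : G, orderOf v = 2 → Group.IsSolvable (centralizer ({v} : Set G)) := by
    intro v hv
    obtain ⟨d, rfl⟩ := h.exists_conj_z hv
    have hC : Group.IsSolvable (cz t) := by
      have : (Q.subgroupOf (cz t)).Normal := (normal_subgroupOf_iff_le_normalizer g.le).2 g.norm
      have hq : Nat.card (cz t ⧸ Q.subgroupOf (cz t)) = 3 := hi3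
      have : Fact (Nat.Prime 3) := ⟨Nat.prime_three⟩
      have := isCyclic_of_prime_card hq
      have hqc : Group.IsSolvable (cz t ⧸ Q.subgroupOf (cz t)) :=
        Group.isSolvable_of_comm fun a b => ((IsCyclic.commGroup).mul_comm a b)
      have := (g.two.of_equiv (subgroupOfEquivOfLe g.le).symm).isNilpotent
      exact (Group.isSolvable_iff_subgroup_quotient (Q.subgroupOf (cz t))).2 ⟨inferInstance, hqc⟩
    have e : (cz t).map (MulAut.conj d).toMonoidHom = centralizer ({d * t ^ 3 * d⁻¹} : Set G) := by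
      ext a
      rw [SelfCentThree.conj_mem_map_iff, mem_cz, ← commute_conj h (g := d),
        show d * (d⁻¹ * a * d) * d⁻¹ = a by group, mem_centralizer_singleton_iff]
      rfl
    rw [← e]
    exact Group.isSolvable_of_surjective (f := ((cz t).equivMapOfInjective (MulAut.conj d).toMonoidHom
      (MulAut.conj d).injective).toMonoidHom) ((cz t).equivMapOfInjective _ (MulAut.conj d).injective).surjective
  obtain hs | ⟨F, i, j, hF, M, hM, ⟨e⟩, -⟩ := Cfsg.Agent.S3188.result S hab hsol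
  · exact h.nc ⟨⟨fun a b => IsSimpleGroup.comm_iff_isSolvable.2 hs a b⟩⟩
  have h2G : 2 ∣ Nat.card G := h.z_ord ▸ orderOf_dvd_natCard _
  have hO : Cfsg.oddCore G = ⊥ := oddCore_bot h2G
  have hPc : Nat.card G = Nat.card (Matrix.ProjectiveSpecialLinearGroup (Fin 2) F) := by
    have hG : Nat.card (G ⧸ Cfsg.oddCore G) = Nat.card G := by
      rw [← index_eq_card, hO, index_bot]
    have hMtop : M = ⊤ := by
      refine eq_top_iff.2 ?_
      rcases (hM.comap (QuotientGroup.mk' (Cfsg.oddCore G))).eq_bot_or_eq_top with e1 | e1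
      · exfalso
        have h1 : M = ⊥ := by
          rw [← map_comap_eq_self_of_surjective (QuotientGroup.mk'_surjective _) M, e1, Subgroup.map_bot]
        have hc := Nat.card_congr e.toEquiv
        rw [h1, card_bot] at hc
        have h4 : 4 ≤ Fintype.card F := by
          rcases hF with ⟨-, h5⟩ | ⟨n, hn, e2⟩
          · omega
          · rw [e2]; exact (Nat.pow_le_pow_right (by norm_num) hn : 2 ^ 2 ≤ 2 ^ n)
        have hq := Classical.SmallPSL.card_psl (F := F) rfl
        rw [← hc, mul_one] at hq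
        have := Nat.gcd_le_left (Fintype.card F - 1) (by norm_num : 0 < 2)
        have : 4 * (4 ^ 2 - 1) ≤ Fintype.card F * (Fintype.card F ^ 2 - 1) :=
          Nat.mul_le_mul h4 (Nat.sub_le_sub_right (Nat.pow_le_pow_left h4 2) 1)
        omega
      · rw [← map_comap_eq_self_of_surjective (QuotientGroup.mk'_surjective _) M, e1,
          map_top_of_surjective _ (QuotientGroup.mk'_surjective _)]
    rw [← Nat.card_congr e.toEquiv, hMtop, card_top, hG]
  have hq := Classical.SmallPSL.card_psl (F := F) rfl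
  rw [← hPc] at hq
  have h8 : 8 ∣ Nat.card G := hS8 ▸ card_subgroup_dvd_card _
  set q := Fintype.card F
  rcases hF with ⟨h35, -⟩ | ⟨n, hn, hqn⟩
  · rw [show Nat.gcd 2 (q - 1) = 2 from Nat.gcd_eq_left (by omega)] at hq
    have h16 : 16 ∣ q * (q ^ 2 - 1) := hq ▸ (by simpa using Nat.mul_dvd_mul_left 2 h8)
    obtain ⟨a, b, hb, hqa⟩ : ∃ a b, (b = 3 ∨ b = 5) ∧ q = 8 * a + b := ⟨q / 8, q % 8, h35, by omega⟩
    have hcop : Nat.Coprime 16 q := by
      have : Nat.Coprime 2 q := Nat.coprime_two_left.2 (Nat.odd_iff.2 (by omega))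
      exact this.pow_left 4
    have h' := hcop.dvd_of_dvd_mul_left h16
    rw [hqa] at h'
    rcases hb with rfl | rfl
    · rw [show (8 * a + 3) ^ 2 - 1 = 16 * (4 * a ^ 2 + 3 * a) + 8 by ring_nf; omega] at h'
      omega
    · rw [show (8 * a + 5) ^ 2 - 1 = 16 * (4 * a ^ 2 + 5 * a + 1) + 8 by ring_nf; omega] at h'
      omega
  · have hq1 : Nat.gcd 2 (q - 1) = 1 := by
      refine Nat.coprime_two_left.2 (Nat.Even.sub_odd ?_ ?_ odd_one)
      · rw [hqn]; exact Nat.one_le_two_pow
      · rw [hqn]; exact Nat.even_pow.2 ⟨even_two, by omega⟩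
    rw [hq1, one_mul] at hq
    have hn3 : n = 3 := by
      have hf : (Nat.card G).factorization 2 = n := by
        rw [hq, hqn]
        refine SelfCentThree.factorization_two_eq ?_ rfl
        have h1 : 1 ≤ (2 ^ n) ^ 2 := Nat.one_le_pow _ _ (by positivity)
        have h2 : 2 ∣ (2 ^ n) ^ 2 := dvd_pow (dvd_pow_self 2 (by omega)) two_ne_zero
        omega
      have hs := S.card_eq_multiplicity
      rw [hf, hS8] at hs
      exact (Nat.pow_right_injective le_rfl (show 2 ^ 3 = 2 ^ n from hs)).symm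
    have hG : Nat.card G = 504 := by rw [hq, hqn, hn3]; norm_num
    have hi : N.index = 3 := by
      have := N.card_mul_index
      rw [hNcard, hG] at this
      omega
    have := no_small_index (H := N) (by omega) (by omega)
    omega

end Hyp

end Cfsg.Lib.SelfCentSix
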