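import Cfsg.Agent.SelfCentSix.IcosaFrame
import Cfsg.Agent.SelfCentSix.NormSylow
import Cfsg.Agent.SelfCentSix.Pivot
import Cfsg.Agent.SelfCentSix.QShape

/-!
A centraliser with quotient of order sixty over a nontrivial two-core is impossible.
-/

set_option autoImplicit false
set_option linter.unusedSectionVars false
set_option linter.style.haveILetI false

namespace Cfsg.Lib.SelfCentSix

open Subgroup
open scoped Pointwise commutatorElement

universe u

variable {G : Type u} [Group G] [Finite G] {t : G}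

namespace Hyp

variable (h : Hyp t) {Q : Subgroup G}
include h

/-- A two-core of order eight does not support a quotient of order sixty. -/
theorem not_eight (g : Good t Q) (h60 : Q.relIndex (cz t) = 60) : Nat.card Q ≠ 8 := by
  intro h8
  have : Fact (Nat.Prime 5) := ⟨by norm_num⟩
  obtain ⟨⟨v, hv⟩, hvo⟩ := exists_prime_orderOf_dvd_card' (G := cz t) 5 (by
    rw [g.toFib.card_cz, h60, h8]; norm_num)
  rw [Subgroup.orderOf_mk] at hvo
  have hP : IsPGroup 5 (zpowers v) := IsPGroup.of_card (n := 1) (by rw [Nat.card_zpowers, hvo, pow_one])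
  have hn : ∀ (a : zpowers v), (a : G) ∈ normalizer (Q : Set G) := fun a => g.norm ((zpowers_le.2 hv) a.2)
  letI : MulAction (zpowers v) Q :=
    { smul := fun a p => ⟨(a : G) * p * (a : G)⁻¹, conj_mem (hn a) p.2⟩
      one_smul := fun p => Subtype.ext (by show (1 : G) * p * (1 : G)⁻¹ = p; simp)
      mul_smul := fun a b p => Subtype.ext (by
        show ((a : G) * b) * p * ((a : G) * b)⁻¹ = (a : G) * ((b : G) * p * (b : G)⁻¹) * (a : G)⁻¹
        group) }
  have hmod := hP.card_modEq_card_fixedPoints Q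
  set F := Q ⊓ centralizer ({v} : Set G) with hF
  have e : Nat.card (MulAction.fixedPoints (zpowers v) Q) = Nat.card F := Nat.card_congr
    { toFun := fun p => ⟨p.1, p.1.2, mem_centralizer_singleton_iff.2
        (mul_inv_eq_iff_eq_mul.1 (congrArg Subtype.val (p.2 ⟨v, mem_zpowers v⟩) : v * (p.1 : G) * v⁻¹ = p.1)).symm⟩
      invFun := fun p => ⟨⟨p, p.2.1⟩, fun a => Subtype.ext (by
        show (a : G) * (p : G) * (a : G)⁻¹ = p
        obtain ⟨k, hk⟩ := mem_zpowers_iff.1 a.2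
        rw [← hk, ((show Commute (p : G) v from mem_centralizer_singleton_iff.1 p.2.2).zpow_right k).eq.symm,
          mul_inv_cancel_right])⟩
      left_inv := fun _ => rfl
      right_inv := fun _ => rfl }
  rw [e, h8] at hmod
  have hd : Nat.card F ∣ 8 := h8 ▸ card_dvd_of_le inf_le_left
  have hle := Nat.le_of_dvd (by norm_num) hd
  have hF8 : Nat.card F = 8 := by
    rw [Nat.ModEq] at hmod
    interval_cases Nat.card F <;> omega
  have hFQ : F = Q := eq_of_le_of_card_ge inf_le_left (by rw [hF8, h8])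
  have hvQ : v ∈ Q := g.self (mem_centralizer_iff.2 fun p hp => by
    rw [SetLike.mem_coe, ← hFQ] at hp
    exact mem_centralizer_singleton_iff.1 hp.2)
  have := Subgroup.orderOf_dvd_natCard Q hvQ
  rw [hvo, h8] at this
  norm_num at this

/-- An element of order three modulo `Q` fixes no point of `Q` modulo the involution. -/
theorem three_fix (g : Fib t Q) {b : G} (hb : b ∈ cz t) (hb3 : b ^ 3 ∈ Q) (hbQ : b ∉ Q) {p : G} (hp : p ∈ Q)
    (hfix : b * p * b⁻¹ * p⁻¹ ∈ zpowers (t ^ 3)) : p ∈ zpowers (t ^ 3) := by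
  have : Fact (Nat.Prime 2) := ⟨Nat.prime_two⟩
  have : Fact (Nat.Prime 3) := ⟨Nat.prime_three⟩
  haveI := h.normal_z
  set N := (zpowers (t ^ 3)).subgroupOf (cz t) with hN
  set π := QuotientGroup.mk' N
  obtain ⟨k, hk⟩ := g.two ⟨b ^ 3, hb3⟩
  have hk' : (b ^ 2 ^ k) ^ 3 = 1 := by
    rw [← pow_mul, mul_comm, pow_mul]
    exact congrArg Subtype.val hk
  set y := b ^ 2 ^ k with hy
  have hy1 : y ≠ 1 := fun e => hbQ (by
    obtain ⟨u, v, huv⟩ : ∃ u v : ℤ, u * 3 + v * (2 ^ k : ℕ) = 1 := by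
      have := Int.isCoprime_iff_nat_coprime (a := 3) (b := ((2 ^ k : ℕ) : ℤ))
      exact this.2 (Nat.Coprime.pow_right k (by norm_num))
    have hb1 : b = (b ^ (3 : ℕ)) ^ u * y ^ v := by
      rw [hy, ← zpow_natCast b 3, ← zpow_natCast b (2 ^ k), ← zpow_mul, ← zpow_mul, ← zpow_add,
        show ((3 : ℕ) : ℤ) * u + ((2 ^ k : ℕ) : ℤ) * v = 1 by push_cast at huv ⊢; linarith, zpow_one]
    rw [hb1, e, one_zpow, mul_one]
    exact zpow_mem hb3 u)
  have hyo : orderOf y = 3 := orderOf_eq_prime hk' hy1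
  have hyC : y ∈ cz t := pow_mem hb _
  obtain ⟨d, hd, hdy⟩ := h.three_conj hyo hyC
  have hpC : p ∈ cz t := g.le hp
  have hcomm : Commute (π ⟨b, hb⟩) (π ⟨p, hpC⟩) := by
    refine commutatorElement_eq_one_iff_commute.1 ?_
    rw [← map_commutatorElement]
    exact (QuotientGroup.eq_one_iff _).2 (mem_subgroupOf.2 hfix)
  have hyc : Commute (π ⟨y, hyC⟩) (π ⟨p, hpC⟩) := by
    rw [show (⟨y, hyC⟩ : cz t) = ⟨b, hb⟩ ^ 2 ^ k from rfl, map_pow]
    exact hcomm.pow_left _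
  have hxc : Commute (π (⟨d, hd⟩ * ⟨t ^ 2, h.x_mem⟩ * (⟨d, hd⟩ : cz t)⁻¹)) (π ⟨p, hpC⟩) := by
    rcases hdy with e | e
    · rw [show (⟨d, hd⟩ * ⟨t ^ 2, h.x_mem⟩ * (⟨d, hd⟩ : cz t)⁻¹) = ⟨y, hyC⟩ from Subtype.ext e]; exact hyc
    · rw [show (⟨d, hd⟩ * ⟨t ^ 2, h.x_mem⟩ * (⟨d, hd⟩ : cz t)⁻¹) = ⟨y, hyC⟩⁻¹ from Subtype.ext e, map_inv]
      exact hyc.inv_left
  rw [← commutatorElement_eq_one_iff_commute, ← map_commutatorElement, QuotientGroup.mk'_apply,
    QuotientGroup.eq_one_iff, hN, mem_subgroupOf] at hxc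
  have hx' : t ^ 2 * (d⁻¹ * p * d) * (t ^ 2)⁻¹ * (d⁻¹ * p * d)⁻¹ ∈ zpowers (t ^ 3) := by
    obtain ⟨i, hi⟩ := mem_zpowers_iff.1 hxc
    refine mem_zpowers_iff.2 ⟨i, ?_⟩
    calc (t ^ 3) ^ i = d⁻¹ * (t ^ 3) ^ i * d := by
          rw [mul_assoc, ← ((mem_cz.1 hd).zpow_right i).eq, inv_mul_cancel_left]
      _ = _ := by rw [hi]; simp [commutatorElement_def, mul_assoc]
  have hd' : d⁻¹ * p * d ∈ Q := by
    have := conj_mem (inv_mem (g.norm hd)) hp
    rwa [inv_inv] at this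
  obtain ⟨i, hi⟩ := mem_zpowers_iff.1 (h.x_mod g hd' hx')
  refine mem_zpowers_iff.2 ⟨i, ?_⟩
  calc (t ^ 3) ^ i = d * (t ^ 3) ^ i * d⁻¹ := by rw [((mem_cz.1 hd).zpow_right i).eq, mul_inv_cancel_right]
    _ = p := by rw [hi]; group

/-- A two-core with quotient of order sixty is impossible. -/
theorem icosa (g : Good t Q) (h60 : Q.relIndex (cz t) = 60) : False := by
  classical
  have : Fact (Nat.Prime 2) := ⟨Nat.prime_two⟩
  obtain ⟨S, c, a, hS, hxS, hc, haS, hc2, hcx, hca3, hcaQ, hall⟩ := h.exists_frame g.toFib h60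
  have hQS := g.toFib.le_sylow S hS
  have hZ : ∀ u : G, orderOf u = 2 → u ∈ centralizer ((S : Subgroup G) : Set G) → u = t ^ 3 :=
    fun u hu hu' => h.norm_sylow g S hS hxS hu hu'
  have hline : ∃ e, Line t Q e := by
    rcases h.q_shape g.toFib with e | ⟨e, -⟩ | e
    exacts [absurd e (h.card_Q_ne_two g), absurd e (h.not_eight g h60), e]
  obtain ⟨e, he, hef⟩ := h.exists_fixed_line g.toFib S.2 hS hline
  obtain ⟨M, hM⟩ := h.pivot g S hS he hef hZ
  set T := (S : Subgroup G) ⊓ centralizer ({e} : Set G) with hT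
  haveI := h.normal_z
  set N := (zpowers (t ^ 3)).subgroupOf (cz t) with hN
  set π := QuotientGroup.mk' N
  set X : cz t := ⟨t ^ 2, h.x_mem⟩ with hX
  have hπ : ∀ {p r : cz t}, π p = π r ↔ (p : G) * (r : G)⁻¹ ∈ zpowers (t ^ 3) := fun {p r} => by
    rw [← mul_inv_eq_one, ← map_inv, ← map_mul, QuotientGroup.mk'_apply, QuotientGroup.eq_one_iff, hN,
      mem_subgroupOf]
    rfl
  have hfc : ∀ {s w : G} (hs : s ∈ cz t) (hw : w ∈ cz t),
      (s * w * s⁻¹) * w⁻¹ ∈ zpowers (t ^ 3) ↔ Commute (π ⟨s, hs⟩) (π ⟨w, hw⟩) := fun {s w} hs hw => by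
    rw [← commutatorElement_eq_one_iff_commute, ← map_commutatorElement, QuotientGroup.mk'_apply,
      QuotientGroup.eq_one_iff, hN, mem_subgroupOf]
    rfl
  have hmid : ∀ {p r : cz t}, (p : G) ∈ midQ g.toFib → (r : G) ∈ Q → Commute (π p) (π r) :=
    fun {p r} hp hr => (hfc p.2 r.2).1 (hp.2 r hr)
  -- the shift
  let Fix : cz t → Prop := fun w => Line t Q w ∧ ∀ s : cz t, (s : G) ∈ (S : Subgroup G) → Commute (π s) (π w)
  have hFix : ∀ k w : cz t, (k : G) ∈ normalizer ((S : Subgroup G) : Set G) → Fix w → Fix (k * w * k⁻¹) := by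
    intro k w hk hw
    refine ⟨h.line_conj g.toFib hw.1 k.2, fun s hs => ?_⟩
    have hs' : ((k⁻¹ * s * k : cz t) : G) ∈ (S : Subgroup G) := by
      have := conj_mem (inv_mem hk) hs
      rwa [inv_inv] at this
    have := (hw.2 _ hs').map (MulAut.conj (π k)).toMonoidHom
    simpa [map_mul, mul_assoc] using this
  have shift : ∀ k : cz t, (k : G) ∈ normalizer ((S : Subgroup G) : Set G) →
      c⁻¹ * (k : G) * c * (k : G) ∈ Q → ∀ s : cz t, (s : G) * ((k : G) * a * (k : G)⁻¹)⁻¹ ∈ Q →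
      ∀ w : cz t, Fix w → π (s * (⟨c, hc⟩ * w * (⟨c, hc⟩ : cz t)⁻¹) * s⁻¹) =
        π (k * k * w * (k * k)⁻¹) * π (⟨c, hc⟩ * w * (⟨c, hc⟩ : cz t)⁻¹) := by
    intro k hk hkc s hs w hw
    set c' : cz t := ⟨c, hc⟩ with hc'
    set a' : cz t := ⟨a, hS haS⟩ with ha'
    have hD : ∀ d w : cz t, Fix w → ((d * w * d⁻¹ : cz t) : G) ∈ midQ g.toFib := fun d w hw =>
      h.mid_conj g.toFib ⟨hw.1.mem, hw.1.comm⟩ d.2
    have hsq : ∀ w : cz t, Fix w → π w * π w = 1 := fun w hw => by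
      rw [← map_mul, show w * w = 1 from Subtype.ext hw.1.sq, map_one]
    -- the basic relation
    have base : ∀ w : cz t, Fix w → π a' * (π c' * π w * (π c')⁻¹) * (π a')⁻¹ = π w * (π c' * π w * (π c')⁻¹) := by
      intro w hw
      set b := c' * a' with hb
      set V := c' * w * c'⁻¹ with hV
      set p := w * V * (b⁻¹ * w * b) with hp
      have hwm : (w : G) ∈ midQ g.toFib := ⟨hw.1.mem, hw.1.comm⟩
      have hVm : (V : G) ∈ midQ g.toFib := hD c' w hw
      have hUm : ((b⁻¹ * w * b : cz t) : G) ∈ midQ g.toFib := by simpa using hD b⁻¹ w hw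
      have hpm : (p : G) ∈ midQ g.toFib := mul_mem (mul_mem hwm hVm) hUm
      have hb3 : Commute (π (b ^ 3)) (π w) := (hmid hwm (show ((b ^ 3 : cz t) : G) ∈ Q from hca3)).symm
      have hAw : Commute (π a') (π w) := hw.2 a' haS
      have e1 : π b * π w * (π b)⁻¹ = π V := by
        rw [hb, hV, map_mul, map_mul, map_mul, map_inv,
          show π c' * π a' * π w * (π c' * π a')⁻¹ = π c' * (π a' * π w * (π a')⁻¹) * (π c')⁻¹ by group,
          hAw.eq, mul_inv_cancel_right]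
      have e2 : π b * π V * (π b)⁻¹ = π (b⁻¹ * w * b) := by
        rw [← e1, map_mul π (b⁻¹ * w) b, map_mul π b⁻¹ w, map_inv]
        rw [map_pow] at hb3
        calc π b * (π b * π w * (π b)⁻¹) * (π b)⁻¹
            = (π b)⁻¹ * (π b ^ 3 * π w * (π b ^ 3)⁻¹) * π b := by rw [pow_three]; group
          _ = (π b)⁻¹ * π w * π b := by rw [hb3.eq, mul_inv_cancel_right]
      have e3 : π b * π (b⁻¹ * w * b) * (π b)⁻¹ = π w := by
        rw [map_mul π (b⁻¹ * w) b, map_mul π b⁻¹ w, map_inv]; group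
      have hp1 : π p = 1 := by
        have hfix : Commute (π b) (π p) := by
          refine mul_inv_eq_iff_eq_mul.1 ?_
          rw [hp, map_mul π (w * V), map_mul π w V, show π b * (π w * π V * π (b⁻¹ * w * b)) * (π b)⁻¹ =
            (π b * π w * (π b)⁻¹) * (π b * π V * (π b)⁻¹) * (π b * π (b⁻¹ * w * b) * (π b)⁻¹) by group, e1, e2, e3]
          rw [mul_assoc (π w)]
          exact (((hmid hVm hwm.1).mul_left (hmid hUm hwm.1))).eq
        have hm := h.three_fix g.toFib (b := (b : G)) b.2 hca3 hcaQ hpm.1 ((hfc b.2 p.2).2 hfix)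
        exact (QuotientGroup.eq_one_iff _).2 (mem_subgroupOf.2 hm)
      have hC2 : Commute (π c' * π c') (π w) := by
        rw [← map_mul]; exact (hmid hwm (show ((c' * c' : cz t) : G) ∈ Q from hc2)).symm
      have hU : π (b⁻¹ * w * b) = (π a')⁻¹ * π V * π a' := by
        rw [hb, hV, map_mul, map_mul, map_inv, map_mul, map_mul, map_mul, map_inv,
          show (π c' * π a')⁻¹ * π w * (π c' * π a') =
            (π a')⁻¹ * ((π c')⁻¹ * π w * π c') * π a' by group,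
          show (π c')⁻¹ * π w * π c' = π c' * π w * (π c')⁻¹ from ?_]
        calc (π c')⁻¹ * π w * π c' = (π c')⁻¹ * ((π c' * π c') * π w * (π c' * π c')⁻¹) * π c' := by
              rw [hC2.eq, mul_inv_cancel_right]
          _ = _ := by group
      rw [hp, map_mul, map_mul, hU] at hp1
      have hVsq : π V * π V = 1 := by
        rw [← map_mul, show V * V = 1 from Subtype.ext (h.line_conj g.toFib hw.1 hc).sq, map_one]
      have hWV := hmid hwm hVm.1 (p := w) (r := V)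
      rw [← map_inv π c', ← map_mul, ← map_mul]
      have h5 : (π a')⁻¹ * π V * π a' = π w * π V := by
        rw [eq_inv_of_mul_eq_one_right hp1, mul_inv_rev, inv_eq_of_mul_eq_one_right hVsq,
          inv_eq_of_mul_eq_one_right (hsq w hw), hWV.eq]
      have h6 : π V = π w * (π a' * π V * (π a')⁻¹) := by
        calc π V = π a' * ((π a')⁻¹ * π V * π a') * (π a')⁻¹ := by group
          _ = π a' * (π w * π V) * (π a')⁻¹ := by rw [h5]
          _ = (π a' * π w * (π a')⁻¹) * (π a' * π V * (π a')⁻¹) := by group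
          _ = _ := by rw [hAw.eq, mul_inv_cancel_right]
      calc π a' * π V * (π a')⁻¹ = (π w * π w) * (π a' * π V * (π a')⁻¹) := by rw [hsq w hw, one_mul]
        _ = π w * π V := by rw [mul_assoc, ← h6]
    have hW1 := hFix k w hk hw
    set V := c' * w * c'⁻¹ with hV
    have hVm : (V : G) ∈ midQ g.toFib := hD c' w hw
    have hwm : (w : G) ∈ midQ g.toFib := ⟨hw.1.mem, hw.1.comm⟩
    set r := c'⁻¹ * k * c' * k with hr
    have hrw : Commute (π r) (π w) := (hmid hwm (show (r : G) ∈ Q from hkc)).symm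
    have hrw' : Commute (π r) (π (k * w * k⁻¹)) :=
      (hmid (hD k w hw) (show (r : G) ∈ Q from hkc)).symm
    have e1 : (π k)⁻¹ * π V * π k = π c' * π (k * w * k⁻¹) * (π c')⁻¹ := by
      rw [hV, map_mul, map_mul, map_mul, map_mul, map_inv, map_inv]
      have hrk : π r = (π c')⁻¹ * π k * π c' * π k := by rw [hr, map_mul, map_mul, map_mul, map_inv]
      have e : (π k)⁻¹ * π c' = π c' * π k * (π r)⁻¹ := by rw [hrk]; group
      calc (π k)⁻¹ * (π c' * π w * (π c')⁻¹) * π k = ((π k)⁻¹ * π c') * π w * ((π k)⁻¹ * π c')⁻¹ := by group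
        _ = π c' * π k * ((π r)⁻¹ * π w * π r) * (π k)⁻¹ * (π c')⁻¹ := by rw [e]; group
        _ = _ := by rw [mul_assoc ((π r)⁻¹) (π w), ← hrw.eq, inv_mul_cancel_left]; group
    have e2 := base _ hW1
    have hs' : Commute (π (s * (k * a' * k⁻¹)⁻¹)) (π (k * k * w * (k * k)⁻¹) * π V) := by
      have h1 : ((k * k * w * (k * k)⁻¹ : cz t) : G) ∈ midQ g.toFib := hD (k * k) w hw
      exact ((hmid h1 (show (((s * (k * a' * k⁻¹)⁻¹ : cz t)) : G) ∈ Q from hs)).symm).mul_right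
        (hmid hVm (show (((s * (k * a' * k⁻¹)⁻¹ : cz t)) : G) ∈ Q from hs)).symm
    have e3 : π (k * a' * k⁻¹) * π V * (π (k * a' * k⁻¹))⁻¹ = π (k * k * w * (k * k)⁻¹) * π V := by
      rw [map_mul, map_mul, map_inv,
        show π k * π a' * (π k)⁻¹ * π V * (π k * π a' * (π k)⁻¹)⁻¹ =
          π k * (π a' * ((π k)⁻¹ * π V * π k) * (π a')⁻¹) * (π k)⁻¹ by group, e1, e2]
      have hrk : π k * π c' * π k = π c' * π r := by rw [hr, map_mul, map_mul, map_mul, map_inv]; group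
      simp only [hV, map_mul, map_inv]
      calc π k * (π k * π w * (π k)⁻¹ * (π c' * (π k * π w * (π k)⁻¹) * (π c')⁻¹)) * (π k)⁻¹
          = π k * π k * π w * (π k * π k)⁻¹ * ((π k * π c' * π k) * π w * (π k * π c' * π k)⁻¹) := by group
        _ = π k * π k * π w * (π k * π k)⁻¹ * (π c' * (π r * π w * (π r)⁻¹) * (π c')⁻¹) := by rw [hrk]; group
        _ = _ := by rw [hrw.eq, mul_inv_cancel_right]
    calc π (s * V * s⁻¹) = π (s * (k * a' * k⁻¹)⁻¹) * (π (k * a' * k⁻¹) * π V * (π (k * a' * k⁻¹))⁻¹) *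
          (π (s * (k * a' * k⁻¹)⁻¹))⁻¹ := by
          simp only [map_mul, map_inv]; group
      _ = _ := by rw [e3, hs'.eq, mul_inv_cancel_right]
  -- instances of the shift
  have hxN : t ^ 2 ∈ normalizer (Q : Set G) := g.norm h.x_mem
  have hk1 : c⁻¹ * t ^ 2 * c * t ^ 2 ∈ Q := by
    have h1 := conj_mem (inv_mem (g.norm hc)) hcx
    rw [show c⁻¹ * (c * t ^ 2 * c⁻¹ * t ^ 2) * c⁻¹⁻¹ = t ^ 2 * (c⁻¹ * t ^ 2 * c) by group] at h1
    have h2 := conj_mem (inv_mem hxN) h1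
    rwa [show (t ^ 2)⁻¹ * (t ^ 2 * (c⁻¹ * t ^ 2 * c)) * (t ^ 2)⁻¹⁻¹ = c⁻¹ * t ^ 2 * c * t ^ 2 by group] at h2
  have hk2 : c⁻¹ * (t ^ 2)⁻¹ * c * (t ^ 2)⁻¹ ∈ Q := by
    have h1 := inv_mem (conj_mem hxN hk1)
    rwa [show (t ^ 2 * (c⁻¹ * t ^ 2 * c * t ^ 2) * (t ^ 2)⁻¹)⁻¹ = c⁻¹ * (t ^ 2)⁻¹ * c * (t ^ 2)⁻¹ by group] at h1
  let KS : cz t → Prop := fun k => (k : G) ∈ normalizer ((S : Subgroup G) : Set G) ∧
    c⁻¹ * (k : G) * c * (k : G) ∈ Q
  have hK1 : KS 1 := ⟨one_mem _, by simp [Q.one_mem]⟩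
  have hKx : KS X := ⟨hxS, hk1⟩
  have hKx' : KS X⁻¹ := ⟨inv_mem hxS, hk2⟩
  let e₀ : cz t := ⟨e, g.le he.mem⟩
  let e₁ : cz t := X * e₀ * X⁻¹
  have hFe : Fix e₀ := ⟨he, fun s hs => (hfc s.2 (g.le he.mem)).1 (hef s hs)⟩
  have hFe₁ : Fix e₁ := hFix X e₀ hxS hFe
  -- an element of `T` outside `Q`
  have hTc : Nat.card T = 2 * Nat.card Q := by
    have h1 := g.toFib.sylow_card S hS (a := 2) (b := 15) (by rw [h60]; norm_num) (by norm_num)
    have h2 : Nat.card (S : Subgroup G) = 2 * Nat.card T := hM.half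
    omega
  obtain ⟨s, hsT, hsQ⟩ : ∃ s ∈ T, s ∉ Q := by
    by_contra hno
    push Not at hno
    have := Nat.card_le_card_of_injective _ (inclusion_injective (show T ≤ Q from hno))
    have : 0 < Nat.card Q := Nat.card_pos
    omega
  obtain ⟨k, hk, hkcases, hsk⟩ : ∃ k, KS k ∧ (k = 1 ∨ k = X ∨ k = X⁻¹) ∧
      s * ((k : G) * a * (k : G)⁻¹)⁻¹ ∈ Q := by
    rcases hall s (mem_inf.1 hsT).1 with e1 | e1 | e1 | e1
    · exact absurd e1 hsQ
    · exact ⟨1, hK1, Or.inl rfl, by simpa using e1⟩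
    · exact ⟨X, hKx, Or.inr (Or.inl rfl), e1⟩
    · exact ⟨X⁻¹, hKx', Or.inr (Or.inr rfl), by simpa [hX] using e1⟩
  -- the commutator with a suitable mover
  set w := (k * k)⁻¹ * e₁ * (k * k) with hw
  have hFw : Fix w := by
    simpa [hw] using hFix (k * k)⁻¹ e₁ (inv_mem (mul_mem hk.1 hk.1)) hFe₁
  set v : cz t := ⟨c, hc⟩ * w * (⟨c, hc⟩ : cz t)⁻¹ with hv
  have hvL : Line t Q v := h.line_conj g.toFib hFw.1 hc
  have hshift := shift k hk.1 hk.2 ⟨s, hS (mem_inf.1 hsT).1⟩ hsk w hFw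
  rw [show k * k * w * (k * k)⁻¹ = e₁ by rw [hw]; group, ← hv] at hshift
  -- `v` commutes with `e`
  have hvT : (v : G) ∈ T := by
    refine mem_inf.2 ⟨hQS hvL.mem, mem_centralizer_singleton_iff.2 ?_⟩
    -- some coset moves `v` to its product with `e`
    have hex : ∃ k', KS k' ∧ π (k' * k' * w * (k' * k')⁻¹) = π e₀ := by
      have hX3 : X * X * X = 1 := Subtype.ext (by
        show t ^ 2 * t ^ 2 * t ^ 2 = 1
        rw [← pow_three' (t ^ 2), ← h.x_ord, pow_orderOf_eq_one])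
      have hXi : X * X = X⁻¹ := eq_inv_of_mul_eq_one_left hX3
      have hkX : Commute k X := by
        rcases hkcases with rfl | rfl | rfl
        exacts [Commute.one_left X, Commute.refl X, (Commute.refl X).inv_left]
      refine ⟨k * X, ?_, ?_⟩
      · rcases hkcases with rfl | rfl | rfl
        exacts [by rw [one_mul]; exact hKx, by rw [hXi]; exact hKx', by rw [inv_mul_cancel]; exact hK1]
      · congr 1
        rw [hkX.symm.mul_mul_mul_comm, hXi, hw]
        simp only [e₁]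
        rw [((hkX.mul_left hkX).inv_right).eq]
        group
    obtain ⟨k', hk', hk'e⟩ := hex
    have h1 := shift k' hk'.1 hk'.2 ⟨(k' : G) * a * (k' : G)⁻¹, hS (conj_mem hk'.1 haS)⟩
      (by rw [mul_inv_cancel]; exact Q.one_mem) w hFw
    rw [hk'e, ← hv, ← map_mul, hπ] at h1
    set L := (((⟨(k' : G) * a * (k' : G)⁻¹, hS (conj_mem hk'.1 haS)⟩ : cz t) * v *
      (⟨(k' : G) * a * (k' : G)⁻¹, hS (conj_mem hk'.1 haS)⟩ : cz t)⁻¹ : cz t) : G) with hL
    have hLl : Line t Q L := h.line_conj g.toFib hvL (hS (conj_mem hk'.1 haS))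
    have hev : (e * (v : G)) * (e * (v : G)) = 1 := by
      rcases h.mem_zpowers_z.1 h1 with e1 | e1
      · rw [show e * (v : G) = L from (mul_inv_eq_one.1 e1).symm, hLl.sq]
      · have e2 : e * (v : G) = t ^ 3 * L := by
          rw [show L = t ^ 3 * (e * (v : G)) from mul_inv_eq_iff_eq_mul.1 e1, ← mul_assoc, h.zz g.toFib, one_mul]
        rw [e2, ((mem_cz.1 (g.le hLl.mem))).mul_mul_mul_comm, h.zz g.toFib, hLl.sq, one_mul]
    show (v : G) * e = e * v
    rw [← inv_eq_of_mul_eq_one_right hev, mul_inv_rev, inv_eq_of_mul_eq_one_right he.sq,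
      inv_eq_of_mul_eq_one_right hvL.sq]
  -- class two
  obtain ⟨y, hyM, hyo, -⟩ := hM.exists_three
  have hT2 : IsPGroup 2 T := S.2.to_le inf_le_left
  have hyn : ∀ p ∈ T, y * p * y⁻¹ ∈ T := fun p hp => conj_mem (hM.T_norm hyM) hp
  have hT1 : Nat.card T % 3 = 1 := by
    have := h.fib_mod g.toFib
    omega
  have hcls : ∀ p ∈ T, Commute ⁅s, (v : G)⁆ p := fun p hp =>
    class_two hyo hT2 hyn (fun p hp hpy => h.fpf_three hyo hT2 hyn hT1 hp hpy) hsT hvT hp
  set e' := t ^ 2 * e * (t ^ 2)⁻¹ with he'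
  have he'L : Line t Q e' := h.line_conj g.toFib he h.x_mem
  have he'c : ∀ p ∈ T, Commute e' p := by
    intro p hp
    have hpz : Commute (t ^ 3) p := (mem_cz.1 (hS (mem_inf.1 hp).1)).symm
    rw [← map_mul, hπ] at hshift
    have hsv : s * (v : G) * s⁻¹ * (e' * (v : G))⁻¹ ∈ zpowers (t ^ 3) := hshift
    have he'z : Commute e' (t ^ 3) := mem_cz.1 (g.le he'L.mem)
    rcases h.mem_zpowers_z.1 hsv with e1 | e1
    · have : ⁅s, (v : G)⁆ = e' := by
        rw [commutatorElement_def, mul_inv_eq_one.1 e1, mul_inv_cancel_right]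
      exact this ▸ hcls p hp
    · have : ⁅s, (v : G)⁆ = t ^ 3 * e' := by
        rw [commutatorElement_def, mul_inv_eq_iff_eq_mul.1 e1, ← mul_assoc, mul_inv_cancel_right]
      have h2 := hpz.inv_left.mul_left (this ▸ hcls p hp : Commute (t ^ 3 * e') p)
      rwa [inv_mul_cancel_left] at h2
  -- the product of the two lines is central
  obtain ⟨s₀, hs₀, hs₀T⟩ : ∃ s ∈ (S : Subgroup G), s ∉ T := by
    by_contra hno
    push Not at hno
    have := Nat.card_le_card_of_injective _ (inclusion_injective (show (S : Subgroup G) ≤ T from hno))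
    have h2 : Nat.card (S : Subgroup G) = 2 * Nat.card T := hM.half
    have : 0 < Nat.card T := Nat.card_pos
    omega
  have hcent : ∀ u : G, (∀ p ∈ T, Commute u p) → Commute u s₀ → ∀ p ∈ (S : Subgroup G), Commute u p := by
    intro u h1 h2 p hp
    have hidx : (T.subgroupOf (S : Subgroup G)).index = 2 := by
      have := (T.subgroupOf (S : Subgroup G)).card_mul_index
      rw [Nat.card_congr (subgroupOfEquivOfLe inf_le_left).toEquiv, hM.half, mul_comm 2] at this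
      exact Nat.eq_of_mul_eq_mul_left Nat.card_pos this
    by_cases hpT : p ∈ T
    · exact h1 p hpT
    have hm : (p * s₀ : G) ∈ T := by
      have := (mul_mem_iff_of_index_two hidx (a := (⟨p, hp⟩ : (S : Subgroup G))) (b := ⟨s₀, hs₀⟩)).2
        (by simp [mem_subgroupOf, hpT, hs₀T])
      exact mem_subgroupOf.1 this
    have h3 := (h1 _ hm).mul_right h2.inv_right
    rwa [mul_inv_cancel_right] at h3
  have hs₀e : s₀ * e * s₀⁻¹ = t ^ 3 * e := by
    rcases h.mem_zpowers_z.1 (hef s₀ hs₀) with e1 | e1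
    · exact absurd (mem_inf.2 ⟨hs₀, mem_centralizer_singleton_iff.2
        (mul_inv_eq_iff_eq_mul.1 (mul_inv_eq_one.1 e1))⟩) hs₀T
    · exact mul_inv_eq_iff_eq_mul.1 e1
  have hef' : (s₀ * e' * s₀⁻¹) * e'⁻¹ ∈ zpowers (t ^ 3) := (hfc (hS hs₀) (g.le he'L.mem)).2 (hFe₁.2 ⟨s₀, hS hs₀⟩ hs₀)
  have hT' : ∀ p ∈ T, Commute e p := fun p hp => (show Commute p e from
    mem_centralizer_singleton_iff.1 (mem_inf.1 hp).2).symm
  have hfin : ∀ u : G, u * u = 1 → u ∉ zpowers (t ^ 3) → (∀ p ∈ (S : Subgroup G), Commute u p) → False := by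
    intro u huu huz huc
    refine huz ?_
    rw [hZ u (orderOf_eq_prime (by rw [pow_two, huu]) fun e1 => huz (e1 ▸ one_mem _))
      (mem_centralizer_iff.2 fun p hp => (huc p hp).eq.symm)]
    exact mem_zpowers _
  rcases h.mem_zpowers_z.1 hef' with e1 | e1
  · exact hfin e' he'L.sq he'L.nz (hcent e' he'c (mul_inv_eq_iff_eq_mul.1 (mul_inv_eq_one.1 e1)).symm)
  · obtain ⟨hee, -, hne⟩ := h.four g.toFib he
    refine hfin (e * e') (by rw [hee.symm.mul_mul_mul_comm, he.sq, he'L.sq, one_mul]) hne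
      (hcent (e * e') (fun p hp => (hT' p hp).mul_left (he'c p hp)) ?_)
    refine (mul_inv_eq_iff_eq_mul.1 ?_).symm
    rw [show s₀ * (e * e') * s₀⁻¹ = (s₀ * e * s₀⁻¹) * (s₀ * e' * s₀⁻¹) by group, hs₀e,
      mul_inv_eq_iff_eq_mul.1 e1, (mem_cz.1 (g.le he.mem)).mul_mul_mul_comm, h.zz g.toFib, one_mul]

end Hyp

end Cfsg.Lib.SelfCentSix
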