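import Cfsg.Agent.SelfCentSix.SixCenter
import Cfsg.Agent.SelfCentSix.Pivot
import Cfsg.Agent.SelfCentSix.QShape
import Cfsg.Agent.SelfCentSix.NormSylow
import Cfsg.Agent.LargeExtra.Coprime
import Cfsg.Agent.S2751
import Cfsg.Agent.S3344

/-!
Index six: the amalgam bound leaves an extraspecial two-core of order 32, and none of those groups has one
class of involutions.
-/

set_option autoImplicit false
set_option linter.unusedSectionVars false
set_option linter.style.haveILetI false
set_option maxRecDepth 10000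

namespace Cfsg.Lib.SelfCentSix

open Subgroup
open scoped Pointwise commutatorElement

universe u

variable {G : Type u} [Group G] [Finite G] {t : G}

open Equiv in
theorem alt_two_classes {n : ℕ} (hn : 8 ≤ n) :
    ∃ a b : alternatingGroup (Fin n), orderOf a = 2 ∧ orderOf b = 2 ∧ ¬ IsConj a b := by
  let f : Fin 8 ↪ Fin n := ⟨Fin.castLE hn, Fin.castLE_injective hn⟩
  let φ := Perm.viaEmbeddingHom f
  let a8 : Perm (Fin 8) := swap 0 1 * swap 2 3
  let b8 : Perm (Fin 8) := swap 0 1 * swap 2 3 * (swap 4 5 * swap 6 7)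
  have hsign : ∀ p : Perm (Fin 8), Perm.sign p = 1 → φ p ∈ alternatingGroup (Fin n) := fun p hp => by
    rw [Perm.mem_alternatingGroup]
    show Perm.sign (p.viaEmbedding f) = 1
    rw [Perm.viaEmbedding, Perm.sign_extendDomain, hp]
  have hφ : Function.Injective φ := Perm.viaEmbeddingHom_injective f
  have ho : ∀ p : Perm (Fin 8), (hp : Perm.sign p = 1) → p * p = 1 → p ≠ 1 →
      orderOf (⟨φ p, hsign p hp⟩ : alternatingGroup (Fin n)) = 2 := fun p hp h1 h2 => by
    rw [← Subgroup.orderOf_coe]
    show orderOf (φ p) = 2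
    rw [orderOf_injective φ hφ]
    exact orderOf_eq_prime (by rw [pow_two, h1]) h2
  refine ⟨⟨φ a8, hsign a8 (by decide +kernel)⟩, ⟨φ b8, hsign b8 (by decide +kernel)⟩,
    ho a8 (by decide +kernel) (by decide +kernel) (by decide +kernel),
    ho b8 (by decide +kernel) (by decide +kernel) (by decide +kernel), fun hc => ?_⟩
  have h1 : IsConj (φ a8) (φ b8) := (alternatingGroup (Fin n)).subtype.map_isConj hc
  have h2 : (φ a8).cycleType = (φ b8).cycleType := Perm.isConj_iff_cycleType_eq.1 h1
  have h3 : ∀ p : Perm (Fin 8), (φ p).cycleType = p.cycleType := fun p => by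
    show (p.viaEmbedding f).cycleType = _
    letI : DecidablePred fun a => a ∈ Set.range f.toFun := fun a => Classical.propDecidable _
    rw [Perm.viaEmbedding]
    exact Perm.cycleType_extendDomain _
  rw [h3, h3] at h2
  have h4 := congrArg Multiset.sum h2
  rw [Perm.sum_cycleType, Perm.sum_cycleType] at h4
  have e1 : a8.support.card = 4 := by decide +kernel
  have e2 : b8.support.card = 8 := by decide +kernel
  omega

namespace Hyp

variable (h : Hyp t) {Q : Subgroup G}
include h

theorem no_alt {n : ℕ} (hn : 8 ≤ n) (e : G ≃* alternatingGroup (Fin n)) : False := by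
  obtain ⟨a, b, ha, hb, hab⟩ := alt_two_classes hn
  refine hab ?_
  have := e.toMonoidHom.map_isConj
    (h.one (e.symm a) (e.symm b) (by rw [MulEquiv.orderOf_eq, ha]) (by rw [MulEquiv.orderOf_eq, hb]))
  simpa using this

theorem no_normal_eight (N : Subgroup G) (hN : N.Normal) (hc : IsMulCommutative N) (h8 : Nat.card N = 8) :
    False := by
  have := h.simple
  rcases hN.eq_bot_or_eq_top with e | e
  · rw [e, card_bot] at h8; omega
  · refine h.nc ⟨⟨fun a b => ?_⟩⟩
    exact congrArg Subtype.val (hc.is_comm.comm (⟨a, e ▸ mem_top a⟩ : N) ⟨b, e ▸ mem_top b⟩)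

open M12Cent in
theorem no_thirty_two (H : Cfsg.Lib.ExtraEight.Hyp G) : False := by
  classical
  rcases H.exists_model with ⟨φ, hinj, hrange⟩ | ⟨φ, h1, h2, h3, h4⟩
  · obtain ⟨m, hm⟩ : H.s ∈ φ.range := hrange ▸ mem_centralizer_singleton_iff.2 rfl
    have hmt : φ tau = H.s := by
      rcases M12Cent.center_model m (fun y => hinj (by
        rw [map_mul, map_mul, hm]
        exact (mem_centralizer_singleton_iff.1 (hrange ▸ ⟨y, rfl⟩ : φ y ∈ centralizer {H.s})).symm)) with rfl | rfl
      · rw [map_one] at hm; exact absurd hm.symm H.s_ne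
      · exact hm
    obtain ⟨a, b, hab⟩ := Cfsg.Lib.ExtraEight.model_noncomm
    let S : Setting G := { t := H.s, φ := φ, inj := hinj, range_eq := hrange, map_tau := hmt,
                           noncomm := fun h => hab (hinj (by rw [map_mul, map_mul]; exact h.is_comm.comm _ _)) }
    have hall : ∀ v : G, orderOf v = 2 → S.IsT v := fun v hv => h.one S.t v H.hs hv
    have h6 : S.IsT (S.φ a6) := by
      refine hall _ ?_
      obtain ⟨u1, u2⟩ := lab_zero a6 (by decide +kernel)
      exact orderOf_eq_prime (by rw [← map_pow, pow_two, u1, map_one]) fun e => by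
        have := hinj (e.trans (map_one φ).symm)
        exact absurd this (by decide +kernel)
    obtain ⟨W, hWt⟩ := S.exists_sit_of h6
    exact W.u_not_T (h.one _ _ (W.t_order) W.u_order)
  have h3' : φ Cfsg.Lib.ExtraEight.tA = H.s := h3
  let S : Cfsg.Lib.ExtraEight.ASetting G := ⟨φ, h1, by rw [h3']; exact h2⟩
  obtain ⟨g, hgQ, hgne⟩ := H.hnwc
  obtain ⟨m, hm6, hme⟩ := h4 _ hgQ
  have h6 : S.PT 2 ∨ S.PT 3 ∨ S.PT 4 := by
    refine S.some_six hm6 (fun e => hgne ?_) ?_
    · rw [← hme, e, h3']
    · show IsConj (φ Cfsg.Lib.ExtraEight.tA) (φ m)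
      rw [h3', hme]
      exact isConj_iff.2 ⟨g, rfl⟩
  rcases S.dichotomy h6 with ⟨N, hN, hc, -, h8, -⟩ | ⟨S', -, hP⟩
  · exact h.no_normal_eight N hN hc h8
  obtain ⟨f, hf, hfφ⟩ := S'.exists_alt hP
  by_cases htop : f.range = ⊤
  · exact h.no_alt le_rfl (((MonoidHom.ofInjective hf).trans (MulEquiv.subgroupCongr htop)).trans
      Subgroup.topEquiv).symm
  · let A : Cfsg.Lib.ExtraEight.Alt9 G := ⟨S', hP, f, hf, hfφ, htop⟩
    obtain ⟨e⟩ := A.iso_nine
    exact h.no_alt (by norm_num) e

/-- A two-core of order 32 with cyclic centre is extraspecial. -/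
theorem six_extra (g : Fib t Q) (hcen : ∀ w ∈ Q, (∀ r ∈ Q, Commute w r) → w ∈ zpowers (t ^ 3)) {e : G}
    (he : Line t Q e) (h32 : Nat.card Q = 32) : Cfsg.IsExtraspecial 2 Q := by
  classical
  have : Fact (Nat.Prime 2) := ⟨Nat.prime_two⟩
  set z := t ^ 3 with hz
  set x := t ^ 2 with hx
  set D := midQ g with hD
  have hDQ : D ≤ Q := fun d hd => hd.1
  have hzD : z ∈ D := ⟨g.z_mem, fun r hr => by
    rw [commutatorElement_eq_one_iff_commute.2 (mem_cz.1 (g.le hr)).symm]; exact one_mem _⟩
  have hDx : ∀ d ∈ D, x * d * x⁻¹ ∈ D := fun d hd => h.mid_conj g hd h.x_mem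
  have hDn : ∀ r ∈ Q, ∀ d ∈ D, r * d * r⁻¹ ∈ D := fun r hr d hd => h.mid_conj g hd (g.le hr)
  have hmid : D = Q := by
    refine le_antisymm hDQ fun r hr => ?_
    by_contra hrD
    obtain ⟨h01, -, hne⟩ := h.four g he
    have hDmod := h.card_mod (g.two.to_le hDQ) (fun p hp => mem_cz.1 (g.le (hDQ hp))) hzD hDx
    have hd32 : Nat.card D ∣ 2 ^ 5 := by
      have := card_dvd_of_le hDQ
      rw [h32] at this
      exact this
    obtain ⟨j, hj5, hj⟩ := (Nat.dvd_prime_pow Nat.prime_two).1 hd32
    have heD : e ∈ D := ⟨he.mem, he.comm⟩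
    have he'D : x * e * x⁻¹ ∈ D := hDx e heD
    have hD5 : 4 < Nat.card D := by
      have hsub : ({1, z, e, x * e * x⁻¹, e * (x * e * x⁻¹)} : Set G) ⊆ (D : Set G) := by
        rintro v (rfl | rfl | rfl | rfl | rfl)
        exacts [D.one_mem, hzD, heD, he'D, mul_mem heD he'D]
      have h5 := Set.ncard_le_ncard hsub
      have n1 : ∀ v, v ∉ zpowers z → (1 : G) ≠ v ∧ z ≠ v := fun v hv =>
        ⟨fun e1 => hv (e1 ▸ one_mem _), fun e1 => hv (e1 ▸ mem_zpowers _)⟩
      have hL' : Line t Q (x * e * x⁻¹) := h.line_conj g he h.x_mem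
      have hz1 : z ≠ 1 := h.z_ne_one g
      have hne : e * (x * e * x⁻¹) ∉ zpowers z := hne
      have n2 : e ≠ e * (x * e * x⁻¹) := fun e1 => hL'.nz (by rw [left_eq_mul.1 e1]; exact one_mem _)
      have n3 : x * e * x⁻¹ ≠ e * (x * e * x⁻¹) := fun e1 => he.nz (by rw [right_eq_mul.1 e1]; exact one_mem _)
      have hee' : e ≠ x * e * x⁻¹ := fun e1 => hne (by rw [← e1, he.sq]; exact one_mem _)
      rw [Set.ncard_insert_of_notMem, Set.ncard_insert_of_notMem, Set.ncard_insert_of_notMem,
        Set.ncard_pair n3] at h5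
      · exact h5
      all_goals
        simp [hz1.symm, hee', n2, (n1 _ he.nz).1, (n1 _ he.nz).2, (n1 _ hL'.nz).1, (n1 _ hL'.nz).2,
          (n1 _ hne).1, (n1 _ hne).2]
    have hD8 : Nat.card D = 8 := by
      rw [hj] at hDmod hD5
      rcases (by interval_cases j <;> omega : j = 3 ∨ j = 5) with rfl | rfl
      · exact hj
      · exact absurd ((eq_of_le_of_card_ge hDQ (by rw [h32, hj]; norm_num)).symm ▸ hr) hrD
    set N := D.subgroupOf Q with hN
    haveI : N.Normal := ⟨fun n hn r => mem_subgroupOf.2 (hDn r r.2 n (mem_subgroupOf.1 hn))⟩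
    set q := QuotientGroup.mk' N with hq
    have hQ4 : Nat.card (Q ⧸ N) = 4 := by
      have h1 := N.card_eq_card_quotient_mul_card_subgroup
      rw [h32, Nat.card_congr (subgroupOfEquivOfLe hDQ).toEquiv, hD8] at h1
      omega
    have hq1 : ∀ {v : Q}, q v = 1 ↔ (v : G) ∈ D := fun {v} => by
      rw [hq, QuotientGroup.mk'_apply, QuotientGroup.eq_one_iff, hN, mem_subgroupOf]
    let X : Q → Q := fun v => ⟨x * v * x⁻¹, conj_mem (g.norm h.x_mem) v.2⟩
    -- no coset is fixed
    have hmove : ∀ v : Q, q v ≠ 1 → q v * q v = 1 → q (X v) ≠ q v := by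
      intro v hv1 hv2 hfix
      set K := ((zpowers (q v)).comap q).map Q.subtype with hK
      have hKQ : K ≤ Q := map_subtype_le _
      have hKc : Nat.card K = 16 := by
        rw [hK, card_map_of_injective Q.subtype_injective]
        have h3 := ((zpowers (q v)).comap q).card_mul_index
        have hord : Nat.card (zpowers (q v)) = 2 := by
          rw [Nat.card_zpowers]; exact orderOf_eq_prime (by rw [pow_two, hv2]) hv1
        have h4 := (zpowers (q v)).card_mul_index
        rw [hord, hQ4] at h4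
        rw [index_comap_of_surjective _ (QuotientGroup.mk'_surjective N), h32] at h3
        rw [show (zpowers (q v)).index = 2 by omega] at h3
        omega
      have hKx : ∀ p ∈ K, x * p * x⁻¹ ∈ K := by
        rintro - ⟨p, hp, rfl⟩
        refine ⟨X p, ?_, rfl⟩
        obtain ⟨i, hi⟩ := mem_zpowers_iff.1 (mem_comap.1 hp)
        refine mem_comap.2 (mem_zpowers_iff.2 ⟨i, ?_⟩)
        let Xh : Q →* Q := MonoidHom.mk' X fun a b => Subtype.ext (by
          show x * ((a : G) * b) * x⁻¹ = x * a * x⁻¹ * (x * b * x⁻¹)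
          group)
        have hXN : N ≤ (N.comap Xh) := fun n hn => mem_comap.2 (mem_subgroupOf.2 (hDx n (mem_subgroupOf.1 hn)))
        have hm := congrArg (QuotientGroup.map N N Xh hXN) hi
        rw [map_zpow] at hm
        have hfix' : QuotientGroup.map N N Xh hXN (q v) = q v := hfix
        rw [hfix'] at hm
        exact hm
      have := h.card_mod (g.two.to_le hKQ) (fun p hp => mem_cz.1 (g.le (hKQ hp)))
        ⟨⟨z, g.z_mem⟩, mem_comap.2 (by rw [(hq1 (v := ⟨z, g.z_mem⟩)).2 hzD]; exact one_mem _), rfl⟩ hKx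
      rw [hKc] at this
      omega
    -- three nontrivial involutions of the quotient
    obtain ⟨a, ha1, ha2⟩ : ∃ a : Q, q a ≠ 1 ∧ q a * q a = 1 := by
      obtain ⟨v, hv⟩ := exists_prime_orderOf_dvd_card' (G := Q ⧸ N) 2 (by rw [hQ4]; norm_num)
      obtain ⟨a, rfl⟩ := QuotientGroup.mk'_surjective N v
      exact ⟨a, fun e1 => by rw [show q a = 1 from e1, orderOf_one] at hv; omega,
        by rw [← pow_two, ← hv]; exact pow_orderOf_eq_one _⟩
    set b := X a with hb
    have hXsq : ∀ v : Q, q v ≠ 1 → q v * q v = 1 → q (X v) ≠ 1 ∧ q (X v) * q (X v) = 1 := by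
      intro v hv1 hv2
      refine ⟨fun e1 => hv1 (hq1.2 ?_), ?_⟩
      · have hm := hq1.1 e1
        have := h.mid_conj g hm (inv_mem h.x_mem)
        rwa [show x⁻¹ * ((X v : Q) : G) * x⁻¹⁻¹ = v by show x⁻¹ * (x * v * x⁻¹) * x⁻¹⁻¹ = _; group] at this
      · rw [← map_mul, hq1]
        rw [← map_mul, hq1] at hv2
        have := hDx _ hv2
        rwa [show x * ((v * v : Q) : G) * x⁻¹ = ((X v * X v : Q) : G) by
          show x * ((v : G) * v) * x⁻¹ = x * v * x⁻¹ * (x * v * x⁻¹); group] at this
    obtain ⟨hb1, hb2⟩ := hXsq a ha1 ha2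
    have hba : q b ≠ q a := hmove a ha1 ha2
    set c := X b with hc
    obtain ⟨hc1, hc2⟩ := hXsq b hb1 hb2
    have hcb : q c ≠ q b := hmove b hb1 hb2
    have hca : q c ≠ q a := fun e1 => by
      have hm : ((X c : Q) : G) = a := by
        show x * (x * (x * (a : G) * x⁻¹) * x⁻¹) * x⁻¹ = a
        rw [show x * (x * (x * (a : G) * x⁻¹) * x⁻¹) * x⁻¹ = (x * x * x) * a * (x * x * x)⁻¹ by group,
          ← pow_three' x, hx, ← h.x_ord, pow_orderOf_eq_one]
        group
      have := hmove c hc1 hc2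
      rw [show X c = a from Subtype.ext hm] at this
      exact this e1.symm
    have hall : ∀ v : Q ⧸ N, v = 1 ∨ v = q a ∨ v = q b ∨ v = q a * q b := by
      have habne : q a * q b ≠ 1 := fun e1 => hba (by
        rw [← inv_eq_of_mul_eq_one_right ha2, eq_inv_of_mul_eq_one_right e1])
      intro v
      by_contra hv
      push Not at hv
      have h5 : ({1, q a, q b, q a * q b, v} : Set (Q ⧸ N)).ncard ≤ 4 := hQ4 ▸ Set.ncard_le_card _
      rw [Set.ncard_insert_of_notMem, Set.ncard_insert_of_notMem, Set.ncard_insert_of_notMem,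
        Set.ncard_pair hv.2.2.2.symm] at h5
      · omega
      all_goals simp [ha1.symm, (show q b ≠ 1 from hb1).symm, habne.symm, hv.1.symm, hv.2.1.symm, hv.2.2.1.symm, hba.symm,
        show q a ≠ q a * q b from fun e1 => hb1 (left_eq_mul.1 e1),
        show q b ≠ q a * q b from fun e1 => ha1 (right_eq_mul.1 e1)]
    have hcab : q c = q a * q b := by
      rcases hall (q c) with e1 | e1 | e1 | e1
      exacts [absurd e1 hc1, absurd e1 hca, absurd e1 hcb, e1]
    -- modulo the involution
    haveI := h.normal_z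
    set π := (QuotientGroup.mk' ((zpowers z).subgroupOf (cz t))).comp (inclusion g.le) with hπ
    have hπ1 : ∀ {v : Q}, π v = 1 ↔ (v : G) ∈ zpowers z := fun {v} => by
      rw [hπ, MonoidHom.comp_apply, QuotientGroup.mk'_apply, QuotientGroup.eq_one_iff, mem_subgroupOf]
      rfl
    have hcomm : ∀ {v r : Q}, (v : G) ∈ D → Commute (π v) (π r) := fun {v r} hv => by
      rw [← commutatorElement_eq_one_iff_commute, ← map_commutatorElement, hπ1]
      exact hv.2 r r.2
    set k := ⁅a, b⁆ with hk
    have hqc : Commute (q a) (q b) := by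
      have h1 : q c * q c = 1 := hc2
      rw [hcab] at h1
      show q a * q b = q b * q a
      rw [← inv_eq_of_mul_eq_one_right h1, mul_inv_rev, inv_eq_of_mul_eq_one_right ha2,
        inv_eq_of_mul_eq_one_right hb2]
    have hkD : (k : G) ∈ D := hq1.1 (by
      rw [hk, map_commutatorElement]; exact commutatorElement_eq_one_iff_commute.2 hqc)
    have haa : Commute (π (a * a)) (π b) := hcomm (hq1.1 (by rw [map_mul, ha2]))
    have hk2 : π k * π k = 1 := by
      have hka : Commute (π k) (π a) := hcomm hkD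
      rw [hk, map_commutatorElement] at hka ⊢
      have : ⁅π a * π a, π b⁆ = ⁅π a, π b⁆ * ⁅π a, π b⁆ := by
        rw [show ⁅π a * π a, π b⁆ = π a * ⁅π a, π b⁆ * (π a)⁻¹ * ⁅π a, π b⁆ by
          simp only [commutatorElement_def]; group, hka.symm.eq, mul_inv_cancel_right]
      rw [← this, commutatorElement_eq_one_iff_commute, ← map_mul]
      exact haa
    obtain ⟨d, hd, hcd⟩ : ∃ d : Q, (d : G) ∈ D ∧ c = a * b * d := by
      refine ⟨(a * b)⁻¹ * c, hq1.1 (by rw [map_mul, map_inv, hcab, map_mul, inv_mul_cancel]), ?_⟩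
      rw [mul_inv_cancel_left]
    have hkc : π ⁅b, c⁆ = π k := by
      rw [map_commutatorElement, hcd, map_mul, map_mul, hk, map_commutatorElement]
      have h1 : ⁅π b, π a * π b * π d⁆ = ⁅π b, π a⁆ := by
        have hdb : Commute (π d) (π b) := hcomm hd
        simp only [commutatorElement_def, mul_inv_rev]
        calc π b * (π a * π b * π d) * (π b)⁻¹ * ((π d)⁻¹ * ((π b)⁻¹ * (π a)⁻¹))
            = π b * π a * π b * (π d * (π b)⁻¹) * (π d)⁻¹ * (π b)⁻¹ * (π a)⁻¹ := by group
          _ = _ := by rw [hdb.inv_right.eq]; group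
      rw [h1, ← commutatorElement_inv]
      refine inv_eq_of_mul_eq_one_right ?_
      rw [← map_commutatorElement, ← hk]
      exact hk2
    have hkz : (k : G) ∈ zpowers z := by
      refine h.x_mod g (hDQ hkD) ?_
      have e1 : ((⁅b, c⁆ * k⁻¹ : Q) : G) = x * (k : G) * x⁻¹ * (k : G)⁻¹ := by
        show ⁅x * (a : G) * x⁻¹, x * (b : G) * x⁻¹⁆ * (k : G)⁻¹ = _
        rw [show (k : G) = ⁅(a : G), (b : G)⁆ from rfl]
        simp only [commutatorElement_def]
        group
      rw [← e1]
      exact hπ1.1 (by rw [map_mul, map_inv, hkc, mul_inv_cancel])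
    -- hence the outside element is central modulo the involution
    refine ha1 (hq1.2 ⟨a.2, fun v hv => ?_⟩)
    have hab' : Commute (π a) (π b) := by
      rw [← commutatorElement_eq_one_iff_commute, ← map_commutatorElement, ← hk, hπ1]; exact hkz
    have hav : Commute (π a) (π ⟨v, hv⟩) := by
      rcases hall (q ⟨v, hv⟩) with e1 | e1 | e1 | e1
      · exact (hcomm (hq1.1 e1)).symm
      · have hm : ((a⁻¹ * ⟨v, hv⟩ : Q) : G) ∈ D := hq1.1 (by rw [map_mul, map_inv, e1, inv_mul_cancel])
        have := (Commute.refl (π a)).mul_right (hcomm hm (r := a)).symm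
        rwa [map_mul, map_inv, mul_inv_cancel_left] at this
      · have hm : ((b⁻¹ * ⟨v, hv⟩ : Q) : G) ∈ D := hq1.1 (by rw [map_mul, map_inv, e1, inv_mul_cancel])
        have := hab'.mul_right (hcomm hm (r := a)).symm
        rwa [map_mul, map_inv, mul_inv_cancel_left] at this
      · have hm : (((a * b)⁻¹ * ⟨v, hv⟩ : Q) : G) ∈ D := hq1.1 (by
          rw [map_mul, map_inv, map_mul, e1, inv_mul_cancel])
        have := ((Commute.refl (π a)).mul_right hab').mul_right (hcomm hm (r := a)).symm
        rwa [map_mul, map_inv, map_mul, mul_inv_cancel_left] at this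
    rw [← commutatorElement_eq_one_iff_commute, ← map_commutatorElement, hπ1] at hav
    exact hav
  refine LargeExtra.isExtraspecial_of g.two g.z_mem (h.z_ne_one g) (h.zz g) (fun a ha => mem_cz.1 (g.le ha))
    (fun a ha b hb => h.mem_zpowers_z.1 ?_) (fun a ha => h.mem_zpowers_z.1 ?_)
    (fun c hc hcc => h.mem_zpowers_z.1 (hcen c hc fun r hr => (hcc r hr).symm)) ?_
  · rw [← hmid] at ha
    exact ha.2 b hb
  · have ha' : a ∈ D := hmid.symm ▸ ha
    exact hcen _ (mul_mem ha ha) fun r hr => h.mid_sq g ha' hr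
  · by_contra hno
    push Not at hno
    exact he.nz (hcen e he.mem fun r hr => hno e he.mem r hr)

/-- A two-core with line and index six is impossible. -/
theorem case_six (g : Good t Q) (h6 : Q.relIndex (cz t) = 6) (hline : ∃ e, Line t Q e) : False := by
  classical
  have : Fact (Nat.Prime 2) := ⟨Nat.prime_two⟩
  set z := t ^ 3 with hz
  have hno : ∀ e, Line t Q e → ¬ ∀ r ∈ Q, Commute e r := fun e he hc =>
    he.nz (h.six_center g h6 he.mem hc he.sq)
  have hcen : ∀ w ∈ Q, (∀ r ∈ Q, Commute w r) → w ∈ zpowers z := fun w hw hc => h.center_le g.toFib hno hw hc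
  obtain ⟨S, hS⟩ := h.exists_sylow_le
  have hQS := g.toFib.le_sylow S hS
  have hSc := h.six_sylow g.toFib h6 S hS
  have hZ : ∀ u : G, orderOf u = 2 → u ∈ centralizer ((S : Subgroup G) : Set G) → u = z := by
    intro u hu hc
    have hcm : ∀ r ∈ Q, Commute u r := fun r hr => (mem_centralizer_iff.1 hc r (hQS hr)).symm
    have huQ : u ∈ Q := g.self (mem_centralizer_iff.2 fun r hr => (hcm r hr).eq.symm)
    rcases h.mem_zpowers_z.1 (hcen u huQ hcm) with e1 | e1
    · rw [e1, orderOf_one] at hu; omega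
    · exact e1
  obtain ⟨e, he, hef⟩ := h.exists_fixed_line g.toFib S.2 hS hline
  obtain ⟨M, hM⟩ := h.pivot g S hS he hef hZ
  obtain ⟨y, hyM, hyo, hyz⟩ := hM.exists_three
  -- the order
  have hQ32 : Nat.card Q = 32 := by
    by_cases hc : ∀ N : Subgroup G, N ≤ cz t ⊓ M → (N.subgroupOf (cz t)).Normal → (N.subgroupOf M).Normal → N = ⊥
    · have hCM : cz t ⊓ M = (S : Subgroup G) := by rw [inf_comm]; exact hM.meet
      obtain ⟨hcore, ⟨e1⟩⟩ := h.six_quot g.toFib h6
      set T := (S : Subgroup G) ⊓ centralizer ({e} : Set G) with hT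
      haveI hTn : (T.subgroupOf M).Normal := (normal_subgroupOf_iff_le_normalizer hM.T_le).2 hM.T_norm
      have hTcore : Cfsg.pCore 2 M = T.subgroupOf M := by
        refine le_antisymm ?_ (Components.le_pCore ((S.2.to_le inf_le_left).of_equiv
          (subgroupOfEquivOfLe hM.T_le).symm))
        intro a ha
        exact mem_subgroupOf.2 (hM.sym (Cfsg.pCoreOf 2 M) (JComp.pCoreOf_le M)
          (le_normalizer.trans (JComp.normalizer_le_pCoreOf 2 M)) (JComp.isPGroup_pCoreOf M) ⟨a, ha, rfl⟩)
      obtain ⟨e2⟩ := hM.quot (T.subgroupOf M) hTn rfl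
      have h128 := Cfsg.Agent.S2751.result (cz t) M ⟨S.subtype hS, by rw [hCM]; exact Sylow.coe_subtype _ _⟩
        ⟨S.subtype hM.S_le, by rw [hCM]; exact Sylow.coe_subtype _ _⟩ ⟨e1⟩
        ⟨(QuotientGroup.quotientMulEquivOfEq hTcore).trans e2⟩ hc
      rw [hCM, hSc] at h128
      obtain ⟨n, hn⟩ := g.two.exists_card_eq
      have hmod := h.fib_mod g.toFib
      have h2 := h.card_Q_ne_two g
      have h8 : Nat.card Q ≠ 8 := by
        intro h8
        -- the conjugate lines span `Q`
        obtain ⟨h01, -, hne⟩ := h.four g.toFib he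
        refine hno e he fun r hr => ?_
        let A : Subgroup G := Q ⊓ centralizer ({e} : Set G)
        have hA : A = Q := by
          refine eq_of_le_of_card_ge inf_le_left ?_
          have hsub : ({1, z, e, t ^ 2 * e * (t ^ 2)⁻¹, e * (t ^ 2 * e * (t ^ 2)⁻¹)} : Set G) ⊆ (A : Set G) := by
            have he' := h.line_conj g.toFib he h.x_mem
            rintro v (rfl | rfl | rfl | rfl | rfl)
            exacts [A.one_mem,
              ⟨g.z_mem, mem_centralizer_singleton_iff.2 (mem_cz.1 (g.le he.mem)).symm.eq⟩,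
              ⟨he.mem, mem_centralizer_singleton_iff.2 rfl⟩,
              ⟨he'.mem, mem_centralizer_singleton_iff.2 h01.symm.eq⟩,
              ⟨mul_mem he.mem he'.mem, mem_centralizer_singleton_iff.2
                ((Commute.refl e).mul_left h01.symm).eq⟩]
          have h5 := Set.ncard_le_ncard hsub
          have n1 : ∀ v, v ∉ zpowers z → (1 : G) ≠ v ∧ z ≠ v := fun v hv =>
            ⟨fun e1 => hv (e1 ▸ one_mem _), fun e1 => hv (e1 ▸ mem_zpowers _)⟩
          have hL' := h.line_conj g.toFib he h.x_mem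
          have hz1 : z ≠ 1 := h.z_ne_one g.toFib
          have n2 : e ≠ e * (t ^ 2 * e * (t ^ 2)⁻¹) :=
            fun e1 => hL'.nz (by rw [left_eq_mul.1 e1]; exact one_mem _)
          have n3 : t ^ 2 * e * (t ^ 2)⁻¹ ≠ e * (t ^ 2 * e * (t ^ 2)⁻¹) :=
            fun e1 => he.nz (by rw [right_eq_mul.1 e1]; exact one_mem _)
          have hee' : e ≠ t ^ 2 * e * (t ^ 2)⁻¹ := fun e1 => hne (by rw [← e1, he.sq]; exact one_mem _)
          rw [Set.ncard_insert_of_notMem, Set.ncard_insert_of_notMem, Set.ncard_insert_of_notMem,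
            Set.ncard_pair n3] at h5
          · have h5' : 5 ≤ Nat.card A := h5
            have hd : Nat.card A ∣ 8 := h8 ▸ card_dvd_of_le inf_le_left
            obtain ⟨i, hi3, hi⟩ := (Nat.dvd_prime_pow Nat.prime_two (m := 3)).1 hd
            rw [h8, hi]
            rw [hi] at h5'
            interval_cases i <;> omega
          all_goals
            simp [hz1.symm, hee', n2, (n1 _ he.nz).1, (n1 _ he.nz).2, (n1 _ hL'.nz).1,
              (n1 _ hL'.nz).2, (n1 _ hne).1, (n1 _ hne).2]
        have hr' : r ∈ A := hA.symm ▸ hr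
        exact (show Commute r e from mem_centralizer_singleton_iff.1 hr'.2).symm
      rw [hn] at hmod h2 h8 h128 ⊢
      have hn6 : n ≤ 6 := by
        by_contra! h7
        have := Nat.pow_le_pow_right (show 0 < 2 by norm_num) h7
        omega
      interval_cases n <;> omega
    · push Not at hc
      obtain ⟨N, hNle, hNC, hNM, hN1⟩ := hc
      have hNS : N ≤ (S : Subgroup G) := hNle.trans (by rw [inf_comm, hM.meet])
      have hN2 : IsPGroup 2 N := S.2.to_le hNS
      have hCn := (normal_subgroupOf_iff_le_normalizer (hNle.trans inf_le_left)).1 hNC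
      have hMn := (normal_subgroupOf_iff_le_normalizer (hNle.trans inf_le_right)).1 hNM
      have hzN : z ∈ N := by
        haveI : (N.subgroupOf (S : Subgroup G)).Normal :=
          (normal_subgroupOf_iff_le_normalizer hNS).2 (hS.trans hCn)
        have := S.2.isNilpotent
        obtain ⟨v, hv, hv1⟩ := (Subgroup.bot_or_exists_ne_one _).resolve_left
          (Cfsg.Lib.Coprime.inf_center_ne_bot (N.subgroupOf (S : Subgroup G)) (fun e1 => hN1 (by
            rw [← map_subgroupOf_eq_of_le hNS, e1, Subgroup.map_bot])))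
        obtain ⟨k, hk⟩ := S.2 v
        obtain ⟨j, -, hj⟩ := (Nat.dvd_prime_pow Nat.prime_two).1 (orderOf_dvd_of_pow_eq_one hk)
        rcases j with - | j
        · exact absurd (orderOf_eq_one_iff.1 (by rw [hj, pow_zero])) hv1
        have hi : orderOf (((v ^ 2 ^ j : (S : Subgroup G))) : G) = 2 := by
          rw [Subgroup.orderOf_coe, orderOf_pow_of_dvd (by positivity) (by rw [hj]; exact pow_dvd_pow 2 (by omega)),
            hj, Nat.pow_div (by omega) (by norm_num), show j + 1 - j = 1 by omega, pow_one]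
        rw [← hZ _ hi (mem_centralizer_iff.2 fun s hs => congrArg Subtype.val
          (mem_center_iff.1 (pow_mem hv.2 _) ⟨s, hs⟩))]
        exact mem_subgroupOf.1 (pow_mem hv.1 _)
      have heN : e ∈ N := by
        have hy1 : y * z * y⁻¹ ∈ N := conj_mem (hMn hyM) hzN
        rcases (hM.perm y hyM).resolve_left hyz with e1 | e1 <;> rw [e1] at hy1
        · exact hy1
        · exact (N.mul_mem_cancel_right hzN).1 hy1
      set M' := normalizer (N : Set G) with hM'
      have hNR : N ≤ Cfsg.pCoreOf 2 M' := JComp.le_pCoreOf hN2 le_normalizer le_rfl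
      rcases h.overgroup_core g (Or.inr h6) hCn he.mem he.nz (hNR hzN)
        (fun c hc => hNR (conj_mem (hCn hc) heN)) with e1 | ⟨-, e1, -, -⟩
      · exfalso
        have hyQ : y ∈ normalizer (Q : Set G) := by
          rw [← e1]; exact (le_normalizer.trans (JComp.normalizer_le_pCoreOf 2 M')) (hMn hyM)
        have hyc : ∀ r ∈ Q, Commute (y * z * y⁻¹) r := by
          intro r hr
          have h1 := conj_mem (inv_mem hyQ) hr
          rw [inv_inv] at h1
          rw [show r = y * (y⁻¹ * r * y) * y⁻¹ by group]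
          exact (commute_conj h).2 (mem_cz.1 (g.le h1)).symm
        refine hno e he fun r hr => ?_
        rcases (hM.perm y hyM).resolve_left hyz with e2 | e2
        · exact e2 ▸ hyc r hr
        · have h1 := (e2 ▸ hyc r hr : Commute (e * z) r).mul_left (mem_cz.1 (g.le hr)).symm.inv_left
          rwa [mul_inv_cancel_right] at h1
      · exact e1
  -- the setting of order 32
  obtain ⟨hcore, ⟨e1⟩⟩ := h.six_quot g.toFib h6
  have : Fact (Nat.Prime 3) := ⟨Nat.prime_three⟩
  let X : Sylow 3 (cz t) := Sylow.ofCard (zpowers ⟨t ^ 2, h.x_mem⟩) (by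
    rw [Nat.card_zpowers, ← Subgroup.orderOf_coe, h.x_ord, g.toFib.card_cz, h6, hQ32,
      show (32 * 6 : ℕ) = 3 ^ 1 * 64 by norm_num, Nat.factorization_mul (by norm_num) (by norm_num),
      Finsupp.add_apply, Nat.Prime.factorization_pow Nat.prime_three, Finsupp.single_eq_same,
      Nat.factorization_eq_zero_of_not_dvd (show ¬ 3 ∣ 64 by norm_num)]
    norm_num)
  have hcenX : Q ⊓ centralizer (((X : Subgroup (cz t)).map (cz t).subtype : Subgroup G) : Set G) = zpowers z := by
    have hX : ((X : Subgroup (cz t)).map (cz t).subtype : Subgroup G) = zpowers (t ^ 2) :=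
      MonoidHom.map_zpowers _ _
    rw [hX]
    refine le_antisymm (fun p hp => ?_) (zpowers_le.2 ⟨g.z_mem, mem_centralizer_iff.2 fun v hv => ?_⟩)
    · exact h.fixed_two g.two (fun r hr => mem_cz.1 (g.le hr)) hp.1
        (mem_centralizer_iff.1 hp.2 _ (mem_zpowers _)).symm
    · obtain ⟨k, rfl⟩ := mem_zpowers_iff.1 hv
      exact ((Commute.pow_pow_self t 2 3).zpow_left k).eq
  obtain ⟨d, hd⟩ := h.exists_conj_z (u := e) (orderOf_eq_prime (by rw [pow_two, he.sq])
    fun e2 => he.nz (e2 ▸ one_mem _))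
  refine h.no_thirty_two
    { s := z, hs := h.z_ord, L := cz t, hL := rfl, Q := Q, hQ := ?_,
      hQex := h.six_extra g.toFib hcen he hQ32, hQcard := hQ32, e := e1, X := X, hCQX := hcenX,
      hnwc := ⟨d, hd.symm ▸ he.mem, fun e2 => he.nz (hd ▸ e2.symm ▸ mem_zpowers _)⟩ }
  rw [hcore, map_subgroupOf_eq_of_le g.le]

end Hyp

end Cfsg.Lib.SelfCentSix
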