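import Cfsg.Agent.SelfCentSix.ShapeFacts
import Cfsg.Agent.SelfCentSix.CaseThree
import Cfsg.Agent.SelfCentSix.SixCyclic
import Cfsg.Agent.SelfCentSix.Icosa
import Cfsg.Agent.Components.Quasisimple
import Cfsg.Agent.S1296

/-!
Rank three and the quotient of order sixty do not occur.
-/

set_option autoImplicit false
set_option linter.unusedSectionVars false
set_option linter.style.haveILetI false

namespace Cfsg.Lib.SelfCentSix

open Subgroup

universe u

variable {G : Type u} [Group G] [Finite G] {t : G}

namespace Hyp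

variable (h : Hyp t)
include h

/-- Quotient of order sixty. -/
theorem no_sixty {R : Subgroup G} (s : Shape t R) (h60 : R.relIndex (cz t) = 60) (h2 : IsPGroup 2 R)
    (hne : R ≠ zpowers (t ^ 3)) : False := by
  classical
  have g : Fib t R := ⟨h2, s.le, s.norm, s.z_mem⟩
  refine h.icosa ⟨g, fun c hc => ?_, Or.inr (Or.inr h60)⟩ h60
  have hcz : c ∈ cz t := mem_cz.2 (mem_centralizer_iff.1 hc _ s.z_mem).symm
  set K := cz t ⊓ centralizer (R : Set G) with hK
  have hKn : cz t ≤ normalizer (K : Set G) :=
    (le_inf le_normalizer (s.norm.trans (Cfsg.Lib.Components.normalizer_le_normalizer_centralizer' R))).trans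
      inf_normalizer_le_normalizer_inf
  have hK3 : ¬ 3 ∣ Nat.card K := by
    intro hd
    have : Fact (Nat.Prime 3) := ⟨Nat.prime_three⟩
    obtain ⟨⟨a, ha⟩, hao⟩ := exists_prime_orderOf_dvd_card' 3 hd
    rw [Subgroup.orderOf_mk] at hao
    obtain ⟨d, hd', hda⟩ := h.three_conj hao ha.1
    refine hne (le_antisymm (fun q hq => ?_) (h.zle g))
    have hq' : d * q * d⁻¹ ∈ R := conj_mem (s.norm hd') hq
    have hcom : Commute a (d * q * d⁻¹) := (mem_centralizer_iff.1 ha.2 _ hq').symm
    have hc' : Commute (d * t ^ 2 * d⁻¹) (d * q * d⁻¹) := by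
      rcases hda with e | e <;> rw [e]
      exacts [hcom, hcom.inv_left]
    refine h.x_mod g hq ?_
    rw [((commute_conj h).1 hc').eq, mul_inv_cancel_right, mul_inv_cancel]; exact one_mem _
  haveI := s.normal
  haveI : (K.subgroupOf (cz t)).Normal := (normal_subgroupOf_iff_le_normalizer inf_le_left).2 hKn
  set f := QuotientGroup.mk' (R.subgroupOf (cz t)) with hf
  haveI : ((K.subgroupOf (cz t)).map f).Normal := Normal.map inferInstance f (QuotientGroup.mk'_surjective _)
  have hy := h.shape_hyp s
  have h60' : Nat.card (cz t ⧸ R.subgroupOf (cz t)) = 60 := h60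
  obtain ⟨i, hi⟩ : ∃ i, SelfCentThree.Inverts i (f ⟨t ^ 2, h.x_mem⟩) := by
    by_contra hno
    obtain ⟨D, hDn, hD, hDi⟩ := SelfCentThree.exists_normal_index_three hy hno
    have := D.card_mul_index
    rw [hDi, h60'] at this
    rcases SelfCentThree.card_sixty_inv hy h60' hD SelfCentThree.inv_of_normal with e | e <;> omega
  have hb := SelfCentThree.card_sixty_inverts hy h60' hi
    (R := (K.subgroupOf (cz t)).map f) (fun hd => hK3 (by
      rw [← Nat.card_congr (subgroupOfEquivOfLe (show K ≤ cz t from inf_le_left)).toEquiv]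
      exact hd.trans (SelfCentThree.card_map_dvd _ _))) SelfCentThree.inv_of_normal
    (by rw [normalizer_eq_top]; exact mem_top i)
  rw [Subgroup.map_eq_bot_iff, hf, QuotientGroup.ker_mk'] at hb
  exact mem_subgroupOf.1 (hb (show (⟨c, hcz⟩ : cz t) ∈ K.subgroupOf (cz t) from
    mem_subgroupOf.2 ⟨hcz, hc⟩))

theorem cz_solvable {R : Subgroup G} (s : Shape t R)
    (h36 : R.relIndex (cz t) = 3 ∨ R.relIndex (cz t) = 6) : Group.IsSolvable (cz t) := by
  haveI := s.normal
  have h1 : Group.IsSolvable (R.subgroupOf (cz t)) := by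
    haveI := s.nil
    haveI : Group.IsNilpotent (R.subgroupOf (cz t)) :=
      (Group.isNilpotent_congr (subgroupOfEquivOfLe s.le)).2 s.nil
    infer_instance
  haveI hq : Group.IsSolvable (cz t ⧸ R.subgroupOf (cz t)) := by
    have hy := h.shape_hyp s
    set Y := cz t ⧸ R.subgroupOf (cz t)
    have hc : Nat.card Y = 3 ∨ Nat.card Y = 6 := h36
    set y : Y := QuotientGroup.mk' (R.subgroupOf (cz t)) ⟨t ^ 2, h.x_mem⟩ with hyd
    rcases hc with hc | hc
    · haveI : Fact (Nat.Prime 3) := ⟨Nat.prime_three⟩
      haveI : IsCyclic Y := isCyclic_of_prime_card hc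
      letI := IsCyclic.commGroup (α := Y)
      infer_instance
    · have hi : (zpowers y).index = 2 := by
        have := (zpowers y).card_mul_index
        rw [Nat.card_zpowers, hy.ord, hc] at this
        omega
      haveI := normal_of_index_eq_two hi
      haveI : Fact (Nat.Prime 2) := ⟨Nat.prime_two⟩
      haveI : IsCyclic (Y ⧸ zpowers y) := isCyclic_of_prime_card (show Nat.card (Y ⧸ zpowers y) = 2 from hi)
      have hq2 : Group.IsSolvable (Y ⧸ zpowers y) := by
        letI := IsCyclic.commGroup (α := Y ⧸ zpowers y); infer_instance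
      haveI := hq2
      exact Group.isSolvable_of_ker_le_range (G' := zpowers y) (zpowers y).subtype
        (QuotientGroup.mk' (zpowers y)) (by rw [QuotientGroup.ker_mk', range_subtype])
  haveI := h1
  exact Group.isSolvable_of_ker_le_range (R.subgroupOf (cz t)).subtype
    (QuotientGroup.mk' (R.subgroupOf (cz t))) (by rw [QuotientGroup.ker_mk', range_subtype])

/-- A line forces characteristic two, which is impossible. -/
theorem no_line {R Q O : Subgroup G} (s : Shape t R) (p : Parts t R Q O)
    (h36 : R.relIndex (cz t) = 3 ∨ R.relIndex (cz t) = 6) {e : G} (he : Line t Q e) : False := by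
  classical
  have := h.simple
  have hnz : ¬ Q ≤ zpowers (t ^ 3) := fun hle => he.nz (hle he.mem)
  have heven : 2 ∣ Nat.card G := h.z_ord ▸ orderOf_dvd_natCard (t ^ 3)
  have hO2 : ∀ N : Subgroup G, N.Normal → N.index ≠ 2 := fun N hN hi => by
    rcases hN.eq_bot_or_eq_top with rfl | rfl
    · rw [index_bot] at hi
      haveI : Fact (Nat.Prime 2) := ⟨Nat.prime_two⟩
      haveI := isCyclic_of_prime_card hi
      exact h.nc IsCyclic.isMulCommutative
    · rw [index_top] at hi; omega
  rcases Cfsg.Agent.S1296.result (even_iff_two_dvd.2 heven) hO2 (oddCore_bot heven) with hr | ⟨u, hu, hcomp⟩ | ⟨-, hchar⟩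
  · exact h.not_rank p.fib he hr
  · -- component type
    obtain ⟨g, hg⟩ := isConj_iff.1 (h.one u (t ^ 3) hu h.z_ord)
    have hsol := h.cz_solvable s h36
    have hmap : (centralizer ({u} : Set G)).map (MulAut.conj g).toMonoidHom = cz t := by
      ext a
      rw [Subgroup.mem_map_equiv, MulAut.conj_symm_apply, mem_centralizer_singleton_iff, mem_cz, ← hg]
      show g⁻¹ * a * g * u = u * (g⁻¹ * a * g) ↔ Commute a (g * u * g⁻¹)
      constructor
      · intro e1
        calc a * (g * u * g⁻¹) = g * (g⁻¹ * a * g * u) * g⁻¹ := by group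
          _ = g * u * g⁻¹ * a := by rw [e1]; group
      · intro e1
        calc g⁻¹ * a * g * u = g⁻¹ * (a * (g * u * g⁻¹)) * g := by group
          _ = u * (g⁻¹ * a * g) := by rw [e1.eq]; group
    have hCu : Group.IsSolvable (centralizer ({u} : Set G)) := by
      let e1 := ((centralizer ({u} : Set G)).equivMapOfInjective (MulAut.conj g).toMonoidHom (MulAut.conj g).injective).trans
        (MulEquiv.subgroupCongr hmap)
      exact Group.isSolvable_of_isSolvable_injective (f := e1.toMonoidHom) e1.injective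
    obtain ⟨K, -, hK⟩ := hcomp
    haveI := hCu
    exact Cfsg.Lib.Components.qs_not_isSolvable hK inferInstance
  · -- characteristic two
    have hz1 : zpowers (t ^ 3) ≠ ⊥ := fun e1 => h.z_ne_one p.fib (zpowers_eq_bot.1 e1)
    have hnorm : normalizer ((zpowers (t ^ 3) : Subgroup G) : Set G) = cz t := by
      refine le_antisymm (fun a ha => mem_cz.2 ?_) ?_
      · rcases h.mem_zpowers_z.1 (conj_mem ha (mem_zpowers (t ^ 3))) with e1 | e1
        · exact absurd (conj_eq_one_iff.1 e1) (h.z_ne_one p.fib)
        · exact mul_inv_eq_iff_eq_mul.1 e1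
      · haveI := h.normal_z
        exact (normal_subgroupOf_iff_le_normalizer h.zpowers_z_le).1 inferInstance
    have hc := hchar (zpowers (t ^ 3)) (IsPGroup.of_card (n := 1) (by rw [h.card_z, pow_one])) hz1
    rw [hnorm] at hc
    set P := Cfsg.pCoreOf 2 (cz t) with hP
    haveI : Fact (Nat.Prime 2) := ⟨Nat.prime_two⟩
    have hPR : P ≤ R := h.normal_le s h36 (not_three_dvd (JComp.isPGroup_pCoreOf _)) (JComp.pCoreOf_le _)
      (le_normalizer.trans (JComp.normalizer_le_pCoreOf 2 (cz t)))
    have hPQ : P ≤ Q := fun a ha => by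
      obtain ⟨k, hk⟩ := JComp.isPGroup_pCoreOf (cz t) ⟨a, ha⟩
      exact h.eq_two_part s p (hPR ha) (congrArg Subtype.val hk)
    have hO : O = ⊥ := (eq_bot_iff_forall _).2 fun o ho => by
      refine h.parts_disjoint s p (hPQ ?_) ho
      have hoC : o ∈ cz t := s.le (p.ole ho)
      refine ⟨⟨o, hoC⟩, hc (mem_centralizer_iff.2 fun a ha => Subtype.ext ?_), rfl⟩
      exact (p.comm _ (hPQ ⟨a, ha, rfl⟩) o ho).eq
    have g := h.good_of_odd_bot s p hO hnz h36
    have hRQ : R.relIndex (cz t) = Q.relIndex (cz t) := by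
      have : R = Q := le_antisymm (fun r hr => by
        obtain ⟨q, hq, o, ho, rfl⟩ := p.gen r hr
        rw [hO, mem_bot] at ho
        rw [ho, mul_one]; exact hq) p.qle
      rw [this]
    rw [hRQ] at h36
    rcases h36 with e1 | e1
    · exact h.case_three g e1
    · exact h.case_six g e1 ⟨e, he⟩

end Hyp

end Cfsg.Lib.SelfCentSix
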