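import Cfsg.Agent.SelfCentSix.SdSmall
import Mathlib.GroupTheory.NoncommCoprod
import Mathlib.GroupTheory.SemidirectProduct

/-!
The odd kernel is trivial if the quaternion part centralises it and an element of order three fixes nothing.
-/

set_option autoImplicit false
set_option linter.unusedSectionVars false
set_option linter.style.haveILetI false
set_option maxRecDepth 8000

namespace Cfsg.Lib.SelfCentSix

open Subgroup Cfsg.Lib.Chars Cfsg.Lib.GLTwoThree Cfsg.Lib.Order9 Cfsg.Lib.SubdegThree
open scoped ComplexConjugate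

universe u

variable {G : Type u} [Group G] [Fintype G]

namespace SdSetup

variable (D : SdSetup G)

set_option maxHeartbeats 1000000 in
/-- An abelian normal subgroup of the kernel is in the kernel of a small character. -/
theorem abelian_const {χ : Cfsg.IrrCharacter G} {a : ℤ} (ha : (χ : G → ℂ) D.z = (a : ℂ))
    (hcase : (deg (χ : G → ℂ) = 13 ∧ a = -3) ∨ (deg (χ : G → ℂ) = 10 ∧ a = -2))
    (hconst : ∀ x x' : D.X, D.π x ^ 8 = 1 → D.π x ≠ 1 → D.π x' = D.π x → (χ : G → ℂ) x' = (χ : G → ℂ) x)
    (A : Subgroup D.X) [A.Normal] (hker : A ≤ D.π.ker) (hab : ∀ x ∈ A, ∀ y ∈ A, x * y = y * x)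
    (hQ : ∀ f : D.X, D.π f = fk → f ^ 8 = 1 → ∀ y ∈ A, Commute f y)
    {g : D.X} (hg3 : g ^ 3 = 1) (hfix : ∀ y ∈ A, Commute g y → y = 1) :
    ∀ y ∈ A, (χ : G → ℂ) (y : G) = (deg (χ : G → ℂ) : ℂ) := by
  classical
  haveI : Fintype D.X := Fintype.ofFinite _
  haveI : Fintype A := Fintype.ofFinite _
  set o := Nat.card A with ho
  have ho0 : (o : ℂ) ≠ 0 := Nat.cast_ne_zero.2 Nat.card_pos.ne'
  have hAπ : ∀ y : A, D.π (y : D.X) = 1 := fun y => D.mem_ker.1 (hker y.2)
  set F : D.X → ℂ := fun x => (χ : G → ℂ) (x : G) with hFdef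
  have hR : Cfsg.IsCharacter A (fun y : A => F y) :=
    IsCharacter.comp_hom (isCharacter_of_irr χ.2) (D.X.subtype.comp A.subtype)
  choose m hm using fun s : Cfsg.IrrCharacter A => classInner_char_nat hR (isCharacter_of_irr s.2)
  set d := deg (χ : G → ℂ) with hd
  have hsumm : ∑ s, m s = d := by
    apply Nat.cast_injective (R := ℂ)
    rw [hd, ← irr_apply_one_eq_deg χ]
    have h := classFunction_expand_apply (isClassFunction_isChar hR) (1 : A)
    have e : F ((1 : A) : D.X) = (χ : G → ℂ) 1 := rfl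
    rw [← e, h, Nat.cast_sum]
    exact Finset.sum_congr rfl fun s _ => by rw [hm, ExtOdd.apply_one' hab s, mul_one]
  set p0 := Chars.principal A with hp0
  have hd1 : ∑ y : A, F y = (o : ℂ) * (m p0 : ℂ) := by
    rw [← hm, classInner_def, mul_inv_cancel_left₀ ho0]
    exact Finset.sum_congr rfl fun y _ => by simp [hp0, Chars.principal]
  -- the four-group
  have hV : 0 ≤ (m p0 : ℤ) + 3 * a := by
    obtain ⟨τ, hτ, hτ8⟩ := D.exists_lift (k := rk) (by decide +kernel)
    have hτ2 : τ * τ = 1 := D.ker_eight (by rw [map_mul, hτ]; decide +kernel)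
      (by rw [← pow_two, ← pow_mul, show 2 * 8 = 8 * 2 from rfl, pow_mul, hτ8, one_pow])
    have hzτ : Commute D.zX τ := (D.zX_comm τ).symm
    let V : Subgroup D.X :=
      { carrier := {v | v = 1 ∨ v = D.zX ∨ v = τ ∨ v = D.zX * τ}
        one_mem' := Or.inl rfl
        mul_mem' := by
          have e1 : τ * D.zX = D.zX * τ := hzτ.eq.symm
          have e2 : ∀ w, D.zX * (D.zX * w) = w := fun w => by rw [← mul_assoc, D.zX_sq, one_mul]
          have e3 : ∀ w, τ * (τ * w) = w := fun w => by rw [← mul_assoc, hτ2, one_mul]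
          have e4 : ∀ w, τ * (D.zX * w) = D.zX * (τ * w) := fun w => by rw [← mul_assoc, e1, mul_assoc]
          rintro v w (rfl | rfl | rfl | rfl) (rfl | rfl | rfl | rfl) <;>
            simp [e1, e2, e3, e4, D.zX_sq, hτ2, mul_assoc]
        inv_mem' := by
          have hz' : D.zX⁻¹ = D.zX := inv_eq_of_mul_eq_one_right D.zX_sq
          have ht' : τ⁻¹ = τ := inv_eq_of_mul_eq_one_right hτ2
          rintro v (rfl | rfl | rfl | rfl)
          exacts [Or.inl inv_one, Or.inr (Or.inl hz'), Or.inr (Or.inr (Or.inl ht')),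
            Or.inr (Or.inr (Or.inr (by rw [mul_inv_rev, hz', ht', ← hzτ.eq])))] }
    haveI : Fintype V := Fintype.ofFinite _
    have hVπ : ∀ v : V, v ≠ 1 → (χ : G → ℂ) ((v : D.X) : G) = (a : ℂ) ∧ D.π (v : D.X) ^ 8 = 1 ∧ D.π (v : D.X) ≠ 1 := by
      rintro ⟨v, hv⟩ hv1
      have hπ : D.π v ≠ 1 := by
        rcases hv with e | e | e | e <;> subst e
        · exact absurd rfl hv1
        · rw [D.π_zX]; decide +kernel
        · rw [hτ]; decide +kernel
        · rw [map_mul, D.π_zX, hτ]; decide +kernel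
      have h2 : v * v = 1 := by
        rcases hv with e | e | e | e <;> subst e
        exacts [one_mul 1, D.zX_sq, hτ2, by rw [hzτ.symm.mul_mul_mul_comm, D.zX_sq, hτ2, one_mul]]
      refine ⟨?_, by rw [← map_pow, show 8 = 2 * 4 from rfl, pow_mul, pow_two, h2, one_pow, map_one], hπ⟩
      rw [← ha]
      exact (classFunction_eq_of_isConj (isClassFunction_irr χ) (D.one v h2 hπ)).symm
    have hV4 : Nat.card V = 4 := by
      let e : V → {k : K48 // k ∈ SubdegThree.V4} := fun v => ⟨D.π (v : D.X), by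
        obtain ⟨v, hv⟩ := v
        rcases hv with r | r | r | r <;> subst r
        · rw [map_one]; exact one_mem _
        · rw [D.π_zX]; exact Or.inr (Or.inl rfl)
        · rw [hτ]; exact Or.inr (Or.inr (Or.inl rfl))
        · rw [map_mul, D.π_zX, hτ]; exact Or.inr (Or.inr (Or.inr rfl))⟩
      rw [Nat.card_congr (Equiv.ofBijective e ⟨?_, ?_⟩), Nat.card_eq_fintype_card, Fintype.card_subtype]
      · exact card_V4
      · intro v w h
        have h1 : D.π ((v⁻¹ * w : V) : D.X) = 1 := by
          have h' : D.π (v : D.X) = D.π (w : D.X) := congrArg Subtype.val h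
          rw [Subgroup.coe_mul, Subgroup.coe_inv, map_mul, map_inv, h', inv_mul_cancel]
        by_contra hne
        exact (hVπ _ fun e => hne (inv_mul_eq_one.1 e)).2.2 h1
      · rintro ⟨k, r | r | r | r⟩ <;> subst r
        exacts [⟨1, Subtype.ext (map_one _)⟩, ⟨⟨D.zX, Or.inr (Or.inl rfl)⟩, Subtype.ext D.π_zX⟩,
          ⟨⟨τ, Or.inr (Or.inr (Or.inl rfl))⟩, Subtype.ext hτ⟩,
          ⟨⟨D.zX * τ, Or.inr (Or.inr (Or.inr rfl))⟩, Subtype.ext (by show D.π (D.zX * τ) = _; rw [map_mul, D.π_zX, hτ])⟩]
    let φ : V →* MulAut A := MulAut.conjNormal.comp V.subtype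
    let ψ : A ⋊[φ] V →* D.X := SemidirectProduct.lift A.subtype V.subtype fun v => by
      ext y; simp [φ, MulAut.conjNormal_apply]
    haveI : Fintype (A ⋊[φ] V) := Fintype.ofEquiv _ SemidirectProduct.equivProd.symm
    have hr : Cfsg.IsCharacter (A ⋊[φ] V) (fun p => F (ψ p)) :=
      IsCharacter.comp_hom (isCharacter_of_irr χ.2) (D.X.subtype.comp ψ)
    obtain ⟨w, hw⟩ := classInner_char_nat hr (isCharacter_one (G := A ⋊[φ] V))
    rw [classInner_def, SemidirectProduct.card, hV4, ← ho, inv_mul_eq_iff_eq_mul₀ (by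
      push_cast; exact mul_ne_zero ho0 (by norm_num))] at hw
    simp only [map_one, mul_one] at hw
    rw [← Equiv.sum_comp SemidirectProduct.equivProd.symm, Fintype.sum_prod_type, Finset.sum_comm] at hw
    have hval : ∀ v : V, ∑ y : A, F (ψ (SemidirectProduct.equivProd.symm (y, v))) =
        if v = 1 then (o : ℂ) * (m p0 : ℂ) else (o : ℂ) * (a : ℂ) := by
      intro v
      have e : ∀ y : A, ψ (SemidirectProduct.equivProd.symm (y, v)) = (y : D.X) * (v : D.X) := fun y => rfl
      split_ifs with hv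
      · subst hv; rw [← hd1]; exact Finset.sum_congr rfl fun y _ => by rw [e, OneMemClass.coe_one, mul_one]
      · obtain ⟨h1, h8, hne⟩ := hVπ v hv
        rw [Finset.sum_congr rfl (g := fun _ => (a : ℂ)) fun y _ => ?_, Finset.sum_const, Finset.card_univ,
          nsmul_eq_mul, ← Nat.card_eq_fintype_card]
        rw [e, hFdef]
        exact (hconst (v : D.X) _ h8 hne (by rw [map_mul, hAπ, one_mul])).trans h1
    rw [Finset.sum_congr rfl fun v _ => hval v, Finset.sum_ite, Finset.sum_const, Finset.sum_const,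
      Finset.filter_eq' , if_pos (Finset.mem_univ _), Finset.card_singleton, Finset.filter_ne',
      Finset.card_erase_of_mem (Finset.mem_univ _), Finset.card_univ, ← Nat.card_eq_fintype_card, hV4] at hw
    have h2 : ((m p0 : ℤ) : ℂ) + 3 * (a : ℂ) = ((4 * w : ℤ) : ℂ) := by
      refine mul_left_cancel₀ ho0 ?_
      simp only [one_smul, nsmul_eq_mul] at hw
      push_cast at hw ⊢
      linear_combination hw
    have h3 : (m p0 : ℤ) + 3 * a = 4 * w := by exact_mod_cast h2
    omega
  -- the other characters have multiplicities divisible by four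
  obtain ⟨f0, hf0, hf08⟩ := D.exists_lift (k := fk) (by decide +kernel)
  have hfour : ∀ s, s ≠ p0 → 4 ∣ m s := by
    intro s hs0
    obtain ⟨f, hf⟩ := ExtOdd.exists_hom hab s
    have hf04 : f0 ^ 4 = 1 := D.ker_eight (by rw [map_pow, hf0]; decide +kernel)
      (by rw [← pow_mul, show 4 * 8 = 8 * 4 from rfl, pow_mul, hf08, one_pow])
    haveI : Fact (Nat.Prime 2) := ⟨Nat.prime_two⟩
    have hord : orderOf f0 = 4 := orderOf_eq_prime_pow (p := 2) (n := 1)
      (fun e => by
        have e1 := congrArg D.π e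
        rw [map_pow, hf0, map_one] at e1
        revert e1; decide +kernel) hf04
    set Z := zpowers f0 with hZ
    haveI : Fintype Z := Fintype.ofFinite _
    have hcomm : ∀ (q : Z) (y : A), Commute (q : D.X) (y : D.X) := by
      rintro ⟨q, hq⟩ y
      obtain ⟨i, rfl⟩ := mem_zpowers_iff.1 hq
      exact (hQ f0 hf0 hf08 _ y.2).zpow_left i
    let ψ : Z × A →* D.X := MonoidHom.noncommCoprod Z.subtype A.subtype hcomm
    have hr : Cfsg.IsCharacter (Z × A) (fun p => F (ψ p)) :=
      IsCharacter.comp_hom (isCharacter_of_irr χ.2) (D.X.subtype.comp ψ)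
    have hψ : ∀ (q : Z) (y : A), ψ (q, y) = (q : D.X) * (y : D.X) := fun _ _ => rfl
    obtain ⟨w, hw⟩ := classInner_char_nat hr (isCharacter_linear (f.comp (MonoidHom.snd Z A)))
    have hZ4 : Nat.card Z = 4 := by rw [hZ, Nat.card_zpowers, hord]
    rw [classInner_def, Nat.card_prod, hZ4, ← ho, inv_mul_eq_iff_eq_mul₀ (by
      push_cast; exact mul_ne_zero (by norm_num) ho0), Fintype.sum_prod_type] at hw
    have hzero : ∑ y : A, conj ((s : A → ℂ) y) = 0 := by
      have h := classInner_irrCharacter p0 s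
      rw [if_neg (Ne.symm hs0), classInner_def, mul_eq_zero] at h
      rcases h with h | h
      · exact absurd h (inv_ne_zero ho0)
      · simpa [hp0, Chars.principal] using h
    rw [Finset.sum_eq_single (1 : Z)] at hw
    · refine ⟨w, ?_⟩
      apply Nat.cast_injective (R := ℂ)
      push_cast at hw ⊢
      rw [← hm, classInner_def, ← ho, inv_mul_eq_iff_eq_mul₀ ho0]
      refine Eq.trans (Finset.sum_congr rfl fun y _ => ?_) (hw.trans (by ring))
      simp [hψ, hf]
    · intro q _ hq1
      have hπq : D.π (q : D.X) ≠ 1 ∧ D.π (q : D.X) ^ 8 = 1 := by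
        obtain ⟨i, hi⟩ := mem_zpowers_iff.1 q.2
        refine ⟨fun e => hq1 (Subtype.ext ?_), ?_⟩
        · rw [← hi]; exact D.inj_zpowers hf08 (by rw [hi, e])
        · rw [← map_pow, ← hi, ← zpow_natCast, zpow_comm, zpow_natCast, hf08, one_zpow, map_one]
      have e : ∀ y : A, F (ψ (q, y)) = F (q : D.X) := fun y =>
        hconst (q : D.X) _ hπq.2 hπq.1 (by simp [hψ, hAπ])
      rw [Finset.sum_congr rfl (g := fun y => F (q : D.X) * conj ((s : A → ℂ) y)) fun y _ => by
        rw [e, hf]; rfl, ← Finset.mul_sum, hzero, mul_zero]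
    · exact fun h => absurd (Finset.mem_univ _) h
  -- three conjugate constituents
  have honly : ∀ s, s ≠ p0 → m s = 0 := by
    intro s hs0
    by_contra hne
    obtain ⟨f, hf⟩ := ExtOdd.exists_hom hab s
    let c : MulAut A := MulAut.conjNormal g
    have hc : ∀ y : A, ((c y : A) : D.X) = g * y * g⁻¹ := fun y => MulAut.conjNormal_apply g y
    let lin : (A →* ℂˣ) → Cfsg.IrrCharacter A := fun l => ⟨fun y => (l y : ℂ), isIrrCharacter_linear l⟩
    have hlin : ∀ l l', lin l = lin l' → ∀ y, l y = l' y := fun l l' e y =>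
      Units.ext (congrFun (congrArg Subtype.val e) y)
    set f1 : A →* ℂˣ := f.comp c.toMonoidHom with hf1
    set f2 : A →* ℂˣ := f1.comp c.toMonoidHom with hf2
    have hls : s = lin f := Subtype.ext (funext hf)
    have hmc : ∀ l : A →* ℂˣ, m (lin (l.comp c.toMonoidHom)) = m (lin l) := by
      intro l
      apply Nat.cast_injective (R := ℂ)
      rw [← hm, ← hm, classInner_def, classInner_def, ← Equiv.sum_comp c.toEquiv
        (fun y : A => F y * conj ((lin l : A → ℂ) y))]
      congr 1
      refine Finset.sum_congr rfl fun y _ => ?_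
      have hFy : F ((c y : A) : D.X) = F (y : D.X) := by
        rw [hc, hFdef]
        simp only [Subgroup.coe_mul, InvMemClass.coe_inv]
        exact isClassFunction_irr χ _ _
      show F (y : D.X) * _ = F ((c y : A) : D.X) * _
      rw [hFy]; rfl
    have hfne : ∃ y, f y ≠ 1 := by
      by_contra h
      push Not at h
      exact hs0 (Subtype.ext (funext fun y => by rw [hf, h y]; rfl))
    let δ : A → A := fun y => c y * y⁻¹
    have hδ : Function.Surjective δ := Finite.injective_iff_surjective.1 fun y w e => by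
      have e1 : c (y * w⁻¹) = y * w⁻¹ := by
        have h2 : c y = c w * w⁻¹ * y := mul_inv_eq_iff_eq_mul.1 e
        rw [map_mul, map_inv, h2]
        have hA : ∀ p q : A, p * q = q * p := fun p q => Subtype.ext (hab _ p.2 _ q.2)
        calc c w * w⁻¹ * y * (c w)⁻¹ = (w⁻¹ * y) * c w * (c w)⁻¹ := by rw [mul_assoc (c w), hA (c w)]
          _ = w⁻¹ * y := by group
          _ = y * w⁻¹ := hA _ _
      have := hfix _ (y * w⁻¹).2 (mul_inv_eq_iff_eq_mul.1 ((hc _).symm.trans (congrArg Subtype.val e1)))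
      exact mul_inv_eq_one.1 (Subtype.ext this)
    have h10 : lin f1 ≠ lin f := fun e => by
      obtain ⟨y, hy⟩ := hfne
      obtain ⟨w, rfl⟩ := hδ y
      refine hy ?_
      rw [map_mul, map_inv, show f (c w) = f w from hlin _ _ e w, mul_inv_cancel]
    have hc3 : ∀ y : A, c (c (c y)) = y := fun y => Subtype.ext (by
      rw [hc, hc, hc, show g * (g * (g * (y : D.X) * g⁻¹) * g⁻¹) * g⁻¹ = g * (g * g) * y * (g * (g * g))⁻¹ by group,
        ← pow_three, hg3]
      group)
    have h20 : lin f2 ≠ lin f := fun e => h10 (Subtype.ext (funext fun y => by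
      show (f (c y) : ℂ) = (f y : ℂ)
      have := hlin _ _ e (c y)
      rw [show f2 (c y) = f (c (c (c y))) from rfl, hc3] at this
      rw [this]))
    have h21 : lin f2 ≠ lin f1 := fun e => h10 (Subtype.ext (funext fun y => by
      have := hlin _ _ e (c (c y))
      rw [show f2 (c (c y)) = f (c (c (c (c y)))) from rfl, show f1 (c (c y)) = f (c (c (c y))) from rfl, hc3, hc3]
        at this
      show (f (c y) : ℂ) = (f y : ℂ)
      rw [this]))
    have hp : ∀ l : A →* ℂˣ, lin (l.comp c.toMonoidHom) = p0 → lin l = p0 := fun l e => by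
      refine Subtype.ext (funext fun y => ?_)
      have := congrFun (congrArg Subtype.val e) (c (c y))
      show (l y : ℂ) = _
      rw [show ((lin (l.comp c.toMonoidHom) : Cfsg.IrrCharacter A) : A → ℂ) (c (c y)) = (l (c (c (c y))) : ℂ) from rfl,
        hc3] at this
      rw [this]; simp [hp0, Chars.principal]
    have hn0 : lin f ≠ p0 := hls ▸ hs0
    have hn1 : lin f1 ≠ p0 := fun e => hn0 (hp f e)
    have hn2 : lin f2 ≠ p0 := fun e => hn1 (hp f1 e)
    have hle : m p0 + (m (lin f) + (m (lin f1) + m (lin f2))) ≤ d := by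
      rw [← hsumm, ← Finset.sum_pair (Ne.symm h21), ← Finset.sum_insert (a := lin f) (by simp [Ne.symm h10, Ne.symm h20]),
        ← Finset.sum_insert (a := p0) (by simp [Ne.symm hn0, Ne.symm hn1, Ne.symm hn2])]
      exact Finset.sum_le_sum_of_subset (Finset.subset_univ _)
    rw [hf2, hmc f1, hf1, hmc f] at hle
    obtain ⟨q, hq⟩ := hfour s hs0
    rw [← hls] at hle
    omega
  intro y hy
  have hyexp : F ((⟨y, hy⟩ : A) : D.X) = (d : ℂ) := by
    rw [classFunction_expand_apply (isClassFunction_isChar hR) (⟨y, hy⟩ : A), ← hsumm, Nat.cast_sum]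
    refine Finset.sum_congr rfl fun s _ => ?_
    rw [hm]
    by_cases hs0 : s = p0
    · rw [hs0]; simp [hp0, Chars.principal]
    · rw [honly s hs0]; simp
  exact hyexp

/-- The kernel is trivial. -/
theorem ker_bot (hs : IsSimpleGroup G) (hQ : ∀ f : D.X, D.π f = fk → f ^ 8 = 1 → ∀ y ∈ D.π.ker, Commute f y)
    {g : D.X} (hg3 : g ^ 3 = 1) (hfix : ∀ y ∈ D.π.ker, Commute g y → y = 1)
    (hnil : Group.IsNilpotent D.π.ker) : D.π.ker = ⊥ := by
  classical
  by_contra hne
  obtain ⟨χ, a, ha, hcase, hconst⟩ := D.exists_small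
  set A := (Subgroup.center D.π.ker).map D.π.ker.subtype with hA
  haveI : A.Normal := ConjAct.normal_of_characteristic_of_normal
  have hAker : A ≤ D.π.ker := map_subtype_le _
  have hab : ∀ x ∈ A, ∀ y ∈ A, x * y = y * x := by
    rintro _ ⟨p, hp, rfl⟩ _ ⟨q, -, rfl⟩
    exact congrArg Subtype.val (mem_center_iff.1 hp q).symm
  haveI := hnil
  haveI : Nontrivial D.π.ker := (Subgroup.nontrivial_iff_ne_bot _).2 hne
  obtain ⟨p, hp, hp1⟩ := (Subgroup.bot_or_exists_ne_one (Subgroup.center D.π.ker)).resolve_left (Group.IsNilpotent.center_ne_bot _)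
  have hd := D.abelian_const ha hcase hconst A hAker hab (fun f h1 h2 y hy => hQ f h1 h2 y (hAker hy)) hg3
    (fun y hy => hfix y (hAker hy)) (p : D.X) ⟨p, hp, rfl⟩
  haveI := hs
  set K := kerSubgroup (χ : G → ℂ) (isCharacter_of_irr χ.2) with hK
  haveI : K.Normal := kerSubgroup_normal _
  rcases hs.eq_bot_or_eq_top_of_normal K inferInstance with e | e
  · have hpK : ((p : D.X) : G) ∈ K := by rw [hK, mem_kerSubgroup, irr_apply_one_eq_deg]; exact hd
    rw [e, mem_bot] at hpK
    exact hp1 (Subtype.ext (Subtype.ext hpK))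
  · have hn := classInner_self_irr χ.2
    set d := deg (χ : G → ℂ) with hdd
    have hval : ∀ g : G, (χ : G → ℂ) g = (d : ℂ) := fun g => by
      have := e ▸ mem_top g
      rw [hK, mem_kerSubgroup, irr_apply_one_eq_deg] at this
      exact this
    rw [classInner_def, Finset.sum_congr rfl fun g _ => by rw [hval g, map_natCast], Finset.sum_const,
      Finset.card_univ, nsmul_eq_mul, ← Nat.card_eq_fintype_card,
      inv_mul_cancel_left₀ (Nat.cast_ne_zero.2 Nat.card_pos.ne')] at hn
    have : d * d = 1 := by exact_mod_cast hn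
    have := Nat.eq_one_of_mul_eq_one_right this
    omega

end SdSetup

end Cfsg.Lib.SelfCentSix
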