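import Cfsg.Agent.SelfCentSix.ShapeFacts
import Cfsg.Agent.SelfCentSix.SdKill
import Cfsg.Agent.InvolCalc.QuatCore
import Cfsg.Agent.TwoFusion.GLTwoThree.Order
import Cfsg.Agent.S2916

/-!
Two-part quaternion of order eight and index six: the centraliser is `GL(2,3)`.
-/

set_option autoImplicit false
set_option linter.unusedSectionVars false
set_option linter.style.haveILetI false
set_option maxRecDepth 8000

namespace Cfsg.Lib.SelfCentSix

open Subgroup

universe u

variable {G : Type u} [Group G] [Finite G] {t : G}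

namespace Hyp

variable (h : Hyp t) {R Q O : Subgroup G} (s : Shape t R) (p : Parts t R Q O)
include h s p

theorem quat_iso (h8 : Nat.card Q = 8) (hu : ∀ q ∈ Q, q * q = 1 → q ∈ zpowers (t ^ 3)) :
    Nonempty (Q ≃* QuaternionGroup 2) := by
  classical
  have : Fact (Nat.Prime 2) := ⟨Nat.prime_two⟩
  have hinv : ∀ q : Q, orderOf q = 2 → (q : G) = t ^ 3 := fun q hq => by
    have h2 : (q : G) * q = 1 := congrArg Subtype.val (show q * q = 1 by rw [← pow_two, ← hq, pow_orderOf_eq_one])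
    refine (h.mem_zpowers_z.1 (hu q q.2 h2)).resolve_left fun e => ?_
    rw [show q = 1 from Subtype.ext e, orderOf_one] at hq
    omega
  rcases Cfsg.Lib.UniqueSub.isCyclic_or_quaternion p.fib.two (fun a b ha hb => by
      rw [show b = a from Subtype.ext ((hinv b hb).trans (hinv a ha).symm)]
      exact mem_zpowers a) with hc | ⟨-, n, ⟨f⟩⟩
  · exfalso
    haveI := hc
    have hcomm : ∀ a b : Q, a * b = b * a := (IsCyclic.isMulCommutative (α := Q)).is_comm.comm
    obtain ⟨w, hw, hwz⟩ : ∃ w ∈ Q, w ∉ zpowers (t ^ 3) := by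
      by_contra hno
      push Not at hno
      have h1 := card_dvd_of_le (show Q ≤ zpowers (t ^ 3) from hno)
      rw [h8, h.card_z] at h1
      norm_num at h1
    obtain ⟨e, he, -⟩ := h.central_line p.fib hw
      (fun r hr => congrArg Subtype.val (hcomm ⟨w, hw⟩ ⟨r, hr⟩)) hwz
    exact he.nz (hu e he.mem he.sq)
  · haveI : NeZero (2 ^ n) := ⟨pow_ne_zero _ two_ne_zero⟩
    have hn := Nat.card_congr f.toEquiv
    rw [h8, Nat.card_eq_fintype_card, QuaternionGroup.card] at hn
    have : 2 ^ n = 2 := by omega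
    exact this ▸ ⟨f⟩

set_option maxHeartbeats 1000000 in
theorem sd_setup (h6 : R.relIndex (cz t) = 6) (h8 : Nat.card Q = 8)
    (hu : ∀ q ∈ Q, q * q = 1 → q ∈ zpowers (t ^ 3)) :
    ∃ D : SdSetup G, D.z = t ^ 3 ∧ ∀ a : D.X, D.π a = 1 ↔ (a : G) ∈ O := by
  classical
  have : Fact (Nat.Prime 2) := ⟨Nat.prime_two⟩
  obtain ⟨eQ⟩ := h.quat_iso s p h8 hu
  have hnz : ¬ Q ≤ zpowers (t ^ 3) := fun hle => by
    have h1 := card_dvd_of_le hle
    rw [h8, h.card_z] at h1
    norm_num at h1
  haveI := s.normal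
  have hOC : O ≤ cz t := p.ole.trans s.le
  haveI hON : (O.subgroupOf (cz t)).Normal := (normal_subgroupOf_iff_le_normalizer hOC).2 p.onorm
  haveI hQN : (Q.subgroupOf (cz t)).Normal := (normal_subgroupOf_iff_le_normalizer p.fib.le).2 p.fib.norm
  set N := O.subgroupOf (cz t) with hN
  set mk := QuotientGroup.mk' N with hmk
  have hmks : Function.Surjective mk := QuotientGroup.mk'_surjective N
  have hmk1 : ∀ {a : cz t}, mk a = 1 ↔ (a : G) ∈ O := fun {a} =>
    (QuotientGroup.eq_one_iff a).trans (by rw [hN, mem_subgroupOf])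
  set QX := Q.subgroupOf (cz t) with hQX
  set Rb := QX.map mk with hRb
  haveI : Rb.Normal := hQN.map mk hmks
  have hinjQ : Function.Injective (mk.comp QX.subtype) := by
    rw [injective_iff_map_eq_one]
    intro a ha
    exact Subtype.ext (Subtype.ext (h.parts_disjoint s p (mem_subgroupOf.1 a.2) (hmk1.1 ha)))
  have e1 : (mk.comp QX.subtype).range = Rb := by rw [MonoidHom.range_comp, range_subtype]
  have eR : Rb ≃* QuaternionGroup 2 :=
    ((MulEquiv.subgroupCongr e1).symm.trans (MonoidHom.ofInjective hinjQ).symm).trans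
      ((subgroupOfEquivOfLe p.fib.le).trans eQ)
  have hRmem : ∀ {a : cz t}, mk a ∈ Rb ↔ (a : G) ∈ R := by
    intro a
    constructor
    · rintro ⟨q, hq, e⟩
      obtain ⟨n, hn, e'⟩ := (QuotientGroup.mk'_eq_mk' N).1 e
      rw [← e']
      exact mul_mem (p.qle (mem_subgroupOf.1 hq)) (p.ole (mem_subgroupOf.1 hn))
    · intro ha
      obtain ⟨q, hq, o, ho, e⟩ := p.gen _ ha
      refine ⟨⟨q, p.fib.le hq⟩, hq, (QuotientGroup.mk'_eq_mk' N).2 ⟨⟨o, hOC ho⟩, ho, Subtype.ext e.symm⟩⟩
  have hcR : centralizer (Rb : Set (cz t ⧸ N)) ≤ Rb := by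
    intro b hb
    obtain ⟨c, rfl⟩ := hmks b
    refine hRmem.2 (h.cent_two_part s p (Or.inr h6) hnz ⟨c.2, mem_centralizer_iff.2 fun q hq => ?_⟩)
    have h1 := mem_centralizer_iff.1 hb (mk ⟨q, p.fib.le hq⟩) ⟨_, hq, rfl⟩
    have hqc : (c : G) * q * (c : G)⁻¹ * q⁻¹ = 1 := by
      refine h.parts_disjoint s p (mul_mem (conj_mem (p.fib.norm c.2) hq) (inv_mem hq))
        ((hmk1 (a := c * ⟨q, p.fib.le hq⟩ * c⁻¹ * (⟨q, p.fib.le hq⟩ : cz t)⁻¹)).1 ?_)
      rw [map_mul, map_mul, map_mul, map_inv, map_inv, ← h1]; group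
    exact (mul_inv_eq_iff_eq_mul.1 (mul_inv_eq_one.1 hqc)).symm
  -- orders
  have hcX : Nat.card (cz t ⧸ N) = 48 := by
    have h1 := N.card_eq_card_quotient_mul_card_subgroup
    have h2 : Nat.card (cz t) = Nat.card R * 6 := by
      rw [← relIndex_bot_left (cz t), ← relIndex_mul_relIndex ⊥ R (cz t) bot_le s.le, relIndex_bot_left, h6]
    rw [h2, h.parts_card s p, h8, hN, Nat.card_congr (subgroupOfEquivOfLe hOC).toEquiv] at h1
    exact (Nat.eq_of_mul_eq_mul_right Nat.card_pos (h1.symm.trans (by ring)))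
  obtain ⟨u, huC, hu2, huz⟩ := h.exists_other
  have huu : u * u = 1 := by rw [← pow_two, ← hu2, pow_orderOf_eq_one]
  have huR : mk ⟨u, huC⟩ ∉ Rb := fun hm => by
    have huQ : u ∈ Q := h.eq_two_part s p (hRmem.1 hm) (k := 1) (by rw [pow_one, pow_two, huu])
    rcases h.mem_zpowers_z.1 (hu u huQ huu) with e | e
    · rw [e, orderOf_one] at hu2; omega
    · exact huz e
  have huo : mk ⟨u, huC⟩ * mk ⟨u, huC⟩ = 1 := by
    rw [← map_mul, show (⟨u, huC⟩ : cz t) * ⟨u, huC⟩ = 1 from Subtype.ext huu, map_one]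
  obtain ⟨iso⟩ : Nonempty ((cz t ⧸ N) ≃* GLTwoThree.K48) := by
    obtain ⟨e48⟩ := GLTwoThree.exists_iso
    rcases Cfsg.Lib.QuatCore.structure_of_quaternion_core Rb hcR eR with ⟨T, hT⟩ | ⟨⟨f⟩⟩ | ⟨-, -, -, hQ16⟩
    · exfalso
      haveI := hT
      -- a normal two-subgroup of the quotient lies in the image of the two-part
      let P : Subgroup G := ((T : Subgroup (cz t ⧸ N)).comap mk).map (cz t).subtype
      have hPC : P ≤ cz t := map_subtype_le _
      have hPn : cz t ≤ normalizer (P : Set G) := by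
        haveI : ((T : Subgroup (cz t ⧸ N)).comap mk).Normal := hT.comap mk
        have := (normal_subgroupOf_iff_le_normalizer hPC).1 (by
          rw [show P.subgroupOf (cz t) = (T : Subgroup (cz t ⧸ N)).comap mk from
            comap_map_eq_self_of_injective (cz t).subtype_injective _]
          infer_instance)
        exact this
      have hP3 : ¬ 3 ∣ Nat.card P := by
        intro hd
        have : Fact (Nat.Prime 3) := ⟨Nat.prime_three⟩
        obtain ⟨⟨a, ha⟩, hao⟩ := exists_prime_orderOf_dvd_card' 3 hd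
        rw [Subgroup.orderOf_mk] at hao
        obtain ⟨a', ha', rfl⟩ := ha
        have h3 : (mk a') ^ 3 = 1 := by
          rw [← map_pow, show a' ^ 3 = 1 from Subtype.ext (by
            rw [Subgroup.coe_pow]; exact orderOf_dvd_iff_pow_eq_one.1 hao.dvd), map_one]
        obtain ⟨k, hk⟩ := T.2 ⟨mk a', ha'⟩
        have hk' : mk a' ^ 2 ^ k = 1 := congrArg Subtype.val hk
        have h1 : mk a' = 1 := orderOf_eq_one_iff.1 (Nat.eq_one_of_dvd_coprimes
          ((by norm_num : Nat.Coprime 3 2).pow_right k) (orderOf_dvd_of_pow_eq_one h3) (orderOf_dvd_of_pow_eq_one hk'))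
        have := Subgroup.orderOf_dvd_natCard O (hmk1.1 h1)
        rw [show orderOf (a' : G) = 3 from hao] at this
        exact s.p3 (this.trans (card_dvd_of_le p.ole))
      have hPR := h.normal_le s (Or.inr h6) hP3 hPC hPn
      refine huR ?_
      obtain ⟨T', hT'⟩ := (IsPGroup.of_card (p := 2) (n := 1) (G := zpowers (mk ⟨u, huC⟩)) (by
        rw [Nat.card_zpowers, pow_one]
        exact orderOf_eq_prime (by rw [pow_two, huo]) fun e => huR (e ▸ one_mem _))).exists_le_sylow
      haveI := Sylow.unique_of_normal T hT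
      rw [Subsingleton.elim T' T] at hT'
      exact hRmem.2 (hPR ⟨⟨u, huC⟩, hT' (mem_zpowers _), rfl⟩)
    · exact ⟨f.trans e48.symm⟩
    · exfalso
      obtain ⟨T, hT⟩ := (IsPGroup.of_card (p := 2) (n := 1) (G := zpowers (mk ⟨u, huC⟩)) (by
        rw [Nat.card_zpowers, pow_one]
        exact orderOf_eq_prime (by rw [pow_two, huo]) fun e => huR (e ▸ one_mem _))).exists_le_sylow
      obtain ⟨fQ⟩ := hQ16 T
      have hRT : Rb ≤ (T : Subgroup (cz t ⧸ N)) := by
        have hR2 : IsPGroup 2 Rb := IsPGroup.of_card (n := 3) (by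
          rw [Nat.card_congr eR.toEquiv, Nat.card_eq_fintype_card, QuaternionGroup.card]; rfl)
        have := T.3 (hR2.to_sup_of_normal_left T.2) le_sup_right
        exact fun x hx => this ▸ mem_sup_left hx
      set zb := mk ⟨t ^ 3, h.z_mem⟩ with hzb
      have hzR : zb ∈ Rb := hRmem.2 s.z_mem
      have hzz : zb * zb = 1 := by
        rw [hzb, ← map_mul, show (⟨t ^ 3, h.z_mem⟩ : cz t) * ⟨t ^ 3, h.z_mem⟩ = 1 from
          Subtype.ext (h.zz p.fib), map_one]
      have hz1 : zb ≠ 1 := fun e => h.z_ne_one p.fib (h.parts_disjoint s p p.fib.z_mem (hmk1.1 e))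
      have hk : ∀ (a : cz t ⧸ N) (ha : a ∈ (T : Subgroup (cz t ⧸ N))), a * a = 1 → a ≠ 1 →
          fQ ⟨a, ha⟩ * fQ ⟨a, ha⟩ = 1 ∧ fQ ⟨a, ha⟩ ≠ 1 := fun a ha h2 h1 =>
        ⟨by rw [← map_mul, show (⟨a, ha⟩ : (T : Subgroup (cz t ⧸ N))) * ⟨a, ha⟩ = 1 from Subtype.ext h2, map_one],
          fun e => h1 (congrArg Subtype.val (fQ.injective (e.trans (map_one fQ).symm)))⟩
      have h1 := hk zb (hRT hzR) hzz hz1
      have h2 := hk (mk ⟨u, huC⟩) (hT (mem_zpowers _)) huo (fun e => huR (e ▸ one_mem _))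
      have h3 := fQ.injective ((by decide +kernel : ∀ x y : QuaternionGroup 4, x * x = 1 ∧ x ≠ 1 →
        y * y = 1 ∧ y ≠ 1 → x = y) _ _ h2 h1)
      rw [show mk ⟨u, huC⟩ = zb from congrArg Subtype.val h3] at huR
      exact huR hzR
  let π : cz t →* GLTwoThree.K48 := iso.toMonoidHom.comp mk
  have hπ1 : ∀ {a : cz t}, π a = 1 ↔ (a : G) ∈ O := fun {a} => (iso.map_eq_one_iff).trans hmk1
  have hker : π.ker = N := by
    ext a
    rw [MonoidHom.mem_ker, hπ1, hN, mem_subgroupOf]
  have hπs : Function.Surjective π := iso.surjective.comp hmks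
  have hπz : π ⟨t ^ 3, mem_centralizer_singleton_iff.2 rfl⟩ = GLTwoThree.zk := by
    refine (by decide +kernel : ∀ k : GLTwoThree.K48, k * k = 1 → k ≠ 1 → (∀ j, j * k = k * j) → k = GLTwoThree.zk)
      _ ?_ ?_ fun j => ?_
    · rw [← map_mul, show (⟨t ^ 3, _⟩ : cz t) * ⟨t ^ 3, _⟩ = 1 from Subtype.ext (h.zz p.fib), map_one]
    · exact fun e => h.z_ne_one p.fib (h.parts_disjoint s p p.fib.z_mem (hπ1.1 e))
    · obtain ⟨a, rfl⟩ := hπs j
      rw [← map_mul, ← map_mul]
      exact congrArg π (Subtype.ext (mem_cz.1 a.2).eq)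
  refine ⟨{ z := t ^ 3
            z_ne := h.z_ne_one p.fib
            z_sq := h.zz p.fib
            π := π
            surj := hπs
            odd := by rw [hker, hN, Nat.card_congr (subgroupOfEquivOfLe hOC).toEquiv]; exact p.odd
            π_z := hπz
            one := fun a ha ha1 => h.one _ _ h.z_ord
              (mem_invol_of_sq (congrArg Subtype.val ha) fun e => ha1 (by rw [show a = 1 from Subtype.ext e, map_one])) },
    rfl, fun a => hπ1⟩

theorem sd_outcome (h6 : R.relIndex (cz t) = 6) (h8 : Nat.card Q = 8)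
    (hu : ∀ q ∈ Q, q * q = 1 → q ∈ zpowers (t ^ 3)) :
    (∃ (F : Type) (_ : Field F) (_ : Fintype F), Fintype.card F = 3 ∧
        Nonempty (G ≃* Matrix.ProjectiveSpecialLinearGroup (Fin 3) F)) ∨ Cfsg.Spor.IsoM11 G := by
  classical
  have : Fact (Nat.Prime 3) := ⟨Nat.prime_three⟩
  letI := Fintype.ofFinite G
  obtain ⟨D, hDz, hD⟩ := h.sd_setup s p h6 h8 hu
  have hX : D.X = cz t := by rw [show D.X = centralizer ({D.z} : Set G) from rfl, hDz]
  have hmem : ∀ a : D.X, (a : G) ∈ cz t := fun a => hX ▸ a.2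
  have hin : ∀ {c : G}, c ∈ cz t → c ∈ D.X := fun {c} hc => hX.symm ▸ hc
  have hnil : Group.IsNilpotent D.π.ker := by
    let e : D.π.ker ≃* O :=
      { toFun := fun a => ⟨((a : D.X) : G), (hD _).1 a.2⟩
        invFun := fun o => ⟨⟨o, hin (s.le (p.ole o.2))⟩, (hD _).2 o.2⟩
        left_inv := fun _ => rfl
        right_inv := fun _ => rfl
        map_mul' := fun _ _ => rfl }
    exact (Group.isNilpotent_congr e).2 p.onil
  have hxX : t ^ 2 ∈ D.X := hin h.x_mem
  have hb : D.π.ker = ⊥ := by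
    refine D.ker_bot h.simple ?_ (g := ⟨t ^ 2, hxX⟩) ?_ ?_ hnil
    · intro f hf hf8 y hy
      -- `f` is a square modulo the nilpotent subgroup, hence lies in it
      have hfR : (f : G) ∈ R := by
        obtain ⟨j, hj, hj8⟩ := (by decide +kernel : ∃ j : GLTwoThree.K48, j * j = SubdegThree.fk ∧ j ^ 8 = 1)
        obtain ⟨m, rfl⟩ := D.surj j
        haveI := s.normal
        have hmR : ((m ^ 6 : D.X) : G) ∈ R := by
          have h6' : (R.subgroupOf (cz t)).index = 6 := h6
          have := Subgroup.pow_index_mem (R.subgroupOf (cz t)) (⟨(m : G), hmem m⟩ : cz t)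
          rw [h6', mem_subgroupOf] at this
          exact this
        have hk : D.π (f * (m ^ 6)) = 1 := by
          rw [map_mul, map_pow, hf, ← hj, ← pow_two, ← pow_add, hj8]
        have h1 := p.ole ((hD _).1 hk)
        rw [Subgroup.coe_mul] at h1
        exact (mul_mem_cancel_right hmR).1 h1
      have hfQ := h.eq_two_part s p hfR (k := 3) (congrArg Subtype.val hf8)
      exact Subtype.ext (p.comm _ hfQ _ ((hD y).1 (D.mem_ker.1 hy))).eq
    · exact Subtype.ext (by
        show (t ^ 2) ^ 3 = 1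
        rw [← h.x_ord, pow_orderOf_eq_one])
    · intro y hy hc
      have hyO := (hD y).1 (D.mem_ker.1 hy)
      exact Subtype.ext (h.fix_x s (p.ole hyO) (p.odd.of_dvd_nat (Subgroup.orderOf_dvd_natCard O hyO))
        (congrArg Subtype.val hc))
  obtain ⟨e⟩ := GLTwoThree.exists_iso
  haveI := h.simple
  have hres : Cfsg.pResidual 2 G = ⊤ := by
    haveI : (Cfsg.pResidual 2 G).Normal := ⟨fun n hn g => by
      have hle : (Cfsg.pResidual 2 G).map (MulAut.conj g).toMonoidHom ≤ Cfsg.pResidual 2 G := by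
        rw [Cfsg.pResidual, MonoidHom.map_closure, closure_le]
        rintro _ ⟨x, hx, rfl⟩
        refine subset_closure ?_
        show Nat.Coprime (orderOf ((MulAut.conj g) x)) 2
        rw [MulEquiv.orderOf_eq]; exact hx
      exact hle ⟨n, hn, rfl⟩⟩
    rcases h.simple.eq_bot_or_eq_top_of_normal (Cfsg.pResidual 2 G) inferInstance with h' | h'
    · exfalso
      have hx : t ^ 2 ∈ Cfsg.pResidual 2 G := subset_closure (show Nat.Coprime (orderOf (t ^ 2)) 2 by
        rw [h.x_ord]; norm_num)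
      rw [h', mem_bot] at hx
      have := h.x_ord
      rw [hx, orderOf_one] at this
      omega
    · exact h'
  exact Cfsg.Agent.S2916.result hres (t ^ 3) h.z_ord ⟨(MulEquiv.subgroupCongr hX.symm).trans
    ((MulEquiv.ofBijective D.π ⟨(MonoidHom.ker_eq_bot_iff _).1 hb, D.surj⟩).trans e)⟩

end Hyp

end Cfsg.Lib.SelfCentSix
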