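import Cfsg.Agent.SelfCentSix.Small
import Cfsg.Agent.SelfCentSix.SdTop
import Cfsg.Agent.SelfCentSix.Rank

/-!
Simple groups with one class of involutions and a self-centralising element of order six.
-/

set_option autoImplicit false
set_option linter.unusedSectionVars false
set_option linter.style.haveILetI false

namespace Cfsg.Lib.SelfCentSix

open Subgroup

universe u

variable {G : Type u} [Group G] [Finite G] {t : G}

namespace Hyp

variable (h : Hyp t)
include h

theorem outcome :
    (∃ (F : Type) (_ : Field F) (_ : Fintype F), (Fintype.card F = 11 ∨ Fintype.card F = 13) ∧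
        Nonempty (G ≃* Matrix.ProjectiveSpecialLinearGroup (Fin 2) F)) ∨
      (∃ (F : Type) (_ : Field F) (_ : Fintype F), Fintype.card F = 3 ∧
        Nonempty (G ≃* Matrix.ProjectiveSpecialLinearGroup (Fin 3) F)) ∨
      Cfsg.Spor.IsoM11 G ∨ Cfsg.Spor.IsoJ1 G := by
  rcases h.shape with hJ | ⟨R, s⟩
  · exact Or.inr (Or.inr (Or.inr hJ))
  rcases (or_assoc.2 s.idx) with h36 | ⟨h60, h2, hne⟩
  swap
  · exact (h.no_sixty s h60 h2 hne).elim
  obtain ⟨Q, O, p⟩ := h.parts s
  rcases h.q_shape p.fib with h2 | ⟨h8, hu⟩ | ⟨e, he⟩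
  · rcases h36 with h3 | h6
    · exact (h.no_three_two s p h3 h2).elim
    · exact Or.inl (h.psl_case s p h6 h2)
  · rcases h36 with h3 | h6
    · exact (h.no_three_quat s p h3 hu).elim
    · rcases h.sd_outcome s p h6 h8 hu with r | r
      · exact Or.inr (Or.inl r)
      · exact Or.inr (Or.inr (Or.inl r))
  · exact (h.no_line s p h36 he).elim

end Hyp

end Cfsg.Lib.SelfCentSix
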