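import Mathlib
import Cfsg.Agent.SelfCentThree.Arith
import Cfsg.Agent.Small.OrdersOneToFour

/-!
Simple groups with one class of involutions and a self-centralising element of order six: elementary facts.
-/

set_option autoImplicit false
set_option linter.unusedSectionVars false
set_option linter.style.haveILetI false

namespace Cfsg.Lib.SelfCentSix

open Subgroup
open scoped commutatorElement Pointwise

universe u

variable {G : Type u} [Group G] [Finite G]

/-- The standing hypotheses. -/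
structure Hyp (t : G) : Prop where
  simple : IsSimpleGroup G
  nc : ¬ IsMulCommutative G
  one : ∀ a b : G, orderOf a = 2 → orderOf b = 2 → IsConj a b
  ord : orderOf t = 6
  cent : centralizer ({t} : Set G) = zpowers t

/-- The centraliser of the involution `t ^ 3`. -/
abbrev cz (t : G) : Subgroup G := centralizer ({t ^ 3} : Set G)

variable {t : G}

theorem mem_cz {g : G} : g ∈ cz t ↔ Commute g (t ^ 3) := mem_centralizer_singleton_iff

namespace Hyp

variable (h : Hyp t)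
include h

theorem z_ord : orderOf (t ^ 3) = 2 := by
  rw [orderOf_pow_of_dvd (by norm_num) (by rw [h.ord]; norm_num), h.ord]

theorem x_ord : orderOf (t ^ 2) = 3 := by
  rw [orderOf_pow_of_dvd (by norm_num) (by rw [h.ord]; norm_num), h.ord]

theorem t_cases {g : G} (hg : g ∈ zpowers t) :
    g = 1 ∨ g = t ∨ g = t ^ 2 ∨ g = t ^ 3 ∨ g = t ^ 4 ∨ g = t ^ 5 := by
  obtain ⟨k, rfl⟩ := Submonoid.mem_powers_iff _ _ |>.1 (mem_powers_iff_mem_zpowers.2 hg)
  rw [← pow_mod_orderOf, h.ord]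
  have : k % 6 < 6 := Nat.mod_lt _ (by norm_num)
  interval_cases k % 6 <;> simp

theorem t_two {g : G} (hg : g ∈ zpowers t) {n : ℕ} (hn : g ^ 2 ^ n = 1) : g = 1 ∨ g = t ^ 3 := by
  have key : ∀ i : ℕ, ¬ 3 ∣ i → i < 6 → g = t ^ i → False := by
    intro i hi h6 e
    have h1 : orderOf t ∣ i * 2 ^ n := orderOf_dvd_of_pow_eq_one (by rw [pow_mul, ← e, hn])
    have h3 : 3 ∣ i * 2 ^ n := dvd_trans (by rw [h.ord]; norm_num) h1
    rcases (Nat.Prime.dvd_mul Nat.prime_three).1 h3 with h3 | h3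
    · exact hi h3
    · exact absurd (Nat.prime_three.dvd_of_dvd_pow h3) (by norm_num)
  rcases h.t_cases hg with e | e | e | e | e | e
  · exact Or.inl e
  · exact (key 1 (by norm_num) (by norm_num) (by rw [pow_one]; exact e)).elim
  · exact (key 2 (by norm_num) (by norm_num) e).elim
  · exact Or.inr e
  · exact (key 4 (by norm_num) (by norm_num) e).elim
  · exact (key 5 (by norm_num) (by norm_num) e).elim

theorem mem_t {g : G} (hz : Commute g (t ^ 3)) (hx : Commute g (t ^ 2)) : g ∈ zpowers t := by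
  rw [← h.cent, mem_centralizer_singleton_iff]
  have : Commute g (t ^ 3 * (t ^ 2)⁻¹) := hz.mul_right hx.inv_right
  rw [show t ^ 3 * (t ^ 2)⁻¹ = t by group] at this
  exact this

theorem x_mem : t ^ 2 ∈ cz t := mem_cz.2 (Commute.pow_pow_self t 2 3)

theorem z_mem : t ^ 3 ∈ cz t := mem_cz.2 (Commute.refl _)

theorem zpowers_z_le : zpowers (t ^ 3) ≤ cz t := zpowers_le.2 h.z_mem

theorem mem_zpowers_z {g : G} : g ∈ zpowers (t ^ 3) ↔ g = 1 ∨ g = t ^ 3 := by
  constructor
  · intro hg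
    obtain ⟨k, rfl⟩ := Submonoid.mem_powers_iff _ _ |>.1 (mem_powers_iff_mem_zpowers.2 hg)
    rw [← pow_mod_orderOf, h.z_ord]
    rcases (by omega : k % 2 = 0 ∨ k % 2 = 1) with e | e <;> rw [e] <;> simp
  · rintro (rfl | rfl)
    exacts [one_mem _, mem_zpowers _]

theorem card_z : Nat.card (zpowers (t ^ 3)) = 2 := by rw [Nat.card_zpowers, h.z_ord]

theorem exists_conj_z {u : G} (hu : orderOf u = 2) : ∃ g : G, g * t ^ 3 * g⁻¹ = u :=
  isConj_iff.1 (h.one _ _ h.z_ord hu)

theorem commute_conj {g a b : G} : Commute (g * a * g⁻¹) (g * b * g⁻¹) ↔ Commute a b := by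
  refine ⟨fun hc => ?_, fun hc => by simpa using hc.map (MulAut.conj g).toMonoidHom⟩
  have := hc.map (MulAut.conj g⁻¹).toMonoidHom
  simpa [mul_assoc] using this

/-- The image of `t ^ 2` in the centraliser modulo the involution. -/
theorem quot_hyp [((zpowers (t ^ 3)).subgroupOf (cz t)).Normal] :
    SelfCentThree.Hyp (QuotientGroup.mk' ((zpowers (t ^ 3)).subgroupOf (cz t)) ⟨t ^ 2, h.x_mem⟩) := by
  refine ⟨?_, fun w hw => ?_⟩
  · have : Fact (Nat.Prime 3) := ⟨Nat.prime_three⟩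
    refine orderOf_eq_prime ?_ ?_
    · rw [← map_pow]
      rw [show (⟨t ^ 2, h.x_mem⟩ : cz t) ^ 3 = 1 from Subtype.ext (by
        show (t ^ 2) ^ 3 = 1
        rw [← h.x_ord, pow_orderOf_eq_one]), map_one]
    · intro e
      have h1 := (QuotientGroup.eq_one_iff _).1 e
      rw [mem_subgroupOf] at h1
      have h2 := Subgroup.orderOf_dvd_natCard _ h1
      rw [h.x_ord, h.card_z] at h2
      norm_num at h2
  · obtain ⟨a, rfl⟩ := QuotientGroup.mk'_surjective _ w
    have h1 : ((a : G) * t ^ 2 * (a : G)⁻¹) * (t ^ 2)⁻¹ ∈ zpowers (t ^ 3) := by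
      have : QuotientGroup.mk' ((zpowers (t ^ 3)).subgroupOf (cz t))
          (a * ⟨t ^ 2, h.x_mem⟩ * a⁻¹ * ⟨t ^ 2, h.x_mem⟩⁻¹) = 1 := by
        rw [map_mul, map_mul, map_mul, map_inv, map_inv, hw.eq]; group
      simpa [mem_subgroupOf] using (QuotientGroup.eq_one_iff _).1 this
    have hc : Commute (t ^ 3) (t ^ 2) := Commute.pow_pow_self t 3 2
    have h3 : (t ^ 2) ^ 3 = 1 := by rw [← h.x_ord, pow_orderOf_eq_one]
    have hx : Commute (a : G) (t ^ 2) := by
      rcases h.mem_zpowers_z.1 h1 with e | e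
      · exact mul_inv_eq_iff_eq_mul.1 (mul_inv_eq_one.1 e)
      · exfalso
        rw [mul_inv_eq_iff_eq_mul] at e
        have h4 := congrArg (fun g : G => g ^ 3) e
        simp only [conj_pow, hc.mul_pow, h3, mul_one, mul_inv_cancel] at h4
        have h5 : (t ^ 3) ^ 2 = 1 := by rw [← h.z_ord, pow_orderOf_eq_one]
        rw [pow_succ, h5, one_mul] at h4
        have := h.z_ord
        rw [← h4, orderOf_one] at this
        omega
    obtain ⟨k, hk⟩ := mem_zpowers_iff.1 (h.mem_t (mem_cz.1 a.2) hx)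
    refine mem_zpowers_iff.2 ⟨-k, ?_⟩
    rw [← map_zpow, QuotientGroup.mk'_eq_mk']
    refine ⟨⟨t ^ (3 * k), mem_cz.2 ((Commute.refl t).zpow_left _ |>.pow_right 3)⟩, ?_, Subtype.ext ?_⟩
    · rw [mem_subgroupOf]
      refine mem_zpowers_iff.2 ⟨k, ?_⟩
      show (t ^ 3) ^ k = t ^ (3 * k)
      rw [zpow_mul]
      norm_cast
    · show (t ^ 2) ^ (-k) * t ^ (3 * k) = (a : G)
      rw [← hk, ← zpow_natCast t 2, ← zpow_mul, ← zpow_add]
      congr 1
      push_cast; ring

theorem normal_z : ((zpowers (t ^ 3)).subgroupOf (cz t)).Normal := by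
  refine ⟨fun n hn g => ?_⟩
  rw [mem_subgroupOf] at hn ⊢
  have hc : Commute (g : G) (n : G) := by
    obtain ⟨k, hk⟩ := mem_zpowers_iff.1 hn
    rw [← hk]; exact (mem_cz.1 g.2).zpow_right k
  show (g : G) * n * (g : G)⁻¹ ∈ _
  rw [hc.eq, mul_inv_cancel_right]; exact hn

/-- The elements of order three of the centraliser. -/
theorem three_conj {y : G} (hy : orderOf y = 3) (hyC : y ∈ cz t) :
    ∃ g ∈ cz t, g * t ^ 2 * g⁻¹ = y ∨ g * t ^ 2 * g⁻¹ = y⁻¹ := by
  have := h.normal_z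
  have : Fact (Nat.Prime 3) := ⟨Nat.prime_three⟩
  set N := (zpowers (t ^ 3)).subgroupOf (cz t) with hN
  set q := QuotientGroup.mk' N with hq
  have hyq : orderOf (q ⟨y, hyC⟩) = 3 := by
    refine orderOf_eq_prime ?_ ?_
    · rw [← map_pow, show (⟨y, hyC⟩ : cz t) ^ 3 = 1 from Subtype.ext (by
        show y ^ 3 = 1; rw [← hy, pow_orderOf_eq_one]), map_one]
    · intro e
      have h1 := (QuotientGroup.eq_one_iff _).1 e
      rw [hN, mem_subgroupOf] at h1
      have h2 := Subgroup.orderOf_dvd_natCard _ h1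
      rw [hy, h.card_z] at h2
      norm_num at h2
  obtain ⟨g', hg⟩ := SelfCentThree.exists_conj h.quot_hyp hyq
  obtain ⟨g, rfl⟩ := QuotientGroup.mk'_surjective N g'
  refine ⟨g, g.2, ?_⟩
  -- lifts of order three are unique
  have key : ∀ (v : cz t), orderOf (v : G) = 3 → q (g * ⟨t ^ 2, h.x_mem⟩ * g⁻¹) = q v →
      (g : G) * t ^ 2 * (g : G)⁻¹ = v := by
    intro v hv e
    obtain ⟨n, hn, hnv⟩ := (QuotientGroup.mk'_eq_mk' N).1 e
    have hnv' : (g : G) * t ^ 2 * (g : G)⁻¹ * n = v := congrArg Subtype.val hnv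
    rw [hN, mem_subgroupOf] at hn
    rcases h.mem_zpowers_z.1 hn with e1 | e1
    · rwa [e1, mul_one] at hnv'
    · exfalso
      rw [e1] at hnv'
      have hc : Commute ((g : G) * t ^ 2 * (g : G)⁻¹) (t ^ 3) := by
        have h1 := mem_cz.1 g.2
        exact (h1.mul_left (Commute.pow_pow_self t 2 3)).mul_left h1.inv_left
      have h4 : v.1 ^ 3 = t ^ 3 := by
        rw [← hnv', hc.mul_pow, conj_pow, show (t ^ 2) ^ 3 = 1 by rw [← h.x_ord, pow_orderOf_eq_one], mul_one,
          mul_inv_cancel, one_mul, pow_succ, show (t ^ 3) ^ 2 = 1 by rw [← h.z_ord, pow_orderOf_eq_one], one_mul]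
      have h5 : v.1 ^ 3 = 1 := by rw [← hv, pow_orderOf_eq_one]
      rw [h5] at h4
      have := h.z_ord
      rw [← h4, orderOf_one] at this
      omega
  rcases hg with e | e
  · exact Or.inl (key ⟨y, hyC⟩ hy (by rw [map_mul, map_mul, map_inv]; exact e))
  · exact Or.inr (key ⟨y⁻¹, inv_mem hyC⟩ (by rw [orderOf_inv]; exact hy)
      (by rw [map_mul, map_mul, map_inv]; exact e.trans (map_inv q ⟨y, hyC⟩).symm))

/-- An element of order three commuting with an involution. -/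
theorem three_invol {y u : G} (hy : orderOf y = 3) (hu : orderOf u = 2) (hc : Commute y u) :
    ∃ g : G, g * t ^ 3 * g⁻¹ = u ∧ (g * t ^ 2 * g⁻¹ = y ∨ g * t ^ 2 * g⁻¹ = y⁻¹) := by
  obtain ⟨a, rfl⟩ := h.exists_conj_z hu
  have hyC : a⁻¹ * y * a ∈ cz t := by
    rw [mem_cz, ← commute_conj h (g := a)]
    convert hc using 1
    group
  obtain ⟨g, hg, hgy⟩ := h.three_conj (y := a⁻¹ * y * a) (by
    rw [← hy, ← MulEquiv.orderOf_eq (MulAut.conj a⁻¹) y]
    simp [mul_assoc]) hyC
  refine ⟨a * g, ?_, ?_⟩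
  · calc a * g * t ^ 3 * (a * g)⁻¹ = a * (g * t ^ 3 * g⁻¹) * a⁻¹ := by group
      _ = a * t ^ 3 * a⁻¹ := by rw [(mem_cz.1 hg).eq, mul_inv_cancel_right]
  · rcases hgy with e | e
    · left; calc a * g * t ^ 2 * (a * g)⁻¹ = a * (g * t ^ 2 * g⁻¹) * a⁻¹ := by group
        _ = y := by rw [e]; group
    · right; calc a * g * t ^ 2 * (a * g)⁻¹ = a * (g * t ^ 2 * g⁻¹) * a⁻¹ := by group
        _ = y⁻¹ := by rw [e]; group

/-- A two-group centralised by an element of order three has order at most two. -/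
theorem two_three {y : G} (hy : orderOf y = 3) {P : Subgroup G} (hP : IsPGroup 2 P)
    (hc : ∀ p ∈ P, Commute p y) : Nat.card P ≤ 2 := by
  have : Fact (Nat.Prime 2) := ⟨Nat.prime_two⟩
  by_cases hb : P = ⊥
  · rw [hb, card_bot]; norm_num
  have : Nontrivial P := (Subgroup.nontrivial_iff_ne_bot P).2 hb
  have := hP.center_nontrivial
  obtain ⟨n, hn⟩ := (hP.to_subgroup (center P)).exists_card_eq
  obtain ⟨u, hu⟩ := exists_prime_orderOf_dvd_card' (G := center P) 2 (by
    rw [hn]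
    refine dvd_pow_self 2 fun e => ?_
    rw [e, pow_zero] at hn
    exact Finite.one_lt_card.ne' hn)
  have hu' : orderOf ((u : P) : G) = 2 := by rw [Subgroup.orderOf_coe, Subgroup.orderOf_coe, hu]
  obtain ⟨g, hgu, hgy⟩ := h.three_invol hy hu' (hc _ (u : P).2).symm
  have hmem : ∀ p ∈ P, p = 1 ∨ p = ((u : P) : G) := by
    intro p hp
    have hpu : Commute p ((u : P) : G) := congrArg Subtype.val (mem_center_iff.1 u.2 ⟨p, hp⟩)
    have hpy : Commute p (g * t ^ 2 * g⁻¹) := by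
      rcases hgy with e | e <;> rw [e]
      exacts [hc p hp, (hc p hp).inv_right]
    rw [← hgu] at hpu
    rw [show p = g * (g⁻¹ * p * g) * g⁻¹ by group] at hpu hpy
    have ht' := h.mem_t ((commute_conj h).1 hpu) ((commute_conj h).1 hpy)
    obtain ⟨k, hk⟩ := hP ⟨p, hp⟩
    have hk' : p ^ 2 ^ k = 1 := congrArg Subtype.val hk
    rcases h.t_two ht' (n := k) (by
      have := conj_pow (i := 2 ^ k) (a := g⁻¹) (b := p)
      rw [inv_inv] at this
      rw [this, hk', mul_one, inv_mul_cancel]) with e | e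
    · left; calc p = g * (g⁻¹ * p * g) * g⁻¹ := by group
        _ = 1 := by rw [e]; group
    · right; calc p = g * (g⁻¹ * p * g) * g⁻¹ := by group
        _ = _ := by rw [e]; exact hgu
  have hs : (P : Set G) ⊆ {1, ((u : P) : G)} := fun p hp => hmem p hp
  calc Nat.card P = Set.ncard (P : Set G) := rfl
    _ ≤ Set.ncard ({1, ((u : P) : G)} : Set G) := Set.ncard_le_ncard hs
    _ ≤ 2 := (Set.ncard_insert_le _ _).trans (by simp)

end Hyp

/-- Counting the fixed points of an element of order three. -/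
theorem fixed_modEq {y : G} (hy : orderOf y = 3) {P : Subgroup G} (hn : ∀ p ∈ P, y * p * y⁻¹ ∈ P) :
    Nat.card P ≡ Nat.card ↥(P ⊓ centralizer ({y} : Set G)) [MOD 3] := by
  classical
  have := Fintype.ofFinite P
  have : Fact (Nat.Prime 3) := ⟨Nat.prime_three⟩
  let f : Function.End P := fun p => ⟨y * p * y⁻¹, hn p p.2⟩
  have h3 : y ^ 3 = 1 := by rw [← hy, pow_orderOf_eq_one]
  have hf : f ^ 3 ^ 1 = 1 := by
    funext p
    refine Subtype.ext ?_
    show y * (y * (y * (p : G) * y⁻¹) * y⁻¹) * y⁻¹ = p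
    rw [show y * (y * (y * (p : G) * y⁻¹) * y⁻¹) * y⁻¹ = y ^ 3 * p * (y ^ 3)⁻¹ by rw [pow_three]; group, h3]
    group
  have h1 := Equiv.Perm.card_fixedPoints_modEq (p := 3) (n := 1) hf
  rw [Nat.card_eq_fintype_card]
  refine h1.trans (Eq.congr_right ?_ |>.1 (Nat.ModEq.refl (Fintype.card (Function.fixedPoints f))))
  rw [← Nat.card_eq_fintype_card]
  refine congrArg (· % 3) (Nat.card_congr
    { toFun := fun p => ⟨p.1, p.1.2, mem_centralizer_singleton_iff.2
        (mul_inv_eq_iff_eq_mul.1 (congrArg Subtype.val p.2)).symm⟩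
      invFun := fun p => ⟨⟨p, p.2.1⟩, Subtype.ext (mul_inv_eq_iff_eq_mul.2
        (mem_centralizer_singleton_iff.1 p.2.2).symm)⟩
      left_inv := fun _ => rfl
      right_inv := fun _ => rfl })

namespace Hyp

variable (h : Hyp t)
include h

/-- An element of order three normalising a two-group of order `≡ 1 (mod 3)` acts without fixed points. -/
theorem fpf_three {y : G} (hy : orderOf y = 3) {P : Subgroup G} (hP : IsPGroup 2 P)
    (hn : ∀ p ∈ P, y * p * y⁻¹ ∈ P) (h1 : Nat.card P % 3 = 1) {p : G} (hp : p ∈ P) (hc : Commute p y) :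
    p = 1 := by
  have hle : Nat.card ↥(P ⊓ centralizer ({y} : Set G)) ≤ 2 :=
    h.two_three hy (hP.to_le inf_le_left) fun q hq => mem_centralizer_singleton_iff.1 hq.2
  have hm := fixed_modEq hy hn
  rw [Nat.ModEq, h1] at hm
  have hpos : 0 < Nat.card ↥(P ⊓ centralizer ({y} : Set G)) := Nat.card_pos
  have h1' : Nat.card ↥(P ⊓ centralizer ({y} : Set G)) = 1 := by omega
  rw [card_eq_one, eq_bot_iff_forall] at h1'
  exact h1' p ⟨hp, mem_centralizer_singleton_iff.2 hc⟩

/-- The centraliser of an involution contains a Sylow two-subgroup. -/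
theorem exists_sylow_le : ∃ S : Sylow 2 G, (S : Subgroup G) ≤ cz t := by
  have : Fact (Nat.Prime 2) := ⟨Nat.prime_two⟩
  obtain ⟨S⟩ : Nonempty (Sylow 2 G) := inferInstance
  have h2 : 2 ∣ Nat.card G := h.z_ord ▸ orderOf_dvd_natCard _
  have : Nontrivial (S : Subgroup G) := (Subgroup.nontrivial_iff_ne_bot _).2 (S.ne_bot_of_dvd_card h2)
  have := S.2.center_nontrivial
  obtain ⟨n, hn⟩ := (S.2.to_subgroup (center (S : Subgroup G))).exists_card_eq
  obtain ⟨u, hu⟩ := exists_prime_orderOf_dvd_card' (G := center (S : Subgroup G)) 2 (by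
    rw [hn]
    refine dvd_pow_self 2 fun e => ?_
    rw [e, pow_zero] at hn
    exact Finite.one_lt_card.ne' hn)
  obtain ⟨g, hg⟩ := h.exists_conj_z (u := ((u : (S : Subgroup G)) : G))
    (by rw [Subgroup.orderOf_coe, Subgroup.orderOf_coe, hu])
  refine ⟨g⁻¹ • S, fun a ha' => ?_⟩
  have ha : a ∈ ((g⁻¹ • S : Sylow 2 G) : Subgroup G) := ha'
  rw [Sylow.coe_subgroup_smul] at ha
  obtain ⟨b, hb, rfl⟩ := ha
  have hbu : Commute b ((u : (S : Subgroup G)) : G) := congrArg Subtype.val (mem_center_iff.1 u.2 ⟨b, hb⟩)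
  rw [mem_cz, ← commute_conj h (g := g), hg]
  convert hbu using 1
  simp [mul_assoc]

/-- Conjugate central involutions of a Sylow subgroup are conjugate in its normaliser. -/
theorem burnside (S : Sylow 2 G) {a b : G} (ha : a ∈ centralizer ((S : Subgroup G) : Set G))
    (hb : b ∈ centralizer ((S : Subgroup G) : Set G)) (hao : orderOf a = 2) (hbo : orderOf b = 2) :
    ∃ n ∈ normalizer ((S : Subgroup G) : Set G), n * a * n⁻¹ = b := by
  have : Fact (Nat.Prime 2) := ⟨Nat.prime_two⟩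
  obtain ⟨g, hg⟩ := isConj_iff.1 (h.one a b hao hbo)
  obtain ⟨n, hn, e⟩ := S.conj_eq_normalizer_conj_of_mem_centralizer a g⁻¹ ha
    (by rw [inv_inv, hg]; exact hb)
  refine ⟨n⁻¹, inv_mem hn, ?_⟩
  rw [inv_inv] at e ⊢
  rw [← e, hg]

end Hyp

/-- A two-group with a fixed-point-free automorphism of order three has class at most two. -/
theorem class_two {y : G} (hy : orderOf y = 3) {P : Subgroup G} (hP : IsPGroup 2 P)
    (hn : ∀ p ∈ P, y * p * y⁻¹ ∈ P) (hf : ∀ p ∈ P, Commute p y → p = 1) {a b c : G}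
    (ha : a ∈ P) (hb : b ∈ P) (hc : c ∈ P) : Commute ⁅a, b⁆ c := by
  have h3 : ¬ 3 ∣ Nat.card P := fun hd => by
    have : Fact (Nat.Prime 2) := ⟨Nat.prime_two⟩
    obtain ⟨n, hn⟩ := hP.exists_card_eq
    rw [hn] at hd
    exact absurd (Nat.prime_three.dvd_of_dvd_pow hd) (by norm_num)
  have hyN : zpowers y ≤ normalizer (P : Set G) := by
    rw [zpowers_le]
    have : Fintype P := Fintype.ofFinite _
    refine mem_normalizer_fintype (S := (P : Set G)) ?_
    exact fun p hp => hn p hp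
  set L := P ⊔ zpowers y with hL
  have hyL : y ∈ L := mem_sup_right (mem_zpowers y)
  have hLy : SelfCentThree.Hyp (⟨y, hyL⟩ : L) := by
    refine ⟨by rw [← Subgroup.orderOf_coe]; exact hy, fun w hw => ?_⟩
    have hw' : Commute (w : G) y := congrArg Subtype.val hw.eq
    obtain ⟨p, hp, q, hq, e⟩ := Set.mem_mul.1
      (show (w : G) ∈ (P : Set G) * (zpowers y : Set G) by
        rw [← coe_mul_of_right_le_normalizer_left _ _ hyN]; exact w.2)
    obtain ⟨k, rfl⟩ := mem_zpowers_iff.1 hq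
    have hp1 : p = 1 := hf p hp (by
      have := hw'.mul_left (((Commute.refl y).zpow_left k).inv_left)
      rwa [← e, mul_inv_cancel_right] at this)
    rw [hp1, one_mul] at e
    exact mem_zpowers_iff.2 ⟨k, Subtype.ext (by simpa using e)⟩
  set R := P.subgroupOf L
  have hR : SelfCentThree.P3 R := fun hd => h3 (by
    rwa [Nat.card_congr (subgroupOfEquivOfLe (le_sup_left : P ≤ L)).toEquiv] at hd)
  have hI : SelfCentThree.Inv (⟨y, hyL⟩ : L) R := fun r hr => by
    rw [mem_subgroupOf] at hr ⊢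
    exact hn _ hr
  have hE : ∀ u w : R, Commute u (w * u * w⁻¹) := by
    intro u w
    refine Subtype.ext ?_
    have h1 := SelfCentThree.comm_self hLy hR hI u.2
    obtain ⟨v, hv, e⟩ := SelfCentThree.exists_conj_eq hLy hR hI w.2
    -- the conjugate generator acts in the same way
    have hy' : SelfCentThree.Hyp ((⟨y, hyL⟩ : L) * (w : L)) := e ▸ hLy.conj v
    have hI' : SelfCentThree.Inv ((⟨y, hyL⟩ : L) * (w : L)) R := fun r hr => by
      have := hI _ (R.mul_mem (R.mul_mem w.2 hr) (R.inv_mem w.2))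
      rw [show (⟨y, hyL⟩ : L) * (w : L) * r * ((⟨y, hyL⟩ : L) * (w : L))⁻¹ =
        (⟨y, hyL⟩ : L) * ((w : L) * r * (w : L)⁻¹) * (⟨y, hyL⟩ : L)⁻¹ by group]
      exact this
    have h2 := SelfCentThree.comm_self hy' hR hI' u.2
    rw [show (⟨y, hyL⟩ : L) * (w : L) * u * ((⟨y, hyL⟩ : L) * (w : L))⁻¹ =
      (⟨y, hyL⟩ : L) * ((w : L) * u * (w : L)⁻¹) * (⟨y, hyL⟩ : L)⁻¹ by group] at h2
    have h3' := (SelfCentThree.comm_conj hLy hR hI u.2
      (hI _ (R.mul_mem (R.mul_mem w.2 u.2) (R.inv_mem w.2))) h2).2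
    rw [show (⟨y, hyL⟩ : L)⁻¹ * ((⟨y, hyL⟩ : L) * ((w : L) * u * (w : L)⁻¹) * (⟨y, hyL⟩ : L)⁻¹) * ⟨y, hyL⟩ =
      (w : L) * u * (w : L)⁻¹ by group] at h3'
    exact h3'.eq
  have := OrdersOneFour.engel_class_two hE (fun g hg => by
    have hd : orderOf g ∣ 3 := orderOf_dvd_of_pow_eq_one hg
    rcases (Nat.dvd_prime Nat.prime_three).1 hd with e | e
    · exact orderOf_eq_one_iff.1 e
    · exact absurd (e ▸ orderOf_dvd_natCard g) hR) ⟨⟨a, mem_sup_left ha⟩, ha⟩ ⟨⟨b, mem_sup_left hb⟩, hb⟩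
      ⟨⟨c, mem_sup_left hc⟩, hc⟩
  exact congrArg (fun v : R => ((v : L) : G)) this.eq

end Cfsg.Lib.SelfCentSix
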