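import Cfsg.Agent.SelfCentSix.Overgroup
import Cfsg.Agent.S0494

/-!
A quotient of order sixty: an involution inverting the element of order three and a four-group it normalises.
-/

set_option autoImplicit false
set_option linter.unusedSectionVars false
set_option linter.style.haveILetI false

namespace Cfsg.Lib.SelfCentSix

open Subgroup
open scoped Pointwise

universe u

theorem five_frame : ∀ c : Equiv.Perm (Fin 5), c * c = 1 →
    c * (Equiv.swap 0 1 * Equiv.swap 1 2) * c = (Equiv.swap 0 1 * Equiv.swap 1 2)⁻¹ → Equiv.Perm.sign c = 1 →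
    ∀ a : Equiv.Perm (Fin 5), a * a = 1 → a ≠ 1 →
      a * ((Equiv.swap 0 1 * Equiv.swap 1 2) * a * (Equiv.swap 0 1 * Equiv.swap 1 2)⁻¹) =
        ((Equiv.swap 0 1 * Equiv.swap 1 2) * a * (Equiv.swap 0 1 * Equiv.swap 1 2)⁻¹) * a →
      a * (Equiv.swap 0 1 * Equiv.swap 1 2) ≠ (Equiv.swap 0 1 * Equiv.swap 1 2) * a →
      Equiv.Perm.sign a = 1 →
      (c * a) ^ 3 = 1 ∨ (c * ((Equiv.swap 0 1 * Equiv.swap 1 2) * a * (Equiv.swap 0 1 * Equiv.swap 1 2)⁻¹)) ^ 3 = 1 ∨
        (c * ((Equiv.swap 0 1 * Equiv.swap 1 2)⁻¹ * a * (Equiv.swap 0 1 * Equiv.swap 1 2))) ^ 3 = 1 := by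
  decide +kernel

open Equiv in
theorem exists_even_hom {Y : Type u} [Group Y] [Finite Y] [IsSimpleGroup Y] {y : Y} (hy : orderOf y = 3)
    (hc : Nat.card Y = 60) : ∃ f : Y →* Perm (Fin 5), Function.Injective f ∧
      f y = swap 0 1 * swap 1 2 ∧ ∀ v, Perm.sign (f v) = 1 := by
  obtain ⟨ψ⟩ := Cfsg.Agent.S0494.result hc
  let g : Y →* Perm (Fin 5) := (alternatingGroup (Fin 5)).subtype.comp ψ.toMonoidHom
  have hg : Function.Injective g := (alternatingGroup (Fin 5)).subtype_injective.comp ψ.injective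
  have h3 : (g y).IsThreeCycle := by
    have ho : orderOf (g y) = 3 := by rw [orderOf_injective g hg, hy]
    obtain ⟨n, hn⟩ := Equiv.Perm.cycleType_prime_order (σ := g y) (by rw [ho]; exact Nat.prime_three)
    rw [ho] at hn
    have h5 : (g y).cycleType.sum ≤ 5 := by
      rw [Equiv.Perm.sum_cycleType]
      exact (Finset.card_le_univ _).trans (by simp)
    rw [hn, Multiset.sum_replicate, smul_eq_mul] at h5
    have hn0 : n = 0 := by omega
    rw [hn0] at hn
    exact hn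
  have h3' : (swap (0 : Fin 5) 1 * swap 1 2).IsThreeCycle := by
    rw [swap_comm]
    exact Equiv.Perm.isThreeCycle_swap_mul_swap_same (by decide) (by decide) (by decide)
  obtain ⟨σ, hσ⟩ := isConj_iff.1 (Equiv.Perm.isConj_iff_cycleType_eq.2 (h3.trans h3'.symm))
  refine ⟨(MulAut.conj σ).toMonoidHom.comp g, (MulAut.conj σ).injective.comp hg, hσ, fun v => ?_⟩
  show Perm.sign (σ * g v * σ⁻¹) = 1
  rw [map_mul, map_mul, map_inv, show Perm.sign (g v) = 1 from (ψ v).2]
  simp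

/-- The frame in a simple group of order sixty. -/
theorem sixty_frame {Y : Type u} [Group Y] [Finite Y] [IsSimpleGroup Y] {y : Y} (h : SelfCentThree.Hyp y)
    (hc : Nat.card Y = 60) {V : Subgroup Y} (hV : Nat.card V = 4) (hI : SelfCentThree.Inv y V) :
    ∃ c a, a ∈ V ∧ c * c = 1 ∧ c * y * c⁻¹ = y⁻¹ ∧ orderOf (c * a) = 3 ∧
      ∀ v ∈ V, v = 1 ∨ v = a ∨ v = y * a * y⁻¹ ∨ v = y⁻¹ * a * y := by
  have : Fact (Nat.Prime 2) := ⟨Nat.prime_two⟩
  have : Fact (Nat.Prime 3) := ⟨Nat.prime_three⟩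
  have hVP : SelfCentThree.P3 V := by unfold SelfCentThree.P3; rw [hV]; norm_num
  obtain ⟨c, hct⟩ : ∃ c, SelfCentThree.Inverts c y := by
    by_contra hno
    obtain ⟨K, hKn, hK, hKi⟩ := SelfCentThree.exists_normal_index_three h hno
    have := K.card_mul_index
    rw [hKi, hc] at this
    rcases SelfCentThree.card_sixty_inv h hc hK SelfCentThree.inv_of_normal with e | e <;> omega
  have : Nontrivial V := Finite.one_lt_card_iff_nontrivial.1 (by rw [hV]; norm_num)
  obtain ⟨⟨a, haV⟩, ha⟩ := exists_ne (1 : V)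
  have ha1 : a ≠ 1 := fun e => ha (Subtype.ext e)
  have hab : ∀ p ∈ V, ∀ r ∈ V, p * r = r * p := fun p hp r hr => congrArg Subtype.val
    (IsPGroup.commutative_of_card_eq_prime_sq (p := 2) (G := V) (by rw [hV]; norm_num) ⟨p, hp⟩ ⟨r, hr⟩)
  have hne : y * a * y⁻¹ ≠ a := fun e =>
    ha1 (SelfCentThree.fixed_eq_one h hVP haV (mul_inv_eq_iff_eq_mul.1 e).symm)
  have hall : ∀ v ∈ V, v = 1 ∨ v = a ∨ v = y * a * y⁻¹ ∨ v = y⁻¹ * a * y := by
    have e2 : y⁻¹ * a * y ≠ a := fun e => hne (by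
      calc y * a * y⁻¹ = y * (y⁻¹ * a * y) * y⁻¹ := by rw [e]
        _ = a := by group)
    have e3 : y * a * y⁻¹ ≠ y⁻¹ * a * y := fun e => hne (by
      have e' := congrArg (fun v => y * v * y⁻¹) e
      simp only [h.conj_conj] at e'
      rw [show y * (y⁻¹ * a * y) * y⁻¹ = a by group] at e'
      exact e.trans e')
    intro v hv
    by_contra hno
    push Not at hno
    obtain ⟨n1, n2, n3, n4⟩ := hno
    have hsub : ({1, a, y * a * y⁻¹, y⁻¹ * a * y, v} : Set Y) ⊆ (V : Set Y) := by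
      rintro p (rfl | rfl | rfl | rfl | rfl)
      exacts [V.one_mem, haV, hI a haV, hI.back h haV, hv]
    have h5 := Set.ncard_le_ncard hsub
    have hc1 : ∀ g : Y, g * a * g⁻¹ ≠ 1 := fun g e => ha1 (conj_eq_one_iff.1 e)
    have hc2 := hc1 y⁻¹
    rw [inv_inv] at hc2
    rw [show Set.ncard (V : Set Y) = 4 from hV, Set.ncard_insert_of_notMem, Set.ncard_insert_of_notMem,
      Set.ncard_insert_of_notMem, Set.ncard_pair n4.symm] at h5
    · omega
    all_goals simp [ha1.symm, hne.symm, e2.symm, e3, n1.symm, n2.symm, n3.symm, (hc1 y).symm, hc2.symm]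
  have ha2 : a * a = 1 := by
    rcases hall _ (mul_mem haV haV) with e | e | e | e
    · exact e
    · exact absurd (mul_eq_left.1 e) ha1
    · have h1 : Commute (y * a * y⁻¹) a := hab _ (hI a haV) _ haV
      have h2 : orderOf (a * a) = orderOf a := by rw [e]; exact MulEquiv.orderOf_eq (MulAut.conj y) a
      obtain ⟨k, hk⟩ : ∃ k, a ^ 2 ^ k = 1 := by
        obtain ⟨k, hk⟩ := (IsPGroup.of_card (p := 2) (n := 2) (by rw [hV]; norm_num) : IsPGroup 2 V) ⟨a, haV⟩
        exact ⟨k, congrArg Subtype.val hk⟩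
      obtain ⟨j, -, hj⟩ := (Nat.dvd_prime_pow Nat.prime_two).1 (orderOf_dvd_of_pow_eq_one hk)
      rcases j with - | j
      · rw [orderOf_eq_one_iff.1 (show orderOf a = 1 by rw [hj, pow_zero]), one_mul]
      · rw [← pow_two, orderOf_pow_of_dvd (by norm_num) (by rw [hj]; exact dvd_pow_self 2 (by omega)), hj] at h2
        have := Nat.div_lt_self (show 0 < 2 ^ (j + 1) by positivity) (show 1 < 2 by norm_num)
        omega
    · have h2 : orderOf (a * a) = orderOf a := by
        rw [e]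
        simpa using MulEquiv.orderOf_eq (MulAut.conj y⁻¹) a
      obtain ⟨k, hk⟩ : ∃ k, a ^ 2 ^ k = 1 := by
        obtain ⟨k, hk⟩ := (IsPGroup.of_card (p := 2) (n := 2) (by rw [hV]; norm_num) : IsPGroup 2 V) ⟨a, haV⟩
        exact ⟨k, congrArg Subtype.val hk⟩
      obtain ⟨j, -, hj⟩ := (Nat.dvd_prime_pow Nat.prime_two).1 (orderOf_dvd_of_pow_eq_one hk)
      rcases j with - | j
      · rw [orderOf_eq_one_iff.1 (show orderOf a = 1 by rw [hj, pow_zero]), one_mul]
      · rw [← pow_two, orderOf_pow_of_dvd (by norm_num) (by rw [hj]; exact dvd_pow_self 2 (by omega)), hj] at h2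
        have := Nat.div_lt_self (show 0 < 2 ^ (j + 1) by positivity) (show 1 < 2 by norm_num)
        omega
  obtain ⟨f, hf, hfy, hsign⟩ := exists_even_hom h.ord hc
  have hncomm : a * y ≠ y * a := fun e => hne (mul_inv_eq_iff_eq_mul.2 e.symm)
  have key := five_frame (f c) (by rw [← map_mul, hct.sq, map_one])
    (by rw [← hfy, ← map_mul, ← map_mul, ← map_inv, show c * y * c = c * y * c⁻¹ by rw [hct.inv_eq], hct.conj])
    (hsign c) (f a) (by rw [← map_mul, ha2, map_one]) (fun e => ha1 (hf (e.trans (map_one f).symm)))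
    (by rw [← hfy, ← map_inv, ← map_mul, ← map_mul, ← map_mul, ← map_mul, hab _ haV _ (hI a haV)])
    (by rw [← hfy, ← map_mul, ← map_mul]; exact fun e => hncomm (hf e)) (hsign a)
  rw [← hfy] at key
  simp only [← map_inv, ← map_mul, ← map_pow] at key
  have hcn : c ∉ V := fun hm => by
    have := SelfCentThree.card_sixty_inverts h hc hct hVP hI (le_normalizer hm)
    rw [this, card_bot] at hV
    omega
  have fin : ∀ b ∈ V, f ((c * b) ^ 3) = 1 →
      (∀ v ∈ V, v = 1 ∨ v = b ∨ v = y * b * y⁻¹ ∨ v = y⁻¹ * b * y) →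
      ∃ c a, a ∈ V ∧ c * c = 1 ∧ c * y * c⁻¹ = y⁻¹ ∧ orderOf (c * a) = 3 ∧
        ∀ v ∈ V, v = 1 ∨ v = a ∨ v = y * a * y⁻¹ ∨ v = y⁻¹ * a * y := fun b hb e hall' =>
    ⟨c, b, hb, hct.sq, hct.conj, orderOf_eq_prime (hf (e.trans (map_one f).symm)) fun e1 => hcn (by
      rw [eq_inv_of_mul_eq_one_left e1]; exact inv_mem hb), hall'⟩
  rcases key with e | e | e
  · exact fin a haV e hall
  · refine fin _ (hI a haV) e fun v hv => ?_
    rw [h.conj_conj, show y⁻¹ * (y * a * y⁻¹) * y = a by group]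
    rcases hall v hv with e1 | e1 | e1 | e1
    exacts [Or.inl e1, Or.inr (Or.inr (Or.inr e1)), Or.inr (Or.inl e1), Or.inr (Or.inr (Or.inl e1))]
  · refine fin _ (hI.back h haV) e fun v hv => ?_
    rw [show y * (y⁻¹ * a * y) * y⁻¹ = a by group,
      show y⁻¹ * (y⁻¹ * a * y) * y = y * a * y⁻¹ by
        rw [show y⁻¹ * (y⁻¹ * a * y) * y = (y * y)⁻¹ * a * (y * y) by group, h.mul_self, inv_inv]]
    rcases hall v hv with e1 | e1 | e1 | e1
    exacts [Or.inl e1, Or.inr (Or.inr (Or.inl e1)), Or.inr (Or.inr (Or.inr e1)), Or.inr (Or.inl e1)]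

variable {G : Type u} [Group G] [Finite G] {t : G}

/-- The frame inside the centraliser. -/
theorem Hyp.exists_frame (h : Hyp t) {Q : Subgroup G} (g : Fib t Q) (h60 : Q.relIndex (cz t) = 60) :
    ∃ (S : Sylow 2 G) (c a : G), (S : Subgroup G) ≤ cz t ∧
      t ^ 2 ∈ normalizer ((S : Subgroup G) : Set G) ∧ c ∈ cz t ∧ a ∈ (S : Subgroup G) ∧
      c * c ∈ Q ∧ c * t ^ 2 * c⁻¹ * t ^ 2 ∈ Q ∧ (c * a) ^ 3 ∈ Q ∧ c * a ∉ Q ∧
      ∀ s ∈ (S : Subgroup G), s ∈ Q ∨ s * a⁻¹ ∈ Q ∨ s * (t ^ 2 * a * (t ^ 2)⁻¹)⁻¹ ∈ Q ∨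
        s * ((t ^ 2)⁻¹ * a * t ^ 2)⁻¹ ∈ Q := by
  have : Fact (Nat.Prime 2) := ⟨Nat.prime_two⟩
  set N := Q.subgroupOf (cz t) with hN
  haveI : N.Normal := (normal_subgroupOf_iff_le_normalizer g.le).2 g.norm
  set q := QuotientGroup.mk' N with hq
  set X : cz t := ⟨t ^ 2, h.x_mem⟩ with hX
  have hy := h.over_hyp g.norm g.two h.x_mem g.z_mem fun p hp => mem_cz.1 (g.le hp)
  have hc60 : Nat.card (cz t ⧸ N) = 60 := h60
  have hsimp : IsSimpleGroup (cz t ⧸ N) := by
    obtain ⟨K, hKn, hK3, hi⟩ := SelfCentThree.concl hy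
    have hm := K.card_mul_index
    rw [hc60] at hm
    have hcases := SelfCentThree.card_sixty_inv hy hc60 hK3 SelfCentThree.inv_of_normal
    rcases hi with e | e | ⟨e, -, -, hmax⟩
    · rw [e] at hm; omega
    · rw [e] at hm; omega
    · have hK : K = ⊥ := by
        rw [← card_eq_one]
        rcases hcases with e1 | e1
        · exact e1
        · rcases e with e | e <;> rw [e1, e] at hm <;> omega
      subst hK
      have := SelfCentThree.isSimpleGroup_quot (K := (⊥ : Subgroup (cz t ⧸ N)))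
        (by rcases e with e | e <;> rw [e] <;> norm_num) hmax
      exact (QuotientGroup.quotientBot (G := cz t ⧸ N)).isSimpleGroup_congr.1 this
  obtain ⟨V, hV, hI⟩ := SelfCentThree.exists_four_sixty hy hc60
  obtain ⟨c', a', ha', hc2, hcx, hca, hall⟩ := sixty_frame hy hc60 hV hI
  obtain ⟨c, rfl⟩ := QuotientGroup.mk'_surjective N c'
  obtain ⟨a, rfl⟩ := QuotientGroup.mk'_surjective N a'
  set P := (V.comap q).map (cz t).subtype with hP
  have hP2 : IsPGroup 2 P :=
    ((IsPGroup.of_card (n := 2) (by rw [hV]; norm_num) : IsPGroup 2 V).comap_of_ker_isPGroup q (by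
      rw [QuotientGroup.ker_mk']; exact g.two.of_equiv (subgroupOfEquivOfLe g.le).symm)).map _
  have hPc : Nat.card P = Nat.card Q * 4 := by
    rw [hP, card_map_of_injective (cz t).subtype_injective]
    have h3 := (V.comap q).card_mul_index
    rw [index_comap_of_surjective _ (QuotientGroup.mk'_surjective N), N.card_eq_card_quotient_mul_card_subgroup,
      Nat.card_congr (subgroupOfEquivOfLe g.le).toEquiv, ← V.card_mul_index, hV] at h3
    have hpos : 0 < V.index := Nat.pos_of_ne_zero index_ne_zero_of_finite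
    nlinarith
  obtain ⟨S₀, hS₀⟩ := h.exists_sylow_le
  have hS₀c := g.sylow_card S₀ hS₀ (a := 2) (b := 15) (by rw [h60]; norm_num) (by norm_num)
  obtain ⟨S, hS⟩ := hP2.exists_le_sylow
  have hSP : P = (S : Subgroup G) := eq_of_le_of_card_ge hS (by
    rw [S.card_eq_multiplicity, ← S₀.card_eq_multiplicity, hS₀c, hPc]; norm_num)
  have hmem : ∀ v : cz t, (v : G) ∈ P ↔ q v ∈ V := fun v => by
    rw [hP, ← Subgroup.coe_subtype, mem_map_iff_mem (cz t).subtype_injective, mem_comap]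
  have hquot : ∀ v : cz t, q v = 1 → (v : G) ∈ Q := fun v e => mem_subgroupOf.1 ((QuotientGroup.eq_one_iff v).1 e)
  refine ⟨S, c, a, hSP ▸ map_subtype_le _, ?_, c.2, hSP ▸ (hmem a).2 ha', ?_, ?_, ?_, fun hm => ?_, ?_⟩
  · rw [← hSP]
    have : Fintype P := Fintype.ofFinite _
    refine mem_normalizer_fintype (S := (P : Set G)) fun p hp => ?_
    obtain ⟨v, hv, rfl⟩ := hp
    exact (hmem (X * v * X⁻¹)).2 (by rw [map_mul, map_mul, map_inv]; exact hI _ hv)
  · exact hquot (c * c) (by rw [map_mul, hc2])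
  · exact hquot (c * X * c⁻¹ * X) (by rw [map_mul, map_mul, map_mul, map_inv, hcx, inv_mul_cancel])
  · exact hquot ((c * a) ^ 3) (by rw [map_pow, map_mul, ← hca, pow_orderOf_eq_one])
  · rw [show q c * q a = 1 by
      rw [← map_mul]; exact (QuotientGroup.eq_one_iff _).2 (mem_subgroupOf.2 hm), orderOf_one] at hca
    omega
  · intro s hs
    rw [← hSP] at hs
    obtain ⟨v, hv, rfl⟩ := hs
    rcases hall _ hv with e | e | e | e
    · exact Or.inl (hquot v e)
    · exact Or.inr (Or.inl (hquot (v * a⁻¹) (by rw [map_mul, map_inv, e, mul_inv_cancel])))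
    · exact Or.inr (Or.inr (Or.inl (hquot (v * (X * a * X⁻¹)⁻¹) (by
        rw [map_mul, map_inv, map_mul, map_mul, map_inv, e, mul_inv_cancel]))))
    · exact Or.inr (Or.inr (Or.inr (hquot (v * (X⁻¹ * a * X)⁻¹) (by
        rw [map_mul, map_inv, map_mul, map_mul, map_inv, e, mul_inv_cancel]))))

end Cfsg.Lib.SelfCentSix
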