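import Cfsg.Agent.SelfCentSix.Basic
import Cfsg.Agent.Coprime.FrobeniusFixed

/-!
Overgroups of a two-subgroup: the quotient inherits a self-centralising element of order three, and the
fixed point formula bounds the two-subgroup.
-/

set_option autoImplicit false
set_option linter.unusedSectionVars false
set_option linter.style.haveILetI false

namespace Cfsg.Lib.SelfCentSix

open Subgroup
open scoped Pointwise

universe u

variable {G : Type u} [Group G] [Finite G] {t : G}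

/-- A two-subgroup of the centraliser that is normalised by it and contains the involution. -/
structure Fib (t : G) (Q : Subgroup G) : Prop where
  two : IsPGroup 2 Q
  le : Q ≤ cz t
  norm : cz t ≤ normalizer (Q : Set G)
  z_mem : t ^ 3 ∈ Q

/-- The centraliser has characteristic two with a small top. -/
structure Good (t : G) (Q : Subgroup G) : Prop extends Fib t Q where
  self : centralizer (Q : Set G) ≤ Q
  idx : Q.relIndex (cz t) = 3 ∨ Q.relIndex (cz t) = 6 ∨ Q.relIndex (cz t) = 60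

theorem not_three_dvd {P : Subgroup G} (hP : IsPGroup 2 P) : ¬ 3 ∣ Nat.card P := fun hd => by
  have : Fact (Nat.Prime 2) := ⟨Nat.prime_two⟩
  obtain ⟨n, hn⟩ := hP.exists_card_eq
  rw [hn] at hd
  exact absurd (Nat.prime_three.dvd_of_dvd_pow hd) (by norm_num)

theorem conj_mem {P : Subgroup G} {g : G} (hg : g ∈ normalizer (P : Set G)) {p : G} (hp : p ∈ P) :
    g * p * g⁻¹ ∈ P := ((mem_normalizer_iff.1 hg) p).1 hp

theorem odd_relIndex (S : Sylow 2 G) {M : Subgroup G} (hM : (S : Subgroup G) ≤ M) :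
    ¬ 2 ∣ (S : Subgroup G).relIndex M := fun hd => by
  have : Fact (Nat.Prime 2) := ⟨Nat.prime_two⟩
  exact S.not_dvd_index (hd.trans (relIndex_dvd_index_of_le hM))

/-- A normal two-subgroup lies in every Sylow two-subgroup. -/
theorem le_sylow (S : Sylow 2 G) {P : Subgroup G} (hP : IsPGroup 2 P)
    (hn : (S : Subgroup G) ≤ normalizer (P : Set G)) : P ≤ (S : Subgroup G) := by
  have := S.3 (hP.to_sup_of_normal_left' S.2 hn) le_sup_right
  exact fun p hp => this ▸ mem_sup_left hp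

namespace Hyp

variable (h : Hyp t)
include h

/-- The fixed points of `t ^ 2` on a two-group centralised by the involution. -/
theorem fixed_two {P : Subgroup G} (hP : IsPGroup 2 P) (hzc : ∀ p ∈ P, Commute p (t ^ 3)) {p : G}
    (hp : p ∈ P) (hc : Commute p (t ^ 2)) : p ∈ zpowers (t ^ 3) := by
  obtain ⟨k, hk⟩ := hP ⟨p, hp⟩
  exact h.mem_zpowers_z.2 (h.t_two (h.mem_t (hzc p hp) hc) (n := k) (congrArg Subtype.val hk))

theorem card_mod {P : Subgroup G} (hP : IsPGroup 2 P) (hzc : ∀ p ∈ P, Commute p (t ^ 3)) (hz : t ^ 3 ∈ P)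
    (hn : ∀ p ∈ P, t ^ 2 * p * (t ^ 2)⁻¹ ∈ P) : Nat.card P % 3 = 2 := by
  have h1 := fixed_modEq h.x_ord hn
  have e : P ⊓ centralizer ({t ^ 2} : Set G) = zpowers (t ^ 3) := le_antisymm
    (fun p hp => h.fixed_two hP hzc hp.1 (mem_centralizer_singleton_iff.1 hp.2))
    (zpowers_le.2 ⟨hz, mem_centralizer_singleton_iff.2 (Commute.pow_pow_self t 3 2)⟩)
  rw [e, h.card_z] at h1
  exact h1

theorem Fib.mem_comm {Q : Subgroup G} (g : Fib t Q) {q : G} (hq : q ∈ Q) : Commute q (t ^ 3) :=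
  mem_cz.1 (g.le hq)

theorem fib_mod {Q : Subgroup G} (g : Fib t Q) : Nat.card Q % 3 = 2 :=
  h.card_mod g.two (fun _ hp => mem_cz.1 (g.le hp)) g.z_mem fun _ hp => conj_mem (g.norm h.x_mem) hp

/-- An element of order three in the coset of `t ^ 2` is conjugate to it. -/
theorem coset_conj {P : Subgroup G} (hP : IsPGroup 2 P) (hn : t ^ 2 ∈ normalizer (P : Set G)) {p : G}
    (hp : p ∈ P) (ho : orderOf (t ^ 2 * p) = 3) : ∃ s ∈ P, s * t ^ 2 * s⁻¹ = t ^ 2 * p := by
  classical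
  have : Fact (Nat.Prime 3) := ⟨Nat.prime_three⟩
  set x := t ^ 2 with hx
  have hxo : orderOf x = 3 := h.x_ord
  have hle : zpowers x ≤ normalizer (P : Set G) := zpowers_le.2 hn
  set L := P ⊔ zpowers x with hL
  have hd : Disjoint P (zpowers x) := by
    rw [disjoint_iff, ← card_eq_one]
    refine Nat.eq_one_of_dvd_coprimes ?_ (card_dvd_of_le inf_le_left) (card_dvd_of_le inf_le_right)
    rw [Nat.card_zpowers, hxo]
    exact ((Nat.prime_three.coprime_iff_not_dvd).2 (not_three_dvd hP)).symm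
  have hcard : Nat.card L = Nat.card P * 3 := by
    rw [hL, show Nat.card ↥(P ⊔ zpowers x) = Set.ncard ((P : Set G) * (zpowers x : Set G)) by
      rw [← coe_mul_of_right_le_normalizer_left _ _ hle]; rfl, ← hxo, ← Nat.card_zpowers, ← Nat.card_prod]
    show _ = Nat.card (P × zpowers x)
    rw [← Nat.card_coe_set_eq]
    exact Nat.card_congr (Equiv.ofBijective (fun a => ⟨a.1 * a.2, ⟨a.1, a.1.2, a.2, a.2.2, rfl⟩⟩)
      ⟨fun a b e => mul_injective_of_disjoint hd (congrArg Subtype.val e), by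
        rintro ⟨_, a, ha, b, hb, rfl⟩; exact ⟨(⟨a, ha⟩, ⟨b, hb⟩), rfl⟩⟩).symm
  have hxL : x ∈ L := mem_sup_right (mem_zpowers x)
  have hxpL : x * p ∈ L := mul_mem hxL (mem_sup_left hp)
  have h3 : (Nat.card L).factorization 3 = 1 := by
    rw [hcard, Nat.factorization_mul Nat.card_pos.ne' (by norm_num), Finsupp.add_apply,
      Nat.factorization_eq_zero_of_not_dvd (not_three_dvd hP), Nat.Prime.factorization_self Nat.prime_three]
  have mk : ∀ a : L, orderOf (a : G) = 3 → ∃ T : Sylow 3 L, (T : Subgroup L) = zpowers a := fun a ha =>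
    ⟨Sylow.ofCard (zpowers a) (by rw [Nat.card_zpowers, ← Subgroup.orderOf_coe, ha, h3, pow_one]), rfl⟩
  obtain ⟨T₁, hT₁⟩ := mk ⟨x, hxL⟩ hxo
  obtain ⟨T₂, hT₂⟩ := mk ⟨x * p, hxpL⟩ ho
  obtain ⟨l, hl⟩ := MulAction.exists_smul_eq L T₁ T₂
  have hmem : (l : G) * x * (l : G)⁻¹ ∈ zpowers (x * p) := by
    have : l * ⟨x, hxL⟩ * l⁻¹ ∈ ((l • T₁ : Sylow 3 L) : Subgroup L) := by
      rw [Sylow.coe_subgroup_smul, hT₁]; exact ⟨_, mem_zpowers _, rfl⟩
    rw [hl, hT₂] at this
    obtain ⟨k, hk⟩ := mem_zpowers_iff.1 this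
    exact mem_zpowers_iff.2 ⟨k, by simpa using congrArg Subtype.val hk⟩
  obtain ⟨s, hs, w, hw, e⟩ := Set.mem_mul.1
    (show (l : G) ∈ (P : Set G) * (zpowers x : Set G) by
      rw [← coe_mul_of_right_le_normalizer_left _ _ hle]; exact l.2)
  have hwx : w * x * w⁻¹ = x := by
    obtain ⟨k, rfl⟩ := mem_zpowers_iff.1 hw
    rw [((Commute.refl x).zpow_left k).eq, mul_inv_cancel_right]
  rw [← e, show s * w * x * (s * w)⁻¹ = s * (w * x * w⁻¹) * s⁻¹ by group, hwx] at hmem
  refine ⟨s, hs, ?_⟩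
  obtain ⟨k, hk⟩ := Submonoid.mem_powers_iff _ _ |>.1 (mem_powers_iff_mem_zpowers.2 hmem)
  rw [← pow_mod_orderOf, ho] at hk
  have hk3 : k % 3 < 3 := Nat.mod_lt _ (by norm_num)
  interval_cases hk' : k % 3
  · rw [pow_zero, eq_comm, conj_eq_one_iff] at hk
    rw [hk, orderOf_one] at hxo
    omega
  · rw [pow_one] at hk; exact hk.symm
  · exfalso
    -- modulo `P` this would make `x` trivial
    have h1 : x⁻¹ * (s * x * s⁻¹) ∈ P := by
      rw [show x⁻¹ * (s * x * s⁻¹) = (x⁻¹ * s * x) * s⁻¹ by group]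
      exact mul_mem (by simpa using conj_mem (inv_mem hn) hs) (inv_mem hs)
    rw [← hk] at h1
    have h2 : x ∈ P := by
      have h3' : x⁻¹ * (x * p) ^ 2 = (p * x) * p := by rw [pow_two]; group
      rw [h3'] at h1
      have h4 : p⁻¹ * (p * x * p) * p⁻¹ ∈ P := mul_mem (mul_mem (inv_mem hp) h1) (inv_mem hp)
      simpa [mul_assoc] using h4
    have h5 := Subgroup.orderOf_dvd_natCard P h2
    rw [hxo] at h5
    exact not_three_dvd hP h5

/-- An element centralising `t ^ 2` modulo a two-group. -/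
theorem mod_centralizer {P : Subgroup G} (hP : IsPGroup 2 P) (hn : t ^ 2 ∈ normalizer (P : Set G))
    (hz : t ^ 3 ∈ P) (hzc : ∀ p ∈ P, Commute p (t ^ 3)) {a : G} (ha : a ∈ normalizer (P : Set G))
    (he : (t ^ 2)⁻¹ * (a * t ^ 2 * a⁻¹) ∈ P) : ∃ s ∈ P, s⁻¹ * a ∈ zpowers t := by
  have ho : orderOf (t ^ 2 * ((t ^ 2)⁻¹ * (a * t ^ 2 * a⁻¹))) = 3 := by
    rw [mul_inv_cancel_left, ← h.x_ord]; exact MulEquiv.orderOf_eq (MulAut.conj a) (t ^ 2)
  obtain ⟨s, hs, e⟩ := h.coset_conj hP hn he ho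
  rw [mul_inv_cancel_left] at e
  refine ⟨s, hs, ?_⟩
  set w := s⁻¹ * a with hw
  have hwx : w * t ^ 2 * w⁻¹ = t ^ 2 := by
    rw [hw, show s⁻¹ * a * t ^ 2 * (s⁻¹ * a)⁻¹ = s⁻¹ * (a * t ^ 2 * a⁻¹) * s by group, ← e]; group
  have hwN : w ∈ normalizer (P : Set G) := mul_mem (inv_mem (le_normalizer hs)) ha
  have hwz : w * t ^ 3 * w⁻¹ = t ^ 3 := by
    have hm := conj_mem hwN hz
    have hc : Commute (w * t ^ 3 * w⁻¹) (t ^ 2) := by
      conv_rhs => rw [← hwx]
      exact (commute_conj h).2 (Commute.pow_pow_self t 3 2)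
    rcases h.mem_zpowers_z.1 (h.fixed_two hP hzc hm hc) with e1 | e1
    · have := h.z_ord
      rw [conj_eq_one_iff.1 e1, orderOf_one] at this
      omega
    · exact e1
  exact h.mem_t (mul_inv_eq_iff_eq_mul.1 hwz) (mul_inv_eq_iff_eq_mul.1 hwx)

/-- The quotient by a two-subgroup inherits the self-centralising element. -/
theorem over_hyp {L P : Subgroup G} (hLn : L ≤ normalizer (P : Set G)) (hP : IsPGroup 2 P)
    (hx : t ^ 2 ∈ L) (hz : t ^ 3 ∈ P) (hzc : ∀ p ∈ P, Commute p (t ^ 3)) [(P.subgroupOf L).Normal] :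
    SelfCentThree.Hyp (QuotientGroup.mk' (P.subgroupOf L) (⟨t ^ 2, hx⟩ : L)) := by
  have : Fact (Nat.Prime 3) := ⟨Nat.prime_three⟩
  refine ⟨orderOf_eq_prime ?_ ?_, fun w hw => ?_⟩
  · rw [← map_pow, show (⟨t ^ 2, hx⟩ : L) ^ 3 = 1 from Subtype.ext (by
      show (t ^ 2) ^ 3 = 1; rw [← h.x_ord, pow_orderOf_eq_one]), map_one]
  · intro e
    have h1 := (QuotientGroup.eq_one_iff _).1 e
    rw [mem_subgroupOf] at h1
    have h2 := Subgroup.orderOf_dvd_natCard _ h1
    rw [h.x_ord] at h2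
    exact not_three_dvd hP h2
  · obtain ⟨a, rfl⟩ := QuotientGroup.mk'_surjective _ w
    have he : (t ^ 2)⁻¹ * ((a : G) * t ^ 2 * (a : G)⁻¹) ∈ P := by
      have : QuotientGroup.mk' (P.subgroupOf L)
          ((⟨t ^ 2, hx⟩ : L)⁻¹ * (a * ⟨t ^ 2, hx⟩ * a⁻¹)) = 1 := by
        rw [map_mul, map_mul, map_mul, map_inv, map_inv, hw.eq]; group
      simpa [mem_subgroupOf] using (QuotientGroup.eq_one_iff _).1 this
    obtain ⟨s, hs, hst⟩ := h.mod_centralizer hP (hLn hx) hz hzc (hLn a.2) he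
    obtain ⟨k, hk⟩ := mem_zpowers_iff.1 hst
    refine mem_zpowers_iff.2 ⟨-k, ?_⟩
    rw [← map_zpow, QuotientGroup.mk'_eq_mk']
    have hsP : ((t ^ 2) ^ (-k))⁻¹ * (a : G) ∈ P := by
      have e1 : (a : G) = s * t ^ k := by rw [hk]; group
      rw [e1, show ((t ^ 2) ^ (-k))⁻¹ * (s * t ^ k) = ((t ^ 2) ^ k * s * ((t ^ 2) ^ k)⁻¹) * ((t ^ 2) ^ k * t ^ k) by
        group]
      refine mul_mem (conj_mem (zpow_mem (hLn hx) k) hs) ?_
      rw [show (t ^ 2) ^ k * t ^ k = (t ^ 3) ^ k by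
        rw [← (Commute.pow_left (Commute.refl t) 2).mul_zpow, ← pow_succ]]
      exact zpow_mem hz k
    refine ⟨⟨_, mul_mem (inv_mem (zpow_mem hx (-k))) a.2⟩, by rw [mem_subgroupOf]; exact hsP, Subtype.ext ?_⟩
    show (t ^ 2) ^ (-k) * (((t ^ 2) ^ (-k))⁻¹ * (a : G)) = a
    rw [mul_inv_cancel_left]

/-- The fixed point formula: a two-group with an odd Frobenius group of operators has order eight. -/
theorem card_eight {L P : Subgroup G} (hPL : P ≤ L) (hLn : L ≤ normalizer (P : Set G)) (hP : IsPGroup 2 P)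
    (hx : t ^ 2 ∈ L) (hz : t ^ 3 ∈ P) (hzc : ∀ p ∈ P, Commute p (t ^ 3)) {m : ℕ}
    (hidx : P.relIndex L = 3 * m) (hm : Odd m)
    (hfix : ¬ 3 ∣ m → ∀ U : Subgroup G, U ≤ L → Nat.card U = m → ∀ p ∈ P, (∀ u ∈ U, Commute p u) → p = 1) :
    Nat.card P = 8 := by
  classical
  have : Fact (Nat.Prime 2) := ⟨Nat.prime_two⟩
  set N := P.subgroupOf L with hN
  haveI : N.Normal := (normal_subgroupOf_iff_le_normalizer hPL).2 hLn
  set q := QuotientGroup.mk' N
  have hy := h.over_hyp hLn hP hx hz hzc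
  have hidx' : N.index = 3 * m := hidx
  have hcY : Nat.card (L ⧸ N) = 3 * m := by rw [← index_eq_card, hidx']
  have hodd : Odd (3 * m) := (by decide : Odd 3).mul hm
  have hno : ¬ ∃ s, SelfCentThree.Inverts s (q ⟨t ^ 2, hx⟩) := by
    rintro ⟨s, hs⟩
    have h1 := orderOf_dvd_natCard s
    rw [hs.orderOf_eq hy, hcY] at h1
    exact (Nat.not_even_iff_odd.2 hodd) (even_iff_two_dvd.2 h1)
  obtain ⟨K, hKn, hK3, hKi⟩ := SelfCentThree.exists_normal_index_three hy hno
  have hKc : Nat.card K = m := by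
    have := K.card_mul_index
    rw [hKi, hcY] at this
    omega
  obtain ⟨n, hn⟩ := hP.exists_card_eq
  have hNc : Nat.card N = 2 ^ n := by rw [Nat.card_congr (subgroupOfEquivOfLe hPL).toEquiv, hn]
  obtain ⟨H, hH⟩ := exists_right_complement'_of_coprime (N := N)
    (by rw [hNc, hidx']; exact Nat.Coprime.pow_left n (Nat.coprime_two_left.2 hodd))
  have hHc : Nat.card H = 3 * m := by
    have := hH.card_mul_card
    rw [← N.card_mul_index, hidx'] at this
    exact Nat.eq_of_mul_eq_mul_left Nat.card_pos this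
  have hinj : Function.Injective (q.comp H.subtype) := by
    rw [injective_iff_map_eq_one]
    intro a ha
    have : (a : L) ∈ N ⊓ H := ⟨(QuotientGroup.eq_one_iff _).1 ha, a.2⟩
    rw [disjoint_iff.1 hH.disjoint, mem_bot] at this
    exact Subtype.ext this
  have hbij := hinj.bijective_of_nat_card_le (by rw [hcY, hHc])
  let e := MulEquiv.ofBijective _ hbij
  set a := e.symm (q ⟨t ^ 2, hx⟩) with ha
  have hqa : q (a : L) = q ⟨t ^ 2, hx⟩ := e.apply_symm_apply _
  have hao : orderOf ((a : L) : G) = 3 := by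
    rw [Subgroup.orderOf_coe, Subgroup.orderOf_coe, ha, MulEquiv.orderOf_eq, hy.ord]
  have hp : (t ^ 2)⁻¹ * ((a : L) : G) ∈ P := by
    have := (QuotientGroup.eq.1 hqa.symm)
    rw [hN, mem_subgroupOf] at this
    simpa using this
  obtain ⟨s, hs, hse⟩ := h.coset_conj hP (hLn hx) hp (by rw [mul_inv_cancel_left]; exact hao)
  rw [mul_inv_cancel_left] at hse
  set E := zpowers (((a : L)) : G) with hE
  set U := ((K.comap (q.comp H.subtype)).map H.subtype).map L.subtype with hU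
  have hUmem : ∀ u, u ∈ U ↔ ∃ b : H, q (b : L) ∈ K ∧ ((b : L) : G) = u := fun u => by
    constructor
    · rintro ⟨-, ⟨b, hb, rfl⟩, rfl⟩; exact ⟨b, hb, rfl⟩
    · rintro ⟨b, hb, rfl⟩; exact ⟨b, ⟨b, hb, rfl⟩, rfl⟩
  have hUc : Nat.card U = m := by
    rw [hU, card_map_of_injective L.subtype_injective, card_map_of_injective H.subtype_injective, ← hKc]
    exact Nat.card_congr
      { toFun := fun b => ⟨e b.1, b.2⟩
        invFun := fun k => ⟨e.symm k.1, by
          show e (e.symm k.1) ∈ K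
          rw [e.apply_symm_apply]; exact k.2⟩
        left_inv := fun b => Subtype.ext (e.symm_apply_apply _)
        right_inv := fun k => Subtype.ext (e.apply_symm_apply _) }
  have hUL : U ≤ L := map_subtype_le _
  have hEL : E ≤ L := zpowers_le.2 (a : L).2
  have hEc : Nat.card E = 3 := by rw [hE, Nat.card_zpowers, hao]
  have hUE : U ⊓ E = ⊥ := by
    rw [← card_eq_one]
    refine Nat.eq_one_of_dvd_coprimes ?_ (card_dvd_of_le inf_le_left) (card_dvd_of_le inf_le_right)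
    rw [hUc, hEc, ← hKc]
    exact ((Nat.prime_three.coprime_iff_not_dvd).2 hK3).symm
  have hEU : E ≤ normalizer (U : Set G) := by
    rw [hE, zpowers_le]
    have : Fintype U := Fintype.ofFinite _
    refine mem_normalizer_fintype (S := (U : Set G)) fun u hu => ?_
    obtain ⟨b, hb, rfl⟩ := (hUmem u).1 hu
    refine (hUmem _).2 ⟨a * b * a⁻¹, ?_, rfl⟩
    rw [Subgroup.coe_mul, Subgroup.coe_mul, Subgroup.coe_inv, map_mul, map_mul, map_inv]
    exact hKn.conj_mem _ hb _
  have hfpf : ∀ v ∈ E, v ≠ 1 → ∀ u ∈ U, v * u = u * v → u = 1 := by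
    intro v hv hv1 u hu hc
    obtain ⟨b, hb, rfl⟩ := (hUmem u).1 hu
    obtain ⟨k, rfl⟩ := Submonoid.mem_powers_iff _ _ |>.1 (mem_powers_iff_mem_zpowers.2 hv)
    have hcop : (k).Coprime 3 := by
      refine ((Nat.prime_three.coprime_iff_not_dvd).2 fun hd => hv1 ?_).symm
      rw [← hao] at hd
      exact orderOf_dvd_iff_pow_eq_one.1 hd
    have hc' : Commute ((a : L) : G) ((b : L) : G) := by
      obtain ⟨j, hj⟩ := exists_pow_eq_self_of_coprime (x := ((a : L) : G)) (n := k) (by rw [hao]; exact hcop)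
      rw [← hj]
      exact (show Commute _ _ from hc).pow_left j
    have h2 : Commute (q ((b : L))) (q ⟨t ^ 2, hx⟩) := by
      rw [← hqa]
      exact ((show Commute ((a : L)) ((b : L)) from Subtype.ext hc'.eq).map q).symm
    have h3 := SelfCentThree.fixed_eq_one hy hK3 hb h2
    rw [show b = 1 from hinj (h3.trans (map_one _).symm)]
    rfl
  have hLL : U ⊔ E ≤ normalizer (P : Set G) := (sup_le hUL hEL).trans hLn
  have hsupc : Nat.card ↥(U ⊔ E) ∣ 3 * m := by
    have hle : U ⊔ E ≤ H.map L.subtype := by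
      refine sup_le ?_ ?_
      · intro u hu; obtain ⟨b, -, rfl⟩ := (hUmem u).1 hu; exact ⟨b, b.2, rfl⟩
      · rw [hE, zpowers_le]; exact ⟨(a : L), a.2, rfl⟩
    have := card_dvd_of_le hle
    rwa [card_map_of_injective L.subtype_injective, hHc] at this
  have := hP.isNilpotent
  have key := FixedDim.frobenius_fixed_solvable U E hUE hEU hfpf (Nat.card P) P le_rfl hLL inferInstance
    (by rw [hn]; exact Nat.Coprime.pow_left n (Nat.coprime_two_left.2 (hodd.of_dvd_nat hsupc)))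
  have h1 : P ⊓ centralizer ((U : Subgroup G) : Set G) = ⊥ := (eq_bot_iff_forall _).2 fun p hp =>
    hfix (hKc ▸ hK3) U hUL hUc p hp.1 fun u hu => (mem_centralizer_iff.1 hp.2 u hu).symm
  have h2 : P ⊓ centralizer ((U ⊔ E : Subgroup G) : Set G) = ⊥ :=
    eq_bot_iff.2 (h1 ▸ inf_le_inf_left _ (centralizer_le (SetLike.coe_subset_coe.2 le_sup_left)))
  have h3 : P ⊓ centralizer (E : Set G) = zpowers (t ^ 3) := by
    refine le_antisymm (fun p hp => ?_) (zpowers_le.2 ⟨hz, mem_centralizer_iff.2 fun v hv => ?_⟩)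
    · have hpa : Commute p ((a : L) : G) := (mem_centralizer_iff.1 hp.2 _ (mem_zpowers _)).symm
      rw [← hse, show p = s * (s⁻¹ * p * s) * s⁻¹ by group] at hpa
      have h4 := h.fixed_two hP hzc (mul_mem (mul_mem (inv_mem hs) hp.1) hs) ((commute_conj h).1 hpa)
      rw [h.mem_zpowers_z] at h4 ⊢
      rcases h4 with e1 | e1
      · left; rw [show p = s * (s⁻¹ * p * s) * s⁻¹ by group, e1]; group
      · right; rw [show p = s * (s⁻¹ * p * s) * s⁻¹ by group, e1, (hzc s hs).eq, mul_inv_cancel_right]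
    · obtain ⟨k, rfl⟩ := mem_zpowers_iff.1 hv
      refine ((Commute.zpow_left ?_ k) : Commute _ (t ^ 3)).eq
      rw [← hse]
      exact ((hzc s hs).mul_left (Commute.pow_pow_self t 2 3)).mul_left (hzc s hs).inv_left
  rw [h2, h3, h1, card_bot, h.card_z, hEc, one_pow, one_mul, mul_one] at key
  simpa using key

end Hyp

end Cfsg.Lib.SelfCentSix
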