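import Cfsg.Agent.SelfCentSix.SdSetup
import Cfsg.Agent.SubdegThree.SdBlock

/-!
The principal block of two on the section of the central involution, for an arbitrary odd kernel.
-/

set_option autoImplicit false
set_option linter.unusedSectionVars false
set_option linter.style.haveILetI false

namespace Cfsg.Lib.SelfCentSix

open Subgroup Cfsg.Lib.GLTwoThree Cfsg.Lib.Order9 Cfsg.Lib.SubdegThree Cfsg.Lib.Chars Cfsg.Lib.Blocks
open scoped ComplexConjugate

universe u

variable {G : Type u} [Group G] [Fintype G]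

namespace SdSetup

variable (D : SdSetup G)

theorem odd_iff (x : D.X) : ¬ 2 ∣ orderOf x ↔ D.π x * (D.π x * D.π x) = 1 := by
  rw [Nat.two_dvd_ne_zero, ← Nat.odd_iff, ← pow_two, ← pow_succ', show 2 + 1 = 3 from rfl]
  constructor
  · intro h
    refine orderOf_dvd_iff_pow_eq_one.1 ?_
    have h1 : orderOf (D.π x) ∣ 2 ^ 3 * 3 := orderOf_dvd_of_pow_eq_one (pow24 _)
    exact ((Nat.coprime_two_right.2 (h.of_dvd_nat (orderOf_map_dvd D.π x))).pow_right 3).dvd_of_dvd_mul_left h1
  · intro h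
    have h1 : (x ^ 3) ^ Nat.card D.π.ker = 1 := D.ker_pow (by rw [map_pow, h])
    exact ((by decide : Odd 3).mul D.odd).of_dvd_nat (orderOf_dvd_of_pow_eq_one (by rw [pow_mul, h1]))

theorem order_z' : orderOf D.z = 2 := orderOf_eq_prime (by rw [pow_two, D.z_sq]) D.z_ne

/-- The centraliser of a lift of an element of order four or eight. -/
theorem cent_lift_le {x : D.X} {k : K48} (hk : Ord4 k ∨ Ord8 k) (hx : D.π x = k) :
    centralizer ({(x : G)} : Set G) ≤ D.X := fun g hg => by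
  have hsec : InSec (D.π x) := by
    rw [hx]; exact (by decide +kernel : ∀ k, Ord4 k ∨ Ord8 k → InSec k) k hk
  exact D.ti hsec hsec (mul_inv_eq_iff_eq_mul.2 (mem_centralizer_singleton_iff.1 hg))

theorem core_mem {x : D.X} (hle : centralizer ({(x : G)} : Set G) ≤ D.X) {y : D.X} (hy : D.π y = 1)
    (hc : (y : G) * x = x * y) :
    (y : G) ∈ (pPrimeCore 2 (centralizer ({(x : G)} : Set G))).map (centralizer ({(x : G)} : Set G)).subtype := by
  let ι : centralizer ({(x : G)} : Set G) →* K48 := D.π.comp (Subgroup.inclusion hle)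
  have hcop : (Nat.card ι.ker).Coprime 2 := by
    refine Nat.coprime_two_right.2 (D.odd.of_dvd_nat ?_)
    exact Subgroup.card_dvd_of_injective
      (((Subgroup.inclusion hle).comp ι.ker.subtype).codRestrict D.π.ker fun a => D.mem_ker.2 a.2)
      fun a b h => Subtype.ext (Subgroup.inclusion_injective hle (congrArg Subtype.val h))
  refine ⟨⟨y, mem_centralizer_singleton_iff.2 hc⟩, Cfsg.Lib.Components.le_pPrimeCore hcop ?_, rfl⟩
  show D.π (Subgroup.inclusion hle ⟨y, _⟩) = 1
  exact hy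

variable {M : Ideal AlgInt} (hM : IsPModular 2 M)
include hM

/-- In the principal block a character is constant on a fibre over the central involution and over elements of
order four and eight. -/
theorem const_good {χ : Cfsg.IrrCharacter G} (hχ : χ ∈ Cfsg.principalBlock M G) {x x' : D.X}
    (hk : D.π x = zk ∨ Ord4 (D.π x) ∨ Ord8 (D.π x)) (he : D.π x' = D.π x) :
    (χ : G → ℂ) x' = (χ : G → ℂ) x := by
  haveI : Fact (Nat.Prime 2) := ⟨Nat.prime_two⟩
  obtain ⟨x0, hx0, h8⟩ := D.exists_lift (k := D.π x)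
    ((by decide +kernel : ∀ k, k = zk ∨ Ord4 k ∨ Ord8 k → k ^ 8 = 1) _ hk)
  have hle : centralizer ({(x0 : G)} : Set G) ≤ D.X := by
    intro g hg
    have hsec : InSec (D.π x0) := by
      rw [hx0]; exact (by decide +kernel : ∀ k, k = zk ∨ Ord4 k ∨ Ord8 k → InSec k) _ hk
    exact D.ti hsec hsec (mul_inv_eq_iff_eq_mul.2 (mem_centralizer_singleton_iff.1 hg))
  suffices key : ∀ a : D.X, D.π a = D.π x → (χ : G → ℂ) a = (χ : G → ℂ) x0 by rw [key x' he, key x rfl]
  intro a ha
  obtain ⟨v, c, -, hc, rfl⟩ := D.fibre_rep hx0 h8 ha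
  obtain ⟨hc1, hcx⟩ := D.mem_fix.1 hc
  simp only [Subgroup.coe_mul, InvMemClass.coe_inv]
  rw [isClassFunction_irr χ _ _]
  exact Cfsg.Lib.ExtOdd.apply_mul_core hM (D.two_power h8) (D.core_mem hle hc1 (congrArg Subtype.val hcx)) hχ

/-- In the principal block the value above a reflection is the value at the involution. -/
theorem refl_val {χ : Cfsg.IrrCharacter G} (hχ : χ ∈ Cfsg.principalBlock M G) {a : D.X}
    (h : Invol (D.π a)) (hz : D.π a ≠ zk) : (χ : G → ℂ) a = (χ : G → ℂ) D.z := by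
  obtain ⟨x0, hx0, h8⟩ := D.exists_lift (k := D.π a)
    ((by decide +kernel : ∀ k, Invol k → k ^ 8 = 1) _ h)
  have h2 : x0 * x0 = 1 := D.ker_eight (by rw [map_mul, hx0, h.1])
    (by rw [← pow_two, ← pow_mul, show 2 * 8 = 8 * 2 from rfl, pow_mul, h8, one_pow])
  obtain ⟨g, hg⟩ := isConj_iff.1 (D.one x0 h2 (by rw [hx0]; exact h.2))
  obtain ⟨v, c, -, hc, hac⟩ := D.fibre_rep hx0 h8 (a := a) rfl
  obtain ⟨hc1, hcx⟩ := D.mem_fix.1 hc
  have hcx' : (c : G) * (x0 : G) = (x0 : G) * c := congrArg Subtype.val hcx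
  have hz0 : (x0 : G) * D.z = D.z * x0 := mem_centralizer_singleton_iff.1 x0.2
  set c' : D.X := ⟨g⁻¹ * c * g, mem_centralizer_singleton_iff.2 (by
    calc g⁻¹ * (c : G) * g * D.z = g⁻¹ * ((c : G) * (g * D.z * g⁻¹)) * g := by group
      _ = g⁻¹ * ((g * D.z * g⁻¹) * c) * g := by rw [hg, hcx']
      _ = D.z * (g⁻¹ * (c : G) * g) := by group)⟩ with hc'
  set z' : D.X := ⟨g⁻¹ * D.z * g, mem_centralizer_singleton_iff.2 (by
    calc g⁻¹ * D.z * g * D.z = g⁻¹ * (D.z * (g * D.z * g⁻¹)) * g := by group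
      _ = g⁻¹ * ((g * D.z * g⁻¹) * D.z) * g := by rw [hg, hz0]
      _ = D.z * (g⁻¹ * D.z * g) := by group)⟩ with hz'
  have hz'2 : z' * z' = 1 := Subtype.ext (by
    show g⁻¹ * D.z * g * (g⁻¹ * D.z * g) = 1
    rw [show g⁻¹ * D.z * g * (g⁻¹ * D.z * g) = g⁻¹ * (D.z * D.z) * g by group, D.z_sq]; group)
  have hz'1 : D.π z' ≠ 1 := fun e => by
    have e1 : g⁻¹ * D.z * g = 1 := congrArg Subtype.val (D.ker_two e hz'2)
    exact D.z_ne (by
      calc D.z = g * (g⁻¹ * D.z * g) * g⁻¹ := by group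
        _ = 1 := by rw [e1]; group)
  have hz'z : D.π z' ≠ zk := fun e => by
    have e1 : g⁻¹ * D.z * g = D.z := congrArg Subtype.val (D.lift_zk e hz'2)
    have e2 : g * D.z * g⁻¹ = D.z := by nth_rewrite 1 [← e1]; group
    exact hz (by rw [← hx0, show x0 = D.zX from Subtype.ext (hg.symm.trans e2), D.π_zX])
  have hc1' : D.π c' = 1 := by
    refine (by decide +kernel : ∀ r j : K48, Invol r → r ≠ zk → j * (j * j) = 1 → j * r = r * j → j = 1)
      (D.π z') _ ⟨by rw [← map_mul, hz'2, map_one], hz'1⟩ hz'z ((D.odd_iff c').1 ?_) ?_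
    · have ho : orderOf c' = orderOf c := by
        rw [← Subgroup.orderOf_coe, ← Subgroup.orderOf_coe c,
          ← MulEquiv.orderOf_eq (MulAut.conj g) ((c' : G))]
        congr 1
        show g * (g⁻¹ * (c : G) * g) * g⁻¹ = c
        group
      rw [ho, D.odd_iff, hc1, one_mul, one_mul]
    · rw [← map_mul, ← map_mul]
      refine congrArg D.π (Subtype.ext ?_)
      show g⁻¹ * (c : G) * g * (g⁻¹ * D.z * g) = g⁻¹ * D.z * g * (g⁻¹ * (c : G) * g)
      have hcz : (c : G) * D.z = D.z * c := mem_centralizer_singleton_iff.1 c.2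
      calc g⁻¹ * (c : G) * g * (g⁻¹ * D.z * g) = g⁻¹ * ((c : G) * D.z) * g := by group
        _ = g⁻¹ * (D.z * c) * g := by rw [hcz]
        _ = _ := by group
  have e : (a : G) = ((v : G) * g) * ((D.zX * c' : D.X) : G) * ((v : G) * g)⁻¹ := by
    show (a : G) = ((v : G) * g) * (D.z * (g⁻¹ * (c : G) * g)) * ((v : G) * g)⁻¹
    rw [hac]
    simp only [Subgroup.coe_mul, InvMemClass.coe_inv]
    rw [← hg]; group
  rw [e, isClassFunction_irr χ _ _]
  exact D.const_good hM hχ (x := D.zX) (x' := D.zX * c') (Or.inl D.π_zX) (by rw [map_mul, hc1', mul_one])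

/-- In the principal block a character is constant on every fibre over a nontrivial two-element. -/
theorem const_fibre {χ : Cfsg.IrrCharacter G} (hχ : χ ∈ Cfsg.principalBlock M G) {x x' : D.X}
    (h8 : D.π x ^ 8 = 1) (h1 : D.π x ≠ 1) (he : D.π x' = D.π x) : (χ : G → ℂ) x' = (χ : G → ℂ) x := by
  rcases (by decide +kernel : ∀ k : K48, k ^ 8 = 1 → k ≠ 1 → k = zk ∨ Ord4 k ∨ Ord8 k ∨ (Invol k ∧ k ≠ zk)) _ h8 h1
    with h | h | h | h
  · exact D.const_good hM hχ (Or.inl h) he
  · exact D.const_good hM hχ (Or.inr (Or.inl h)) he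
  · exact D.const_good hM hχ (Or.inr (Or.inr h)) he
  · rw [D.refl_val hM hχ h.1 h.2, D.refl_val hM hχ (a := x') (he.symm ▸ h.1) (he.symm ▸ h.2)]

open scoped Classical in
theorem sum_ord48 {χ : Cfsg.IrrCharacter G} (hχ : χ ∉ Cfsg.principalBlock M G) [Fintype D.X] {k : K48}
    (hk : Ord4 k ∨ Ord8 k) : ∑ x : D.X, (if D.π x = k then (χ : G → ℂ) x else 0) = 0 := by
  haveI : Fact (Nat.Prime 2) := ⟨Nat.prime_two⟩
  obtain ⟨x0, hx0, h8⟩ := D.exists_lift (k := k) ((by decide +kernel : ∀ k, Ord4 k ∨ Ord8 k → k ^ 8 = 1) _ hk)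
  have hle := D.cent_lift_le hk hx0
  refine D.fibre_sum hx0 h8 (fun x => (χ : G → ℂ) x) (fun v a => isClassFunction_irr χ _ _) ?_
  set H := centralizer ({(x0 : G)} : Set G) with hH
  have h := section_sum hM (D.two_power h8) hχ (mem_blockOf_self hM (Chars.principal H))
  have h' : ∑ w ∈ Finset.univ.filter (fun w : H => ¬ 2 ∣ orderOf w), (χ : G → ℂ) ((x0 : G) * (w : G)) = 0 := by
    rw [← h]
    exact Finset.sum_congr rfl fun w _ => by simp [Chars.principal]
  have hreg : ∀ w : H, ¬ 2 ∣ orderOf w ↔ D.π (Subgroup.inclusion hle w) = 1 := by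
    intro w
    rw [← orderOf_injective (Subgroup.inclusion hle) (Subgroup.inclusion_injective hle) w, D.odd_iff]
    refine ⟨fun h1 => ?_, fun h1 => by rw [h1, one_mul, one_mul]⟩
    refine (by decide +kernel : ∀ k j, Ord4 k ∨ Ord8 k → j * (j * j) = 1 → j * k = k * j → j = 1) k _ hk h1 ?_
    rw [← hx0, ← map_mul, ← map_mul]
    exact congrArg D.π (Subtype.ext (mem_centralizer_singleton_iff.1 w.2))
  rw [← h']
  symm
  refine Finset.sum_bij' (fun w _ => Subgroup.inclusion hle w)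
    (fun c hc => ⟨(c : G), mem_centralizer_singleton_iff.2
      (congrArg Subtype.val (D.mem_fix.1 (Finset.mem_filter.1 hc).2).2)⟩) ?_ ?_ ?_ ?_ ?_
  · intro w hw
    exact Finset.mem_filter.2 ⟨Finset.mem_univ _, D.mem_fix.2 ⟨(hreg w).1 (Finset.mem_filter.1 hw).2,
      Subtype.ext (mem_centralizer_singleton_iff.1 w.2)⟩⟩
  · intro c hc
    refine Finset.mem_filter.2 ⟨Finset.mem_univ _, (hreg _).2 ?_⟩
    exact (D.mem_fix.1 (Finset.mem_filter.1 hc).2).1
  · intro w _; rfl
  · intro c _; rfl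
  · intro w _; rfl

open scoped Classical in
theorem sum_center_six {χ : Cfsg.IrrCharacter G} (hχ : χ ∉ Cfsg.principalBlock M G) [Fintype D.X] :
    ∑ x : D.X, (if D.π x = zk then (χ : G → ℂ) x else 0) = 0 ∧
      ∑ x : D.X, (if Ord6 (D.π x) then (χ : G → ℂ) x else 0) = 0 := by
  haveI : Fact (Nat.Prime 2) := ⟨Nat.prime_two⟩
  have hpow : ∃ k : ℕ, orderOf D.z = 2 ^ k := ⟨1, by rw [D.order_z', pow_one]⟩
  -- an irreducible character of degree three
  have hgen : Cfsg.IsGeneralizedCharacter K48 (fun k => (sig k : ℂ)) := gen_sig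
  have hnorm : Cfsg.classInner (fun k => (sig k : ℂ)) (fun k : K48 => (sig k : ℂ)) = 1 := by
    rw [classInner_def, Nat.card_eq_fintype_card, card48]
    simp only [map_intCast]
    have := congrArg (Int.cast : ℤ → ℂ) sig_norm
    push_cast at this
    rw [this]; norm_num
  have hirr : Cfsg.IsIrrCharacter K48 (fun k => (sig k : ℂ)) := by
    refine (isIrr_or_neg_of_norm_one hgen hnorm).resolve_right fun h => ?_
    obtain ⟨d, hd0, hd⟩ := IsIrrCharacter.apply_one h
    rw [Pi.neg_apply, sig_one] at hd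
    have h3 : ((-3 : ℤ) : ℂ) = ((d : ℤ) : ℂ) := by push_cast; rw [← hd]; norm_num
    have := Int.cast_injective h3
    omega
  let θ : Cfsg.IrrCharacter D.X := ⟨_, IsIrrCharacter.comp_surjective hirr D.π D.surj⟩
  have hθv : ∀ x, (θ : D.X → ℂ) x = (sig (D.π x) : ℂ) := fun _ => rfl
  have hsigreg : ∀ x : D.X, (if 2 ∣ orderOf x then (0 : ℂ) else (θ : D.X → ℂ) x) =
      if D.π x = 1 then (3 : ℂ) else 0 := by
    intro x
    rw [hθv]
    by_cases h1 : D.π x = 1
    · rw [if_pos h1, if_neg ((D.odd_iff x).2 (by rw [h1, one_mul, one_mul])), h1, sig_one]; norm_num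
    · rw [if_neg h1]
      by_cases h2 : 2 ∣ orderOf x
      · rw [if_pos h2]
      · rw [if_neg h2, (regular_iff _ ((D.odd_iff x).1 h2) h1).1, Int.cast_zero]
  have hθ : θ ∈ Cfsg.principalBlock M D.X := by
    rw [mem_principal_iff_sum hM, Finset.sum_congr rfl fun x _ => hsigreg x, Finset.sum_ite,
      Finset.sum_const_zero, add_zero, Finset.sum_const, nsmul_eq_mul]
    refine mul_ne_zero (Nat.cast_ne_zero.2 (Finset.card_pos.2 ⟨1, ?_⟩).ne') (by norm_num)
    exact Finset.mem_filter.2 ⟨Finset.mem_univ _, map_one _⟩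
  have h1 := section_sum hM hpow hχ (mem_blockOf_self hM (Chars.principal D.X))
  have h2 := section_sum hM hpow hχ hθ
  rw [Finset.sum_filter] at h1 h2
  rw [← Equiv.sum_comp (Equiv.mulLeft D.zX)] at h1 h2
  have hzz : ∀ x : D.X, D.z * ((D.zX * x : D.X) : G) = (x : G) := fun x => by
    show D.z * (D.z * (x : G)) = x
    rw [← mul_assoc, D.z_sq, one_mul]
  have hπ : ∀ x : D.X, D.π (D.zX * x) = zk * D.π x := fun x => by rw [map_mul, D.π_zX]
  have hreg : ∀ x : D.X, ¬ 2 ∣ orderOf (D.zX * x) ↔ D.π x = zk ∨ Ord6 (D.π x) := fun x => by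
    rw [D.odd_iff, hπ]
    exact (by decide +kernel : ∀ k, zk * k * (zk * k * (zk * k)) = 1 ↔ k = zk ∨ Ord6 k) _
  have e1 : ∑ x : D.X, (if D.π x = zk then (χ : G → ℂ) x else 0) = 0 := by
    have : ∑ x : D.X, (3 : ℂ) * (if D.π x = zk then (χ : G → ℂ) x else 0) = 0 := by
      refine Eq.trans (Finset.sum_congr rfl fun x _ => ?_) h2
      simp only [Equiv.coe_mulLeft]
      rw [hzz, hθv, hπ]
      by_cases hz : D.π x = zk
      · rw [if_pos hz]
        refine Eq.trans ?_ (if_pos ((hreg x).2 (Or.inl hz))).symm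
        rw [hz, show zk * zk = 1 by decide +kernel, sig_one]
        simp [map_ofNat]; ring
      · rw [if_neg hz, mul_zero]
        by_cases h6 : Ord6 (D.π x)
        · refine Eq.trans ?_ (if_pos ((hreg x).2 (Or.inr h6))).symm
          rw [(by decide +kernel : ∀ k, Ord6 k → sig (zk * k) = 0) _ h6]
          simp
        · exact (if_neg fun hh => ((hreg x).1 hh).elim hz h6).symm
    rw [← Finset.mul_sum] at this
    exact (mul_eq_zero.1 this).resolve_left (by norm_num)
  refine ⟨e1, ?_⟩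
  have : ∑ x : D.X, ((if D.π x = zk then (χ : G → ℂ) x else 0) + if Ord6 (D.π x) then (χ : G → ℂ) x else 0) = 0 := by
    refine Eq.trans (Finset.sum_congr rfl fun x _ => ?_) h1
    simp only [Equiv.coe_mulLeft, Chars.principal, map_one, mul_one]
    rw [hzz]
    by_cases hz : D.π x = zk
    · rw [if_pos hz, if_neg (fun h => h.2 hz), add_zero]
      exact (if_pos ((hreg x).2 (Or.inl hz))).symm
    · rw [if_neg hz, zero_add]
      exact if_congr ((hreg x).trans (or_iff_right hz)).symm rfl rfl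
  rwa [Finset.sum_add_distrib, e1, zero_add] at this

end SdSetup

end Cfsg.Lib.SelfCentSix
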