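import Cfsg.Agent.SubdegThree.SdCore

/-!
An involution whose centraliser is any extension of `GL(2,3)` by a group of odd order: lifts of two-elements,
the section and the pairs of involutions.
-/

set_option autoImplicit false
set_option linter.unusedSectionVars false
set_option linter.style.haveILetI false

namespace Cfsg.Lib.SelfCentSix

open Subgroup Cfsg.Lib.GLTwoThree Cfsg.Lib.Order9 Cfsg.Lib.SubdegThree

universe u

/-- The centraliser as an odd extension of the model, without conditions on the kernel. -/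
structure SdSetup (G : Type u) [Group G] [Finite G] where
  z : G
  z_ne : z ≠ 1
  z_sq : z * z = 1
  π : centralizer ({z} : Set G) →* K48
  surj : Function.Surjective π
  odd : Odd (Nat.card π.ker)
  π_z : π ⟨z, mem_centralizer_singleton_iff.2 rfl⟩ = zk
  one : ∀ x : centralizer ({z} : Set G), x * x = 1 → π x ≠ 1 → IsConj z (x : G)

variable {G : Type u} [Group G] [Finite G]

namespace SdSetup

variable (D : SdSetup G)
include D

/-- The centraliser. -/
abbrev X : Subgroup G := centralizer ({D.z} : Set G)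

/-- The involution inside its centraliser. -/
def zX : D.X := ⟨D.z, mem_centralizer_singleton_iff.2 rfl⟩

theorem π_zX : D.π D.zX = zk := D.π_z

theorem zX_comm (x : D.X) : x * D.zX = D.zX * x := Subtype.ext (mem_centralizer_singleton_iff.1 x.2)

theorem zX_sq : D.zX * D.zX = 1 := Subtype.ext D.z_sq

theorem zX_ne : D.zX ≠ 1 := fun h => D.z_ne (congrArg Subtype.val h)

theorem mem_ker {y : D.X} : y ∈ D.π.ker ↔ D.π y = 1 := MonoidHom.mem_ker

theorem ker_odd {y : D.X} (h : D.π y = 1) : Odd (orderOf y) := by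
  rw [← Subgroup.orderOf_mk y (D.mem_ker.2 h)]
  exact D.odd.of_dvd_nat (orderOf_dvd_natCard _)

theorem ker_two {y : D.X} (h : D.π y = 1) (h2 : y * y = 1) : y = 1 := by
  have hd : orderOf y ∣ 2 := orderOf_dvd_of_pow_eq_one (by rw [pow_two, h2])
  exact orderOf_eq_one_iff.1 (Nat.eq_one_of_dvd_coprimes (Nat.coprime_two_right.2 (D.ker_odd h)) dvd_rfl hd)

theorem ker_eight {y : D.X} (h : D.π y = 1) (h8 : y ^ 8 = 1) : y = 1 :=
  orderOf_eq_one_iff.1 (Nat.eq_one_of_dvd_coprimes ((Nat.coprime_two_right.2 (D.ker_odd h)).pow_right 3)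
    dvd_rfl (orderOf_dvd_of_pow_eq_one h8))

theorem ker_pow {y : D.X} (h : D.π y = 1) : y ^ Nat.card D.π.ker = 1 := by
  have := congrArg Subtype.val (pow_card_eq_one' (x := (⟨y, D.mem_ker.2 h⟩ : D.π.ker)))
  simpa using this

/-- The only involution above the central one. -/
theorem lift_zk {x : D.X} (h : D.π x = zk) (h2 : x * x = 1) : x = D.zX := by
  have hk : D.π (x * D.zX) = 1 := by rw [map_mul, h, D.π_zX]; decide +kernel
  have := D.ker_two hk (by
    rw [show x * D.zX * (x * D.zX) = x * (D.zX * x) * D.zX by group, ← D.zX_comm x, ← mul_assoc, h2, one_mul,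
      D.zX_sq])
  rw [mul_eq_one_iff_eq_inv, inv_eq_of_mul_eq_one_right D.zX_sq] at this
  exact this

theorem invol_of_isConj {x : G} (h : IsConj D.z x) : x * x = 1 ∧ x ≠ 1 := by
  obtain ⟨g, rfl⟩ := isConj_iff.1 h
  exact ⟨by rw [show g * D.z * g⁻¹ * (g * D.z * g⁻¹) = g * (D.z * D.z) * g⁻¹ by group, D.z_sq, mul_one,
    mul_inv_cancel], fun e => D.z_ne (conj_eq_one_iff.1 e)⟩

theorem card_X : Nat.card D.X = 48 * Nat.card D.π.ker := by
  rw [← D.π.ker.card_mul_index, Subgroup.index_ker, MonoidHom.range_eq_top.2 D.surj, card_top,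
    Nat.card_eq_fintype_card (α := K48), card48, mul_comm]

/-- A fibre has as many elements as the kernel. -/
noncomputable def fibreEquiv (k : K48) : D.π.ker ≃ {x : D.X // D.π x = k} where
  toFun y := ⟨(D.surj k).choose * (y : D.X), by rw [map_mul, (D.surj k).choose_spec, D.mem_ker.1 y.2, mul_one]⟩
  invFun x := ⟨(D.surj k).choose⁻¹ * (x : D.X), D.mem_ker.2 (by
    rw [map_mul, map_inv, (D.surj k).choose_spec, x.2, inv_mul_cancel])⟩
  left_inv y := Subtype.ext (inv_mul_cancel_left _ _)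
  right_inv x := Subtype.ext (mul_inv_cancel_left _ _)

theorem card_lift (P : K48 → Prop) [DecidablePred P] :
    Nat.card {x : D.X // P (D.π x)} = Nat.card D.π.ker * (Finset.univ.filter P).card := by
  have e : {x : D.X // P (D.π x)} ≃ {k : K48 // P k} × D.π.ker :=
    (Equiv.sigmaSubtypeFiberEquivSubtype D.π (p := fun x => P (D.π x)) (q := P) fun _ => Iff.rfl).symm.trans
      ((Equiv.sigmaCongrRight fun k : {k : K48 // P k} => (D.fibreEquiv k.1).symm).trans (Equiv.sigmaEquivProd _ _))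
  rw [Nat.card_congr e, Nat.card_prod, Nat.card_eq_fintype_card (α := {k : K48 // P k}), Fintype.card_subtype, mul_comm]

theorem sq_mod : Nat.card D.π.ker * Nat.card D.π.ker % 8 = 1 := by
  have h2 := Nat.odd_iff.1 D.odd
  rw [Nat.mul_mod]
  set o := Nat.card D.π.ker
  rcases (show o % 8 = 1 ∨ o % 8 = 3 ∨ o % 8 = 5 ∨ o % 8 = 7 by omega) with h | h | h | h <;> rw [h]

/-- The two-part of a lift of a two-element. -/
theorem pow_two_part {a : D.X} {k : K48} (hk : k ^ 8 = 1) (ha : D.π a = k) :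
    D.π (a ^ (Nat.card D.π.ker * Nat.card D.π.ker)) = k ∧
      (a ^ (Nat.card D.π.ker * Nat.card D.π.ker)) ^ 8 = 1 := by
  refine ⟨by rw [map_pow, ha, pow_eq_pow_mod _ hk, D.sq_mod, pow_one], ?_⟩
  rw [← pow_mul, show Nat.card D.π.ker * Nat.card D.π.ker * 8 = 8 * Nat.card D.π.ker * Nat.card D.π.ker by ring,
    pow_mul, pow_mul, D.ker_pow (show D.π (a ^ 8) = 1 by rw [map_pow, ha, hk]), one_pow]

/-- A lift killed by eight. -/
theorem exists_lift {k : K48} (hk : k ^ 8 = 1) : ∃ x : D.X, D.π x = k ∧ x ^ 8 = 1 := by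
  obtain ⟨a, rfl⟩ := D.surj k
  exact ⟨_, D.pow_two_part hk rfl⟩

theorem two_power {x : D.X} (h8 : x ^ 8 = 1) : ∃ j, orderOf (x : G) = 2 ^ j := by
  obtain ⟨j, -, hj⟩ := (Nat.dvd_prime_pow Nat.prime_two).1
    (orderOf_dvd_of_pow_eq_one (show (x : G) ^ 2 ^ 3 = 1 by rw [← Subgroup.coe_pow]; exact congrArg Subtype.val h8))
  exact ⟨j, hj⟩

theorem inj_zpowers {x : D.X} (h8 : x ^ 8 = 1) {i : ℤ} (h : D.π (x ^ i) = 1) : x ^ i = 1 :=
  D.ker_eight h (by rw [← zpow_natCast, zpow_comm, zpow_natCast, h8, one_zpow])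

/-- Lifts killed by eight of one element are conjugate under the kernel. -/
theorem lift_conj {k : K48} {x a : D.X} (hx : D.π x = k) (hx8 : x ^ 8 = 1) (ha : D.π a = k) (ha8 : a ^ 8 = 1) :
    ∃ v : D.X, D.π v = 1 ∧ v * x * v⁻¹ = a := by
  haveI : Fact (Nat.Prime 2) := ⟨Nat.prime_two⟩
  set M := (zpowers k).comap D.π with hM
  have hxM : x ∈ M := by rw [hM, mem_comap, hx]; exact mem_zpowers k
  have haM : a ∈ M := by rw [hM, mem_comap, ha]; exact mem_zpowers k
  have hk8 : k ^ 8 = 1 := by rw [← hx, ← map_pow, hx8, map_one]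
  obtain ⟨j, -, hj⟩ := (Nat.dvd_prime_pow Nat.prime_two).1
    (orderOf_dvd_of_pow_eq_one (show k ^ 2 ^ 3 = 1 from hk8))
  have hcM : Nat.card M = Nat.card D.π.ker * 2 ^ j := by
    rw [show Nat.card M = Nat.card {y : D.X // D.π y ∈ zpowers k} from rfl, D.card_lift (· ∈ zpowers k),
      ← hj, ← Nat.card_zpowers k, Nat.card_eq_fintype_card (α := zpowers k), Fintype.card_subtype]
  have hord : ∀ y : D.X, D.π y = k → y ^ 8 = 1 → orderOf y = 2 ^ j := fun y hy hy8 => by
    refine Nat.dvd_antisymm ?_ ?_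
    · rw [← hj]
      refine orderOf_dvd_of_pow_eq_one ?_
      rw [← zpow_natCast]
      refine D.inj_zpowers hy8 ?_
      rw [map_zpow, hy, zpow_natCast, pow_orderOf_eq_one]
    · rw [← hj, ← hy]; exact orderOf_map_dvd D.π y
  have hfac : (Nat.card M).factorization 2 = j := by
    rw [hcM, Nat.factorization_mul Nat.card_pos.ne' (by positivity), Finsupp.add_apply,
      Nat.factorization_eq_zero_of_not_dvd (fun h => absurd h (by
        have := Nat.odd_iff.1 D.odd; omega)), zero_add, Nat.Prime.factorization_pow Nat.prime_two,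
      Finsupp.single_eq_same]
  let mk : ∀ y : D.X, y ∈ M → D.π y = k → y ^ 8 = 1 → Sylow 2 M := fun y hyM hy hy8 =>
    Sylow.ofCard (zpowers (⟨y, hyM⟩ : M)) (by rw [Nat.card_zpowers, Subgroup.orderOf_mk, hord y hy hy8, hfac])
  obtain ⟨⟨g, hgM⟩, hg⟩ := MulAction.exists_smul_eq M (mk x hxM hx hx8) (mk a haM ha ha8)
  have hmem : g * x * g⁻¹ ∈ zpowers a := by
    have h1 : (⟨g, hgM⟩ : M) * ⟨x, hxM⟩ * ⟨g, hgM⟩⁻¹ ∈ ((mk a haM ha ha8 : Sylow 2 M) : Subgroup M) := by
      rw [← hg, Sylow.coe_subgroup_smul]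
      exact ⟨_, mem_zpowers _, rfl⟩
    obtain ⟨i, hi⟩ := mem_zpowers_iff.1 h1
    exact mem_zpowers_iff.2 ⟨i, by simpa using congrArg Subtype.val hi⟩
  obtain ⟨i, hi⟩ := mem_zpowers_iff.1 hmem
  obtain ⟨l, hl⟩ := mem_zpowers_iff.1 (mem_comap.1 hgM)
  have hgk : D.π (g * x * g⁻¹) = k := by
    rw [map_mul, map_mul, map_inv, hx, ← hl, ((Commute.refl k).zpow_left l).eq, mul_inv_cancel_right]
  have hia : a ^ i = a := by
    have h1 : a ^ (i - 1) = 1 := D.inj_zpowers ha8 (by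
      rw [zpow_sub_one, map_mul, hi, hgk, map_inv, ha, mul_inv_cancel])
    rwa [zpow_sub_one, mul_inv_eq_one] at h1
  refine ⟨g * (x ^ l)⁻¹, by rw [map_mul, map_inv, map_zpow, hx, hl, mul_inv_cancel], ?_⟩
  calc g * (x ^ l)⁻¹ * x * (g * (x ^ l)⁻¹)⁻¹ = g * x * g⁻¹ := by group
    _ = a := by rw [← hi, hia]

/-- The fixed points of a lift in the kernel. -/
def fix (x : D.X) : Subgroup D.X := D.π.ker ⊓ centralizer ({x} : Set D.X)

theorem mem_fix {x c : D.X} : c ∈ D.fix x ↔ D.π c = 1 ∧ c * x = x * c := by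
  rw [fix, mem_inf, D.mem_ker, mem_centralizer_singleton_iff]

theorem two_part_mul {k : K48} {x c : D.X} (hx : D.π x = k) (hx8 : x ^ 8 = 1) (hc : c ∈ D.fix x) :
    (x * c) ^ (Nat.card D.π.ker * Nat.card D.π.ker) = x := by
  obtain ⟨hc1, hcx⟩ := D.mem_fix.1 hc
  rw [(show Commute x c from hcx.symm).mul_pow, pow_mul c, D.ker_pow hc1, one_pow, mul_one,
    pow_eq_pow_mod _ hx8, D.sq_mod, pow_one]

/-- Every element of the fibre is a conjugate of the lift times a fixed point. -/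
theorem fibre_rep {k : K48} {x a : D.X} (hx : D.π x = k) (hx8 : x ^ 8 = 1) (ha : D.π a = k) :
    ∃ v c : D.X, D.π v = 1 ∧ c ∈ D.fix x ∧ a = v * (x * c) * v⁻¹ := by
  have hk : k ^ 8 = 1 := by rw [← hx, ← map_pow, hx8, map_one]
  obtain ⟨h1, h2⟩ := D.pow_two_part hk ha
  set b := a ^ (Nat.card D.π.ker * Nat.card D.π.ker) with hb
  obtain ⟨v, hv, hvx⟩ := D.lift_conj hx hx8 h1 h2
  refine ⟨v, x⁻¹ * (v⁻¹ * a * v), hv, D.mem_fix.2 ⟨?_, ?_⟩, by group⟩
  · simp [hv, ha, hx]
  · have hcomm : Commute (v⁻¹ * a * v) x := by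
      have e : x = v⁻¹ * b * v := by rw [← hvx]; group
      rw [e]
      have h3 : Commute a b := (Commute.refl a).pow_right _
      show _ = _
      calc v⁻¹ * a * v * (v⁻¹ * b * v) = v⁻¹ * (a * b) * v := by group
        _ = v⁻¹ * (b * a) * v := by rw [h3.eq]
        _ = _ := by group
    exact (((Commute.refl x).inv_left).mul_left hcomm).eq

open scoped Classical in
/-- The sum over a fibre through its fixed points. -/
theorem fibre_sum [Fintype D.X] {k : K48} {x : D.X} (hx : D.π x = k) (hx8 : x ^ 8 = 1) (F : D.X → ℂ)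
    (hF : ∀ v a, F (v * a * v⁻¹) = F a) (h0 : ∑ c ∈ Finset.univ.filter (fun c => c ∈ D.fix x), F (x * c) = 0) :
    ∑ a : D.X, (if D.π a = k then F a else 0) = 0 := by
  set Cf := Finset.univ.filter (fun c => c ∈ D.fix x) with hCf
  set P := (Finset.univ.filter fun v : D.X => D.π v = 1) ×ˢ Cf with hP
  have hmap : ∀ p ∈ P, p.1 * (x * p.2) * p.1⁻¹ ∈ Finset.univ.filter (fun a => D.π a = k) := fun p hp => by
    rw [hP, Finset.mem_product, hCf, Finset.mem_filter, Finset.mem_filter] at hp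
    refine Finset.mem_filter.2 ⟨Finset.mem_univ _, ?_⟩
    simp [hp.1.2, (D.mem_fix.1 hp.2.2).1, hx]
  have hsum : ∑ p ∈ P, F (p.1 * (x * p.2) * p.1⁻¹) = 0 := by
    rw [hP, Finset.sum_product, Finset.sum_eq_zero fun v _ => ?_]
    rw [Finset.sum_congr rfl fun c _ => hF v (x * c)]
    exact h0
  rw [← Finset.sum_fiberwise_of_maps_to hmap] at hsum
  rw [Finset.sum_congr rfl (g := fun a => (Cf.card : ℂ) * F a) fun a ha => ?_] at hsum
  · rw [← Finset.mul_sum, Finset.sum_filter] at hsum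
    refine (mul_eq_zero.1 hsum).resolve_left (Nat.cast_ne_zero.2 (Finset.card_pos.2 ⟨1, ?_⟩).ne')
    exact Finset.mem_filter.2 ⟨Finset.mem_univ _, one_mem _⟩
  · obtain ⟨v, c, hv, hc, rfl⟩ := D.fibre_rep hx hx8 (Finset.mem_filter.1 ha).2
    rw [Finset.sum_congr rfl (g := fun _ => F (v * (x * c) * v⁻¹)) fun p hp => by rw [(Finset.mem_filter.1 hp).2],
      Finset.sum_const, nsmul_eq_mul]
    congr 2
    refine Finset.card_bij' (fun p _ => v⁻¹ * p.1) (fun u _ => (v * u, u⁻¹ * c * u)) ?_ ?_ ?_ ?_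
    · intro p hp
      simp only [hP, hCf, Finset.mem_filter, Finset.mem_product, Finset.mem_univ, true_and] at hp ⊢
      obtain ⟨⟨hp1, hp2⟩, e⟩ := hp
      refine D.mem_fix.2 ⟨by simp [hv, hp1], ?_⟩
      have h1 := congrArg (fun b => b ^ (Nat.card D.π.ker * Nat.card D.π.ker)) e
      simp only [conj_pow, D.two_part_mul hx hx8 hp2, D.two_part_mul hx hx8 hc] at h1
      calc v⁻¹ * p.1 * x = v⁻¹ * (p.1 * x * p.1⁻¹) * p.1 := by group
        _ = x * (v⁻¹ * p.1) := by rw [h1]; group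
    · intro u hu
      simp only [hP, hCf, Finset.mem_filter, Finset.mem_product, Finset.mem_univ, true_and] at hu ⊢
      obtain ⟨hu1, hu2⟩ := D.mem_fix.1 hu
      refine ⟨⟨by simp [hv, hu1], mul_mem (mul_mem (inv_mem hu) hc) hu⟩, ?_⟩
      calc v * u * (x * (u⁻¹ * c * u)) * (v * u)⁻¹ = v * (u * x * u⁻¹ * c) * v⁻¹ := by group
        _ = v * (x * c) * v⁻¹ := by rw [hu2, mul_inv_cancel_right]
    · intro p hp
      simp only [hP, hCf, Finset.mem_filter, Finset.mem_product, Finset.mem_univ, true_and] at hp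
      obtain ⟨⟨hp1, hp2⟩, e⟩ := hp
      have h1 := congrArg (fun b => b ^ (Nat.card D.π.ker * Nat.card D.π.ker)) e
      simp only [conj_pow, D.two_part_mul hx hx8 hp2, D.two_part_mul hx hx8 hc] at h1
      refine Prod.ext (mul_inv_cancel_left v p.1) ?_
      show (v⁻¹ * p.1)⁻¹ * c * (v⁻¹ * p.1) = p.2
      have e2 : p.1 * p.2 * p.1⁻¹ = v * c * v⁻¹ := by
        calc p.1 * p.2 * p.1⁻¹ = (p.1 * x * p.1⁻¹)⁻¹ * (p.1 * (x * p.2) * p.1⁻¹) := by group
          _ = v * c * v⁻¹ := by rw [h1, e]; group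
      calc (v⁻¹ * p.1)⁻¹ * c * (v⁻¹ * p.1) = p.1⁻¹ * (v * c * v⁻¹) * p.1 := by group
        _ = p.2 := by rw [← e2]; group
    · intro u _; exact inv_mul_cancel_left v u

/-- The section is a trivial intersection set. -/
theorem ti {x x' : D.X} {g : G} (hx : InSec (D.π x)) (hx' : InSec (D.π x'))
    (h : g * (x : G) * g⁻¹ = (x' : G)) : g ∈ D.X := by
  obtain ⟨n, hn⟩ := sec_pow _ hx
  set o := Nat.card D.π.ker with ho
  have h1 : D.π (x ^ (n : ℕ) * D.zX) = 1 := by rw [map_mul, map_pow, hn, D.π_zX]; decide +kernel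
  have h2 := D.ker_pow h1
  rw [Commute.mul_pow (D.zX_comm _ : Commute (x ^ (n : ℕ)) D.zX), ← pow_mul] at h2
  have hzo : D.zX ^ o = D.zX := by
    obtain ⟨m, hm⟩ := D.odd
    rw [← ho] at hm
    rw [hm, pow_succ, pow_mul, pow_two, D.zX_sq, one_pow, one_mul]
  rw [← ho, hzo] at h2
  have hxz : x ^ ((n : ℕ) * o) = D.zX :=
    (eq_inv_of_mul_eq_one_left h2).trans (inv_eq_of_mul_eq_one_right D.zX_sq)
  set v := x' ^ ((n : ℕ) * o) with hv
  have e : g * D.z * g⁻¹ = (v : G) := by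
    rw [hv, Subgroup.coe_pow, ← h, conj_pow, ← Subgroup.coe_pow, hxz]; rfl
  obtain ⟨hv2, hv1⟩ := D.invol_of_isConj (isConj_iff.2 ⟨g, e⟩)
  have hv2' : v * v = 1 := Subtype.ext hv2
  have hπ1 : D.π v ≠ 1 := fun e1 => hv1 (by rw [D.ker_two e1 hv2', OneMemClass.coe_one])
  have hπz : D.π v = zk := by
    rw [hv, map_pow] at hπ1 ⊢
    exact zk_pow_nat hx' hπ1 (by rw [← map_pow, ← map_mul, ← hv, hv2', map_one])
  rw [D.lift_zk hπz hv2'] at e
  exact mem_centralizer_singleton_iff.2 (mul_inv_eq_iff_eq_mul.1 e)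

end SdSetup

end Cfsg.Lib.SelfCentSix
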