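import Cfsg.Agent.SelfCentSix.Split
import Cfsg.Agent.SelfCentSix.QFacts
import Cfsg.Agent.Components.LocalBalance

/-!
The quotient of the centraliser by its large nilpotent normal subgroup.
-/

set_option autoImplicit false
set_option linter.unusedSectionVars false
set_option linter.style.haveILetI false

namespace Cfsg.Lib.SelfCentSix

open Subgroup

universe u

variable {G : Type u} [Group G] [Finite G] {t : G}

namespace Shape

theorem normal {R : Subgroup G} (s : Shape t R) : (R.subgroupOf (cz t)).Normal :=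
  (normal_subgroupOf_iff_le_normalizer s.le).2 s.norm

end Shape

namespace Hyp

variable (h : Hyp t) {R : Subgroup G} (s : Shape t R)
include h s

/-- The element of order three stays self-centralising modulo the nilpotent subgroup. -/
theorem shape_hyp [(R.subgroupOf (cz t)).Normal] :
    SelfCentThree.Hyp (QuotientGroup.mk' (R.subgroupOf (cz t)) (⟨t ^ 2, h.x_mem⟩ : cz t)) := by
  haveI := h.normal_z
  have hle : (zpowers (t ^ 3)).subgroupOf (cz t) ≤ (R.subgroupOf (cz t)).comap (MonoidHom.id (cz t)) := by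
    intro a ha
    exact zpowers_le.2 s.z_mem (mem_subgroupOf.1 ha)
  set f := QuotientGroup.map _ (R.subgroupOf (cz t)) (MonoidHom.id (cz t)) hle with hf
  have hs : Function.Surjective f := fun b => by
    obtain ⟨a, rfl⟩ := QuotientGroup.mk'_surjective _ b
    exact ⟨QuotientGroup.mk' _ a, rfl⟩
  have hP : SelfCentThree.P3 f.ker := by
    intro hd
    have hker : f.ker ≤ (R.subgroupOf (cz t)).map (QuotientGroup.mk' _) := by
      intro b hb
      obtain ⟨a, rfl⟩ := QuotientGroup.mk'_surjective _ b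
      exact ⟨a, (QuotientGroup.eq_one_iff a).1 hb, rfl⟩
    have h1 := hd.trans ((card_dvd_of_le hker).trans (SelfCentThree.card_map_dvd _ _))
    rw [Nat.card_congr (subgroupOfEquivOfLe s.le).toEquiv] at h1
    exact s.p3 h1
  exact SelfCentThree.Hyp.map f h.quot_hyp hs hP

/-- In index three or six a normal subgroup of order prime to three lies in the nilpotent one. -/
theorem normal_le (h36 : R.relIndex (cz t) = 3 ∨ R.relIndex (cz t) = 6) {P : Subgroup G}
    (h3 : ¬ 3 ∣ Nat.card P) (hPC : P ≤ cz t) (hn : cz t ≤ normalizer (P : Set G)) : P ≤ R := by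
  haveI := s.normal
  haveI : (P.subgroupOf (cz t)).Normal := (normal_subgroupOf_iff_le_normalizer hPC).2 hn
  set f := QuotientGroup.mk' (R.subgroupOf (cz t)) with hf
  haveI : ((P.subgroupOf (cz t)).map f).Normal := Normal.map inferInstance f (QuotientGroup.mk'_surjective _)
  have hb := SelfCentThree.card_six_inv (h.shape_hyp s) (h36 : _ ∨ _)
    (R := (P.subgroupOf (cz t)).map f) (fun hd => h3 (by
      rw [← Nat.card_congr (subgroupOfEquivOfLe hPC).toEquiv]
      exact hd.trans (SelfCentThree.card_map_dvd _ _))) SelfCentThree.inv_of_normal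
  intro p hp
  rw [Subgroup.map_eq_bot_iff, hf, QuotientGroup.ker_mk'] at hb
  exact mem_subgroupOf.1 (hb (show (⟨p, hPC hp⟩ : cz t) ∈ P.subgroupOf (cz t) from mem_subgroupOf.2 hp))

theorem fix_x {o : G} (ho : o ∈ R) (hodd : Odd (orderOf o)) (hc : Commute (t ^ 2) o) : o = 1 := by
  have hd : ¬ 3 ∣ orderOf o := fun hd => s.p3 (hd.trans (Subgroup.orderOf_dvd_natCard R ho))
  have h6 : orderOf o ∣ 6 := by
    have := orderOf_dvd_of_mem_zpowers (h.mem_t (mem_cz.1 (s.le ho)) hc.symm)
    rwa [h.ord] at this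
  have hc2 : (orderOf o).Coprime 2 := Nat.coprime_two_right.2 hodd
  have hc3 : (orderOf o).Coprime 3 := ((Nat.prime_three.coprime_iff_not_dvd).2 hd).symm
  exact orderOf_eq_one_iff.1 (Nat.eq_one_of_dvd_coprimes (hc2.mul_right hc3) dvd_rfl h6)

variable {Q O : Subgroup G} (p : Parts t R Q O)
include p

theorem eq_two_part {r : G} (hr : r ∈ R) {k : ℕ} (hk : r ^ 2 ^ k = 1) : r ∈ Q := by
  obtain ⟨q, hq, o, ho, rfl⟩ := p.gen r hr
  have hc := p.comm q hq o ho
  obtain ⟨j, hj⟩ := p.fib.two ⟨q, hq⟩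
  have hj' : q ^ 2 ^ j = 1 := congrArg Subtype.val hj
  rw [hc.mul_pow] at hk
  have h1 : o ^ (2 ^ k * 2 ^ j) = 1 := by
    have := congrArg (· ^ 2 ^ j) hk
    simp only [one_pow, (hc.pow_pow _ _).mul_pow, ← pow_mul] at this
    rwa [mul_comm (2 ^ k) (2 ^ j), pow_mul q, hj', one_pow, one_mul, mul_comm (2 ^ j)] at this
  have h2 : orderOf o = 1 := by
    have hd : orderOf o ∣ 2 ^ (k + j) := orderOf_dvd_of_pow_eq_one (by rw [pow_add]; exact h1)
    exact Nat.eq_one_of_dvd_coprimes ((Nat.coprime_two_right.2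
      (p.odd.of_dvd_nat (Subgroup.orderOf_dvd_natCard O ho))).pow_right _) dvd_rfl hd
  rw [orderOf_eq_one_iff.1 h2, mul_one]
  exact hq

theorem parts_disjoint {r : G} (hq : r ∈ Q) (ho : r ∈ O) : r = 1 := by
  obtain ⟨j, hj⟩ := p.fib.two ⟨r, hq⟩
  exact orderOf_eq_one_iff.1 (Nat.eq_one_of_dvd_coprimes ((Nat.coprime_two_right.2
    (p.odd.of_dvd_nat (Subgroup.orderOf_dvd_natCard O ho))).pow_right j) dvd_rfl
    (orderOf_dvd_of_pow_eq_one (congrArg Subtype.val hj)))

theorem parts_card : Nat.card R = Nat.card Q * Nat.card O := by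
  rw [← Nat.card_prod]
  let f : Q × O → R := fun a => ⟨a.1.1 * a.2.1, mul_mem (p.qle a.1.2) (p.ole a.2.2)⟩
  refine (Nat.card_congr (Equiv.ofBijective f ⟨fun a b e => ?_, fun r => ?_⟩)).symm
  · have e' : (a.1 : G) * a.2 = b.1 * b.2 := congrArg Subtype.val e
    have e2 : (b.1 : G)⁻¹ * a.1 = b.2 * (a.2 : G)⁻¹ := by
      rw [eq_mul_inv_iff_mul_eq, mul_assoc, e', inv_mul_cancel_left]
    have h1 := h.parts_disjoint s p (mul_mem (inv_mem b.1.2) a.1.2) (e2 ▸ mul_mem b.2.2 (inv_mem a.2.2))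
    have h2 : (a.1 : G) = b.1 := (inv_mul_eq_one.1 h1).symm
    exact Prod.ext (Subtype.ext h2) (Subtype.ext (by rw [h2] at e'; exact mul_left_cancel e'))
  · obtain ⟨q, hq, o, ho, e⟩ := p.gen r r.2
    exact ⟨(⟨q, hq⟩, ⟨o, ho⟩), Subtype.ext e.symm⟩

/-- In index three or six the centraliser of the two-part lies in the nilpotent subgroup. -/
theorem cent_two_part (h36 : R.relIndex (cz t) = 3 ∨ R.relIndex (cz t) = 6)
    (hne : ¬ Q ≤ zpowers (t ^ 3)) : cz t ⊓ centralizer (Q : Set G) ≤ R := by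
  refine h.normal_le s h36 (fun hd => ?_) inf_le_left ?_
  · have : Fact (Nat.Prime 3) := ⟨Nat.prime_three⟩
    obtain ⟨⟨a, ha⟩, hao⟩ := exists_prime_orderOf_dvd_card' 3 hd
    rw [Subgroup.orderOf_mk] at hao
    obtain ⟨c, hc, hca⟩ := h.three_conj hao ha.1
    refine hne fun q hq => ?_
    have hq' : c * q * c⁻¹ ∈ Q := conj_mem (p.fib.norm hc) hq
    have hcom : Commute a (c * q * c⁻¹) := (mem_centralizer_iff.1 ha.2 _ hq').symm
    have hc' : Commute (c * t ^ 2 * c⁻¹) (c * q * c⁻¹) := by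
      rcases hca with e | e <;> rw [e]
      exacts [hcom, hcom.inv_left]
    refine h.x_mod p.fib hq ?_
    rw [((commute_conj h).1 hc').eq, mul_inv_cancel_right, mul_inv_cancel]; exact one_mem _
  · exact (le_inf le_normalizer (p.fib.norm.trans (Cfsg.Lib.Components.normalizer_le_normalizer_centralizer' Q))).trans
      inf_normalizer_le_normalizer_inf

/-- The odd part is trivial once the two-part is self-centralising modulo the core. -/
theorem good_of_odd_bot (hO : O = ⊥) (hne : ¬ Q ≤ zpowers (t ^ 3))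
    (h36 : R.relIndex (cz t) = 3 ∨ R.relIndex (cz t) = 6) : Good t Q := by
  have hRQ : R = Q := le_antisymm (fun r hr => by
    obtain ⟨q, hq, o, ho, rfl⟩ := p.gen r hr
    rw [hO, mem_bot] at ho
    rw [ho, mul_one]; exact hq) p.qle
  refine ⟨p.fib, fun c hc => ?_, hRQ ▸ h36.imp_right Or.inl⟩
  have hcz : c ∈ cz t := mem_cz.2 (mem_centralizer_iff.1 hc _ p.fib.z_mem).symm
  exact hRQ ▸ h.cent_two_part s p h36 hne ⟨hcz, hc⟩

end Hyp

end Cfsg.Lib.SelfCentSix
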