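import Cfsg.Agent.SelfCentSix.SixCommon

/-!
Index six: the centre of the two-core has one involution.
-/

set_option autoImplicit false
set_option linter.unusedSectionVars false
set_option linter.style.haveILetI false

namespace Cfsg.Lib.SelfCentSix

open Subgroup
open scoped Pointwise commutatorElement

universe u

variable {G : Type u} [Group G] [Finite G] {t : G}

/-- A subgroup of exponent two. -/
def El (A : Subgroup G) : Prop := ∀ a ∈ A, a * a = 1

theorem El.comm {A : Subgroup G} (hA : El A) {a b : G} (ha : a ∈ A) (hb : b ∈ A) : Commute a b := by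
  have h1 := hA _ (mul_mem ha hb)
  have h2 := inv_eq_of_mul_eq_one_right h1
  rw [mul_inv_rev, inv_eq_of_mul_eq_one_right (hA b hb), inv_eq_of_mul_eq_one_right (hA a ha)] at h2
  exact h2.symm

theorem El.sup {A B : Subgroup G} (hA : El A) (hB : El B) (hc : ∀ a ∈ A, ∀ b ∈ B, Commute a b) : El (A ⊔ B) := by
  let U : Subgroup G :=
    { carrier := {v | ∃ a ∈ A, ∃ b ∈ B, v = a * b}
      one_mem' := ⟨1, A.one_mem, 1, B.one_mem, (one_mul 1).symm⟩
      mul_mem' := by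
        rintro _ _ ⟨a, ha, b, hb, rfl⟩ ⟨a', ha', b', hb', rfl⟩
        exact ⟨a * a', mul_mem ha ha', b * b', mul_mem hb hb', (hc a' ha' b hb).symm.mul_mul_mul_comm _ _⟩
      inv_mem' := by
        rintro _ ⟨a, ha, b, hb, rfl⟩
        exact ⟨a⁻¹, inv_mem ha, b⁻¹, inv_mem hb, by
          rw [mul_inv_rev]; exact (hc _ (inv_mem ha) _ (inv_mem hb)).eq.symm⟩ }
  have hle : A ⊔ B ≤ U := sup_le (fun a ha => ⟨a, ha, 1, B.one_mem, (mul_one a).symm⟩)
    fun b hb => ⟨1, A.one_mem, b, hb, (one_mul b).symm⟩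
  intro v hv
  obtain ⟨a, ha, b, hb, rfl⟩ := hle hv
  rw [(hc a ha b hb).symm.mul_mul_mul_comm, hA a ha, hB b hb, one_mul]

theorem El.isPGroup {A : Subgroup G} (hA : El A) : IsPGroup 2 A :=
  fun a => ⟨1, Subtype.ext (by rw [pow_one, pow_two]; exact hA a a.2)⟩

namespace Hyp

variable (h : Hyp t) {Q : Subgroup G}
include h

/-- In index six the centre of `Q` has one involution. -/
theorem six_center (g : Good t Q) (h6 : Q.relIndex (cz t) = 6) {w : G} (hwQ : w ∈ Q)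
    (hwc : ∀ r ∈ Q, Commute w r) (hw2 : w * w = 1) : w ∈ zpowers (t ^ 3) := by
  classical
  by_contra hwz
  have : Fact (Nat.Prime 2) := ⟨Nat.prime_two⟩
  set z := t ^ 3 with hz
  set x := t ^ 2 with hx
  obtain ⟨S, hS⟩ := h.exists_sylow_le
  have hQS := g.toFib.le_sylow S hS
  have hSc := h.six_sylow g.toFib h6 S hS
  have hSi := h.six_index g.toFib h6 S hS
  let ZQ : Subgroup G :=
    { carrier := {v | v ∈ Q ∧ ∀ r ∈ Q, Commute v r}
      one_mem' := ⟨Q.one_mem, fun r _ => Commute.one_left r⟩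
      mul_mem' := fun {a b} ha hb => ⟨mul_mem ha.1 hb.1, fun r hr => (ha.2 r hr).mul_left (hb.2 r hr)⟩
      inv_mem' := fun {a} ha => ⟨inv_mem ha.1, fun r hr => (ha.2 r hr).inv_left⟩ }
  let E : Subgroup G :=
    { carrier := {v | v ∈ ZQ ∧ v * v = 1}
      one_mem' := ⟨ZQ.one_mem, one_mul 1⟩
      mul_mem' := fun {a b} ha hb => ⟨mul_mem ha.1 hb.1, by
        rw [(ha.1.2 b hb.1.1).symm.mul_mul_mul_comm, ha.2, hb.2, one_mul]⟩
      inv_mem' := fun {a} ha => ⟨inv_mem ha.1, by rw [← mul_inv_rev, ha.2, inv_one]⟩ }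
  have hEel : El E := fun v hv => hv.2
  have hZc : ∀ c ∈ cz t, ∀ v ∈ ZQ, c * v * c⁻¹ ∈ ZQ := fun c hc v hv => ⟨conj_mem (g.norm hc) hv.1, fun r hr => by
    have := conj_mem (inv_mem (g.norm hc)) hr
    rw [inv_inv] at this
    rw [show r = c * (c⁻¹ * r * c) * c⁻¹ by group]
    exact (commute_conj h).2 (hv.2 _ this)⟩
  have hEc : ∀ c ∈ cz t, ∀ v ∈ E, c * v * c⁻¹ ∈ E := fun c hc v hv => ⟨hZc c hc v hv.1, by
    rw [show c * v * c⁻¹ * (c * v * c⁻¹) = c * (v * v) * c⁻¹ by group, hv.2]; group⟩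
  have hzE : z ∈ E := ⟨⟨g.z_mem, fun r hr => (mem_cz.1 (g.le hr)).symm⟩, h.zz g.toFib⟩
  have hwE : w ∈ E := ⟨⟨hwQ, hwc⟩, hw2⟩
  have hEQ : E ≤ Q := fun v hv => hv.1.1
  have hE8 : 8 ≤ Nat.card E := by
    have hm : Nat.card E % 3 = 2 := h.card_mod hEel.isPGroup (fun p hp => mem_cz.1 (g.le (hEQ hp))) hzE
      fun p hp => hEc x h.x_mem p hp
    obtain ⟨n, hn⟩ := hEel.isPGroup.exists_card_eq
    have h3 : 2 < Nat.card E := by
      have hsub : ({1, z, w} : Set G) ⊆ (E : Set G) := by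
        rintro v (rfl | rfl | rfl)
        exacts [E.one_mem, hzE, hwE]
      have := Set.ncard_le_ncard hsub
      rw [Set.ncard_insert_of_notMem, Set.ncard_pair] at this
      · exact this
      · exact fun e1 => hwz (e1 ▸ mem_zpowers _)
      · simp only [Set.mem_insert_iff, Set.mem_singleton_iff, not_or]
        exact ⟨(h.z_ne_one g.toFib).symm, fun e1 => hwz (e1 ▸ one_mem _)⟩
    rw [hn] at hm h3 ⊢
    rcases n with - | - | - | n
    · norm_num at h3
    · norm_num at h3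
    · norm_num at hm
    · exact Nat.pow_le_pow_right (by norm_num : 0 < 2) (by omega : 3 ≤ n + 1 + 1 + 1)
  -- the fixed points
  let Ω : Subgroup G :=
    { carrier := {v | v ∈ E ∧ ∀ s ∈ (S : Subgroup G), Commute v s}
      one_mem' := ⟨E.one_mem, fun s _ => Commute.one_left s⟩
      mul_mem' := fun {a b} ha hb => ⟨mul_mem ha.1 hb.1, fun s hs => (ha.2 s hs).mul_left (hb.2 s hs)⟩
      inv_mem' := fun {a} ha => ⟨inv_mem ha.1, fun s hs => (ha.2 s hs).inv_left⟩ }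
  have hΩE : Ω ≤ E := fun v hv => hv.1
  have hΩof : ∀ a ∈ (S : Subgroup G), a ∉ Q → ∀ v ∈ E, Commute v a → v ∈ Ω := by
    intro a ha haQ v hv hva
    refine ⟨hv, fun s hs => ?_⟩
    by_cases hsQ : s ∈ Q
    · exact hv.1.2 s hsQ
    · have hm : s * a ∈ Q := mem_subgroupOf.1 ((mul_mem_iff_of_index_two hSi (a := (⟨s, hs⟩ : (S : Subgroup G)))
        (b := ⟨a, ha⟩)).2 (by simp [mem_subgroupOf, hsQ, haQ]))
      have := (hv.1.2 _ hm).mul_right hva.inv_right
      rwa [mul_inv_cancel_right] at this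
  have hΩsylow : ∀ v, orderOf v = 2 → v ∈ centralizer ((S : Subgroup G) : Set G) → v ∈ Ω := by
    intro v hv hvc
    have hcm : ∀ s ∈ (S : Subgroup G), Commute v s := fun s hs => (mem_centralizer_iff.1 hvc s hs).symm
    have hvQ : v ∈ Q := g.self (mem_centralizer_iff.2 fun r hr => (hcm r (hQS hr)).eq.symm)
    exact ⟨⟨⟨hvQ, fun r hr => hcm r (hQS hr)⟩, by rw [← pow_two, ← hv, pow_orderOf_eq_one]⟩, hcm⟩
  obtain ⟨τ₀, hτ₀, hτ₀Q⟩ : ∃ s ∈ (S : Subgroup G), s ∉ Q := by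
    by_contra hno
    push Not at hno
    have := Nat.card_le_card_of_injective _ (inclusion_injective (show (S : Subgroup G) ≤ Q from hno))
    have : 0 < Nat.card Q := Nat.card_pos
    omega
  obtain ⟨u, huΩ, hu1, huz⟩ : ∃ u ∈ Ω, u ≠ 1 ∧ u ≠ z := by
    by_contra hno
    push Not at hno
    have hτ2 : ∀ v ∈ E, τ₀ * (τ₀ * v * τ₀⁻¹) * τ₀⁻¹ = v := by
      intro v hv
      have hm : τ₀ * τ₀ ∈ Q :=
        mem_subgroupOf.1 (Subgroup.mul_self_mem_of_index_two hSi (⟨τ₀, hτ₀⟩ : (S : Subgroup G)))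
      calc τ₀ * (τ₀ * v * τ₀⁻¹) * τ₀⁻¹ = τ₀ * τ₀ * v * (τ₀ * τ₀)⁻¹ := by group
        _ = v := by rw [(hv.1.2 _ hm).symm.eq, mul_inv_cancel_right]
    let ψ : E →* E := MonoidHom.mk' (fun v => ⟨(v : G) * (τ₀ * v * τ₀⁻¹),
        E.mul_mem v.2 (hEc τ₀ (hS hτ₀) _ v.2)⟩) fun a b => Subtype.ext (by
      show (a : G) * b * (τ₀ * (a * b) * τ₀⁻¹) = (a : G) * (τ₀ * a * τ₀⁻¹) * ((b : G) * (τ₀ * b * τ₀⁻¹))
      rw [show τ₀ * ((a : G) * b) * τ₀⁻¹ = (τ₀ * a * τ₀⁻¹) * (τ₀ * b * τ₀⁻¹) by group,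
        (hEel.comm b.2 (hEc τ₀ (hS hτ₀) _ a.2)).mul_mul_mul_comm])
    have hk : ∀ v : E, v ∈ ψ.ker → (v : G) ∈ zpowers z := by
      intro v hv
      have h1 : (v : G) * (τ₀ * v * τ₀⁻¹) = 1 := congrArg Subtype.val (MonoidHom.mem_ker.1 hv)
      have h2 : Commute (v : G) τ₀ := by
        refine (mul_inv_eq_iff_eq_mul.1 ?_).symm
        rw [← inv_eq_of_mul_eq_one_right h1, inv_eq_of_mul_eq_one_right v.2.2]
      by_cases hv1 : (v : G) = 1
      · rw [hv1]; exact one_mem _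
      · rw [hno _ (hΩof τ₀ hτ₀ hτ₀Q _ v.2 h2) hv1]; exact mem_zpowers _
    have hr : ψ.range ≤ ψ.ker := by
      rintro _ ⟨v, rfl⟩
      rw [MonoidHom.mem_ker]
      refine Subtype.ext ?_
      show (v : G) * (τ₀ * v * τ₀⁻¹) * (τ₀ * ((v : G) * (τ₀ * v * τ₀⁻¹)) * τ₀⁻¹) = 1
      rw [show τ₀ * ((v : G) * (τ₀ * v * τ₀⁻¹)) * τ₀⁻¹ = (τ₀ * v * τ₀⁻¹) * (τ₀ * (τ₀ * v * τ₀⁻¹) * τ₀⁻¹) by group,
        hτ2 _ v.2, mul_assoc, ← mul_assoc (τ₀ * v * τ₀⁻¹), (hEc τ₀ (hS hτ₀) _ v.2).2, one_mul, v.2.2]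
    have hkc : Nat.card ψ.ker ≤ 2 := by
      rw [← h.card_z]
      refine Nat.card_le_card_of_injective (fun v => ⟨(v.1 : G), hk v.1 v.2⟩) fun a b e => ?_
      exact Subtype.ext (Subtype.ext (congrArg Subtype.val e :))
    have hrc := Nat.card_le_card_of_injective _ (inclusion_injective hr)
    have h1 := ψ.ker.card_mul_index
    rw [index_ker] at h1
    have := Nat.mul_le_mul hkc (hrc.trans hkc)
    omega
  have huc : u ∈ centralizer ((S : Subgroup G) : Set G) := mem_centralizer_iff.2 fun s hs => (huΩ.2 s hs).eq.symm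
  obtain ⟨n, hn, hne⟩ := h.burnside S (a := z) (b := u)
    (mem_centralizer_iff.2 fun s hs => (mem_cz.1 (hS hs)).eq) huc h.z_ord
    (orderOf_eq_prime (by rw [pow_two, huΩ.1.2]) hu1)
  -- an element of prime order
  set N := normalizer ((S : Subgroup G) : Set G)
  have hNC := h.six_norm g.toFib h6 S hS
  have hSN : (S : Subgroup G) ≤ N := le_normalizer
  have hrel : (S : Subgroup G).relIndex N ≠ 1 := fun e1 => by
    have hnS := relIndex_eq_one.1 e1 hn
    refine huz ?_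
    rw [← hne, (mem_cz.1 (hS hnS)).eq, mul_inv_cancel_right]
  obtain ⟨p, hp, hpd⟩ := Nat.exists_prime_and_dvd hrel
  have : Fact p.Prime := ⟨hp⟩
  have hp2 : p ≠ 2 := fun e1 => odd_relIndex S hSN (e1 ▸ hpd)
  obtain ⟨⟨y, hyN⟩, hyo⟩ := exists_prime_orderOf_dvd_card' (G := N) p (hpd.trans (relIndex_dvd_card _ _))
  rw [Subgroup.orderOf_mk] at hyo
  have hyS : y ∉ (S : Subgroup G) := fun hy => by
    obtain ⟨k, hk⟩ := S.2.exists_card_eq
    have := Subgroup.orderOf_dvd_natCard (S : Subgroup G) hy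
    rw [hyo, hk] at this
    exact hp2 ((Nat.prime_dvd_prime_iff_eq hp Nat.prime_two).1 (hp.dvd_of_dvd_pow this))
  have hSn : ∀ s ∈ (S : Subgroup G), y * s * y⁻¹ ∈ (S : Subgroup G) := fun s hs => conj_mem hyN hs
  have hcent3 : ∀ v : G, orderOf v = 2 → Commute v y → p = 3 := by
    intro v hv hvy
    obtain ⟨d, hd⟩ := h.exists_conj_z hv
    have hyC : d⁻¹ * y * d ∈ cz t := by
      rw [mem_cz, ← commute_conj h (g := d), hd, show d * (d⁻¹ * y * d) * d⁻¹ = y by group]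
      exact hvy.symm
    have h1 := Subgroup.orderOf_dvd_natCard _ hyC
    have h2 : orderOf (d⁻¹ * y * d) = p := by
      rw [← hyo, ← MulEquiv.orderOf_eq (MulAut.conj d⁻¹) y]
      simp [mul_assoc]
    rw [h2, g.toFib.card_cz, h6, card_eq_pow g.two] at h1
    rcases hp.dvd_mul.1 h1 with h3 | h3
    · exact absurd ((Nat.prime_dvd_prime_iff_eq hp Nat.prime_two).1 (hp.dvd_of_dvd_pow h3)) hp2
    · rcases (hp.dvd_mul (m := 2) (n := 3)).1 h3 with h4 | h4
      · exact absurd ((Nat.prime_dvd_prime_iff_eq hp Nat.prime_two).1 h4) hp2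
      · exact (Nat.prime_dvd_prime_iff_eq hp Nat.prime_three).1 h4
  have hmod1 : Nat.card (S : Subgroup G) % 3 = 1 := by
    have := h.fib_mod g.toFib
    omega
  have hfpf : ∀ s ∈ (S : Subgroup G), Commute s y → s = 1 := by
    intro s hs hsy
    by_contra hs1
    obtain ⟨k, hk⟩ := S.2 ⟨s, hs⟩
    obtain ⟨j, -, hj⟩ := (Nat.dvd_prime_pow Nat.prime_two).1
      (orderOf_dvd_of_pow_eq_one (show s ^ 2 ^ k = 1 from congrArg Subtype.val hk))
    rcases j with - | j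
    · exact hs1 (orderOf_eq_one_iff.1 (by rw [hj, pow_zero]))
    have hi : orderOf (s ^ 2 ^ j) = 2 := by
      rw [orderOf_pow_of_dvd (by positivity) (by rw [hj]; exact pow_dvd_pow 2 (by omega)), hj,
        Nat.pow_div (by omega) (by norm_num), show j + 1 - j = 1 by omega, pow_one]
    have h3 := hcent3 _ hi (hsy.pow_left _)
    exact hs1 (h.fpf_three (h3 ▸ hyo) S.2 hSn hmod1 hs hsy)
  have hyQ : y ∉ normalizer (Q : Set G) := by
    intro hy
    have hiff : ∀ s ∈ (S : Subgroup G), (s ∈ Q ↔ (y * s * y⁻¹)⁻¹ ∈ Q) := fun s _ => by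
      rw [inv_mem_iff]; exact mem_normalizer_iff.1 hy s
    have hmap : ∀ s : (S : Subgroup G), (s : G) * (y * s * y⁻¹)⁻¹ ∈ Q := fun s => by
      have hm := (mul_mem_iff_of_index_two hSi (a := s)
        (b := ⟨(y * s * y⁻¹)⁻¹, inv_mem (hSn s s.2)⟩)).2 (by simpa [mem_subgroupOf] using hiff s s.2)
      exact mem_subgroupOf.1 hm
    have := Nat.card_le_card_of_injective (fun s : (S : Subgroup G) => (⟨_, hmap s⟩ : Q)) fun a b e => by
      have e' : (a : G) * (y * a * y⁻¹)⁻¹ = (b : G) * (y * b * y⁻¹)⁻¹ := congrArg Subtype.val e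
      refine Subtype.ext (inv_mul_eq_one.1 (hfpf _ (mul_mem (inv_mem b.2) a.2) ?_)).symm
      show (b : G)⁻¹ * a * y = y * ((b : G)⁻¹ * a)
      calc (b : G)⁻¹ * a * y = (b : G)⁻¹ * ((a : G) * (y * a * y⁻¹)⁻¹) * (y * a) := by group
        _ = (b : G)⁻¹ * ((b : G) * (y * b * y⁻¹)⁻¹) * (y * a) := by rw [e']
        _ = y * ((b : G)⁻¹ * a) := by group
    have : 0 < Nat.card Q := Nat.card_pos
    omega
  -- maximal subgroups of exponent two
  obtain ⟨⟨A₀, hA₀S, hA₀⟩, hmax⟩ : ∃ A : {A : Subgroup G // A ≤ (S : Subgroup G) ∧ El A},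
      ∀ B : {A : Subgroup G // A ≤ (S : Subgroup G) ∧ El A}, Nat.card B.1 ≤ Nat.card A.1 := by
    have : Nonempty {A : Subgroup G // A ≤ (S : Subgroup G) ∧ El A} := ⟨⟨E, hEQ.trans hQS, hEel⟩⟩
    exact Finite.exists_max _
  let Max : Subgroup G → Prop := fun A => A ≤ (S : Subgroup G) ∧ El A ∧ Nat.card A = Nat.card A₀
  have hle : ∀ A : Subgroup G, A ≤ (S : Subgroup G) → El A → Nat.card A ≤ Nat.card A₀ :=
    fun A h1 h2 => hmax ⟨A, h1, h2⟩
  by_cases hall : ∀ A, Max A → A ≤ Q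
  · set J := closure {a | ∃ A, Max A ∧ a ∈ A} with hJ
    have hEA : ∀ A, Max A → E ≤ A := by
      intro A hA
      have h1 : El (A ⊔ E) := hA.2.1.sup hEel fun a ha v hv => (hv.1.2 a (hall A hA ha)).symm
      have h2 := hle _ (sup_le hA.1 (hEQ.trans hQS)) h1
      rw [← hA.2.2] at h2
      exact le_sup_right.trans (eq_of_le_of_card_ge le_sup_left h2).ge
    have hA₀M : Max A₀ := ⟨hA₀S, hA₀, rfl⟩
    have hEJ : E ≤ J := fun v hv => subset_closure ⟨A₀, hA₀M, hEA A₀ hA₀M hv⟩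
    have hJS : J ≤ (S : Subgroup G) := by
      rw [hJ, closure_le]
      rintro a ⟨A, hA, ha⟩
      exact hA.1 ha
    set M := normalizer (J : Set G) with hM
    have hstab : ∀ d : G, (∀ A, Max A → ∀ a ∈ A, d * a * d⁻¹ ∈ (S : Subgroup G)) → d ∈ M := by
      intro d hd
      have hcl : J ≤ J.comap (MulAut.conj d).toMonoidHom := by
        rw [hJ, closure_le]
        rintro a ⟨A, hA, ha⟩
        refine subset_closure (⟨A.map (MulAut.conj d).toMonoidHom, ⟨?_, ?_, ?_⟩, ⟨a, ha, rfl⟩⟩ :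
          ∃ B, Max B ∧ d * a * d⁻¹ ∈ B)
        · rintro - ⟨b, hb, rfl⟩; exact hd A hA b hb
        · rintro - ⟨b, hb, rfl⟩
          show (MulAut.conj d) b * (MulAut.conj d) b = 1
          rw [← map_mul, hA.2.1 b hb, map_one]
        · rw [card_map_of_injective (MulAut.conj d).injective, hA.2.2]
      exact mem_normalizer_fintype (S := (J : Set G)) fun v hv => hcl hv
    have hCM : cz t ≤ M := fun c hc => hstab c fun A hA a ha => hQS (conj_mem (g.norm hc) (hall A hA ha))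
    have hyM : y ∈ M := hstab y fun A hA a ha => hSn a (hA.1 ha)
    have hJR : J ≤ Cfsg.pCoreOf 2 M := JComp.le_pCoreOf (S.2.to_le hJS) le_normalizer le_rfl
    rcases h.overgroup_core g (Or.inr h6) hCM hwQ hwz (hJR (hEJ hzE))
      (fun c hc => hJR (hEJ (hEc c hc w hwE))) with e | ⟨-, -, -, hbad⟩
    · exact hyQ (by rw [← e]; exact (le_normalizer.trans (JComp.normalizer_le_pCoreOf 2 M)) hyM)
    · exact hyS (hbad S hS ⟨hyM, hyN⟩)
  push Not at hall
  obtain ⟨A, hA, hAQ⟩ := hall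
  obtain ⟨τ, hτA, hτQ⟩ := SetLike.not_le_iff_exists.1 hAQ
  have hτS := hA.1 hτA
  have hτ1 : τ * τ = 1 := hA.2.1 τ hτA
  set H := A ⊓ Q with hH
  have hA2 : Nat.card A ≤ 2 * Nat.card H := by
    have h1 : H.relIndex A ≤ 2 := by
      rw [hH, inf_relIndex_left]
      exact (relIndex_le_of_le_right hA.1 (by rw [relIndex, hSi]; norm_num)).trans_eq hSi
    have h2 : Nat.card A = Nat.card H * H.relIndex A := by
      rw [← relIndex_bot_left, ← relIndex_mul_relIndex ⊥ H A bot_le inf_le_left, relIndex_bot_left]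
    rw [h2, mul_comm 2]
    exact Nat.mul_le_mul_left _ h1
  have hHE : H.relIndex E ≤ 2 := by
    have hel : El (H ⊔ E) := (show El H from fun a ha => hA.2.1 a ha.1).sup hEel
      fun a ha v hv => (hv.1.2 a ha.2).symm
    have h1 := hle _ (sup_le (inf_le_right.trans hQS) (hEQ.trans hQS)) hel
    rw [← hA.2.2] at h1
    have h1' : Nat.card ↥(H ⊔ E) ≤ Nat.card A := h1
    have h2 : Nat.card ↥(H ⊔ E) = Nat.card H * H.relIndex (H ⊔ E) := by
      rw [← relIndex_bot_left, ← relIndex_mul_relIndex ⊥ H (H ⊔ E) bot_le le_sup_left, relIndex_bot_left]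
    have h3 : H.relIndex E ≤ H.relIndex (H ⊔ E) := relIndex_le_of_le_right le_sup_right
      (by rw [relIndex]; exact index_ne_zero_of_finite)
    have h4 : Nat.card H * H.relIndex (H ⊔ E) ≤ Nat.card H * 2 := by omega
    exact h3.trans (Nat.le_of_mul_le_mul_left h4 Nat.card_pos)
  have hΩidx : Ω.relIndex E ≤ 2 := by
    have hsub : H ⊓ E ≤ Ω := fun v hv =>
      hΩof τ hτS hτQ v hv.2 (hA.2.1.comm hv.1.1 hτA)
    refine le_trans ?_ hHE
    rw [← inf_relIndex_right H E]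
    exact Nat.le_of_dvd (Nat.pos_of_ne_zero (by rw [relIndex]; exact index_ne_zero_of_finite))
      (relIndex_dvd_of_le_left E hsub)
  -- the conjugate fixed points
  set Ω' := Ω.map (MulAut.conj x).toMonoidHom with hΩ'
  have hΩ'E : Ω' ≤ E := by
    rintro - ⟨v, hv, rfl⟩
    exact hEc x h.x_mem v hv.1
  have hmeet : Ω ⊓ Ω' ≤ zpowers z := by
    rintro v ⟨hv, ⟨v', hv', e⟩⟩
    have hvx : Commute v (x * τ * x⁻¹) := by
      rw [← e]
      exact (commute_conj h (g := x)).2 (hv'.2 τ hτS)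
    have hx' := h.six_gen g.toFib h6 S hS hτS hτQ (L := centralizer ({v} : Set G))
      (fun r hr => mem_centralizer_singleton_iff.2 (hv.1.1.2 r hr).symm.eq)
      (mem_centralizer_singleton_iff.2 (hv.2 τ hτS).symm.eq) (mem_centralizer_singleton_iff.2 hvx.symm.eq)
    exact h.fixed_two g.two (fun q hq => mem_cz.1 (g.le hq)) (hEQ hv.1)
      (mem_centralizer_singleton_iff.1 hx').symm
  have hΩ'idx : Ω'.relIndex E ≤ 2 := by
    have h1 : Nat.card E = Nat.card Ω * Ω.relIndex E := by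
      rw [← relIndex_bot_left, ← relIndex_mul_relIndex ⊥ Ω E bot_le hΩE, relIndex_bot_left]
    have h2 : Nat.card E = Nat.card Ω' * Ω'.relIndex E := by
      rw [← relIndex_bot_left, ← relIndex_mul_relIndex ⊥ Ω' E bot_le hΩ'E, relIndex_bot_left]
    rw [hΩ', card_map_of_injective (MulAut.conj x).injective, ← hΩ'] at h2
    exact (Nat.eq_of_mul_eq_mul_left Nat.card_pos (h2.symm.trans h1)).trans_le hΩidx
  have hE : Nat.card E = 8 := by
    have h1 : Nat.card E = Nat.card ↥(Ω ⊓ Ω') * (Ω ⊓ Ω').relIndex E := by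
      rw [← relIndex_bot_left, ← relIndex_mul_relIndex ⊥ (Ω ⊓ Ω') E bot_le (inf_le_left.trans hΩE),
        relIndex_bot_left]
    have h2 := Nat.card_le_card_of_injective _ (inclusion_injective hmeet)
    rw [h.card_z] at h2
    have h3 := relIndex_inf_le (H := Ω) (K := Ω') (L := E)
    have h4 := Nat.mul_le_mul hΩidx hΩ'idx
    have h5 := Nat.mul_le_mul h2 (h3.trans h4)
    omega
  have hΩ4 : Nat.card Ω = 4 := by
    have h1 : Nat.card E = Nat.card Ω * Ω.relIndex E := by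
      rw [← relIndex_bot_left, ← relIndex_mul_relIndex ⊥ Ω E bot_le hΩE, relIndex_bot_left]
    have hpos : Ω.relIndex E ≠ 0 := by rw [relIndex]; exact index_ne_zero_of_finite
    rcases (by omega : Ω.relIndex E = 1 ∨ Ω.relIndex E = 2) with e | e
    · exfalso
      have hEΩ : Ω = E := le_antisymm hΩE (relIndex_eq_one.1 e)
      have hwΩ : x * (x⁻¹ * w * x) * x⁻¹ ∈ Ω' := ⟨x⁻¹ * w * x, by
        rw [SetLike.mem_coe, hEΩ]; simpa using hEc x⁻¹ (inv_mem h.x_mem) w hwE, rfl⟩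
      rw [show x * (x⁻¹ * w * x) * x⁻¹ = w by group] at hwΩ
      exact hwz (hmeet (mem_inf.2 ⟨hEΩ.symm ▸ hwE, hwΩ⟩))
    · rw [e, hE] at h1; omega
  -- the element has order three
  have hΩy : ∀ v ∈ Ω, y * v * y⁻¹ ∈ Ω := by
    intro v hv
    by_cases hv1 : v = 1
    · rw [hv1]; simp [Ω.one_mem]
    refine hΩsylow _ ?_ (mem_centralizer_iff.2 fun s hs => ?_)
    · rw [show orderOf (y * v * y⁻¹) = orderOf v from MulEquiv.orderOf_eq (MulAut.conj y) v]
      exact orderOf_eq_prime (by rw [pow_two, hv.1.2]) hv1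
    · have := conj_mem (inv_mem hyN) hs
      rw [inv_inv] at this
      have h2 := (commute_conj h (g := y)).2 (hv.2 _ this).symm
      rw [show y * (y⁻¹ * s * y) * y⁻¹ = s by group] at h2
      exact h2.eq
  have hp3 : p = 3 := by
    by_contra hp3
    have hpow : ∀ i : ℕ, y ^ i * u * (y ^ i)⁻¹ ∈ Ω := by
      intro i
      induction i with
      | zero => simpa using huΩ
      | succ i ih =>
        rw [pow_succ', show y * y ^ i * u * (y * y ^ i)⁻¹ = y * (y ^ i * u * (y ^ i)⁻¹) * y⁻¹ by group]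
        exact hΩy _ ih
    have key : ∀ i j : ℕ, i < j → j < p → y ^ i * u * (y ^ i)⁻¹ ≠ y ^ j * u * (y ^ j)⁻¹ := by
      intro i j hij hjp e'
      obtain ⟨k, rfl⟩ : ∃ k, j = i + k := ⟨j - i, by omega⟩
      have hc : Commute (y ^ k) u := by
        refine mul_inv_eq_iff_eq_mul.1 ?_
        calc y ^ k * u * (y ^ k)⁻¹
            = (y ^ i)⁻¹ * (y ^ (i + k) * u * (y ^ (i + k))⁻¹) * y ^ i := by rw [pow_add]; group
          _ = (y ^ i)⁻¹ * (y ^ i * u * (y ^ i)⁻¹) * y ^ i := by rw [e']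
          _ = u := by group
      have hcop : Nat.Coprime k p := ((hp.coprime_iff_not_dvd).2 fun hd =>
        absurd (Nat.le_of_dvd (by omega) hd) (by omega)).symm
      obtain ⟨m, hm⟩ := exists_pow_eq_self_of_coprime (x := y) (n := k) (by rw [hyo]; exact hcop)
      have := hc.pow_left m
      rw [hm] at this
      exact hu1 (hfpf u (hQS (hEQ huΩ.1)) this.symm)
    have hinj : Function.Injective (fun i : Fin p => (⟨_, hpow i⟩ : Ω)) := by
      intro i j e
      have e' := congrArg Subtype.val e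
      rcases Nat.lt_trichotomy (i : ℕ) j with hlt | heq | hlt
      exacts [absurd e' (key i j hlt j.2), Fin.ext heq, absurd e'.symm (key j i hlt i.2)]
    have := Nat.card_le_card_of_injective _ hinj
    rw [hΩ4, Nat.card_fin] at this
    have := hp.two_le
    interval_cases p <;> first | omega | norm_num at hp
  subst hp3
  have hcl : ∀ a ∈ (S : Subgroup G), ∀ b ∈ (S : Subgroup G), ∀ c ∈ (S : Subgroup G), Commute ⁅a, b⁆ c :=
    fun a ha b hb c hc => class_two hyo S.2 hSn (fun q hq hqy => hfpf q hq hqy) ha hb hc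
  -- `Q` is abelian
  have hcommQ : ∀ q ∈ Q, ∀ s ∈ (S : Subgroup G), ⁅q, s⁆ ∈ Q := fun q hq s hs => by
    rw [commutatorElement_def, show q * s * q⁻¹ * s⁻¹ = q * (s * q⁻¹ * s⁻¹) by group]
    exact mul_mem hq (conj_mem (g.norm (hS hs)) (inv_mem hq))
  have hZ1 : ∀ q ∈ Q, ∀ s ∈ (S : Subgroup G), ⁅q, s⁆ ∈ ZQ := fun q hq s hs =>
    ⟨hcommQ q hq s hs, fun r hr => hcl q (hQS hq) s hs r (hQS hr)⟩
  let L : Subgroup G :=
    { carrier := {c | c ∈ cz t ∧ ∀ q ∈ Q, ⁅c, q⁆ ∈ ZQ}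
      one_mem' := ⟨one_mem _, fun q _ => by rw [commutatorElement_one_left]; exact ZQ.one_mem⟩
      mul_mem' := fun {a b} ha hb => ⟨mul_mem ha.1 hb.1, fun q hq => by
        rw [show ⁅a * b, q⁆ = a * ⁅b, q⁆ * a⁻¹ * ⁅a, q⁆ by simp only [commutatorElement_def]; group]
        exact ZQ.mul_mem (hZc a ha.1 _ (hb.2 q hq)) (ha.2 q hq)⟩
      inv_mem' := fun {a} ha => ⟨inv_mem ha.1, fun q hq => by
        rw [show ⁅a⁻¹, q⁆ = a⁻¹ * ⁅a, q⁆⁻¹ * a⁻¹⁻¹ by simp only [commutatorElement_def]; group]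
        exact hZc _ (inv_mem ha.1) _ (ZQ.inv_mem (ha.2 q hq))⟩ }
  have hτL : τ ∈ L := ⟨hS hτS, fun q hq => by
    rw [← commutatorElement_inv]; exact ZQ.inv_mem (hZ1 q hq τ hτS)⟩
  have hxL : x ∈ L := h.six_gen g.toFib h6 S hS hτS hτQ
    (fun r hr => ⟨g.le hr, fun q hq => by rw [← commutatorElement_inv]; exact ZQ.inv_mem (hZ1 q hq r (hQS hr))⟩)
    hτL ⟨mul_mem (mul_mem h.x_mem (hS hτS)) (inv_mem h.x_mem), fun q hq => by
      have hq' := conj_mem (inv_mem (g.norm h.x_mem)) hq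
      rw [inv_inv] at hq'
      rw [show ⁅x * τ * x⁻¹, q⁆ = x * ⁅τ, x⁻¹ * q * x⁆ * x⁻¹ by simp only [commutatorElement_def]; group]
      exact hZc x h.x_mem _ (hτL.2 _ hq')⟩
  have hxfix : ∀ q ∈ Q, ∀ {k k' : G}, x * q * x⁻¹ = k → x * k * x⁻¹ = k' → x * k' * x⁻¹ = q := by
    intro q _ k k' e1 e2
    rw [← e2, ← e1, show x * (x * (x * q * x⁻¹) * x⁻¹) * x⁻¹ = (x * x * x) * q * (x * x * x)⁻¹ by group,
      ← pow_three' x, hx, ← h.x_ord, pow_orderOf_eq_one]
    group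
  have hab : ∀ q ∈ Q, q ∈ ZQ := by
    intro q hq
    set k := x * q * x⁻¹ with hk
    set k' := x * k * x⁻¹ with hk'
    have hkq : k * q⁻¹ ∈ ZQ := hxL.2 q hq
    have hk'k : k' * k⁻¹ ∈ ZQ := hxL.2 k (conj_mem (g.norm h.x_mem) hq)
    have hk'q : k' * q⁻¹ ∈ ZQ := by
      have := ZQ.mul_mem hk'k hkq
      rwa [show k' * k⁻¹ * (k * q⁻¹) = k' * q⁻¹ by group] at this
    have hc1 : Commute q k := by
      have := ((hkq.2 q hq).symm).mul_right (Commute.refl q)
      rwa [inv_mul_cancel_right] at this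
    have hc2 : Commute q k' := by
      have := ((hk'q.2 q hq).symm).mul_right (Commute.refl q)
      rwa [inv_mul_cancel_right] at this
    have hpfix : x * (q * k * k') * x⁻¹ = q * k * k' := by
      rw [show x * (q * k * k') * x⁻¹ = (x * q * x⁻¹) * (x * k * x⁻¹) * (x * k' * x⁻¹) by group, ← hk, ← hk',
        hxfix q hq hk.symm hk'.symm, mul_assoc, ← hc2.eq, ← mul_assoc, ← hc1.eq]
    have hpz := h.fixed_two g.two (fun r hr => mem_cz.1 (g.le hr))
      (mul_mem (mul_mem hq (conj_mem (g.norm h.x_mem) hq))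
        (conj_mem (g.norm h.x_mem) (conj_mem (g.norm h.x_mem) hq))) (mul_inv_eq_iff_eq_mul.1 hpfix).symm
    have hzZ : zpowers z ≤ ZQ := zpowers_le.2 hzE.1
    have h3 : q * q * q ∈ ZQ := by
      have h1 := ZQ.mul_mem (hzZ hpz) (ZQ.inv_mem (ZQ.mul_mem hkq hk'q))
      have h2 : q * k * k' * (k * q⁻¹ * (k' * q⁻¹))⁻¹ = q * q * q := by
        have hcz1 : Commute (k * q⁻¹) q := hkq.2 q hq
        have hcz2 : Commute (k' * q⁻¹) q := hk'q.2 q hq
        have e1 : q * k * k' = (k * q⁻¹ * (k' * q⁻¹)) * (q * q * q) := by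
          calc q * k * k' = q * ((k * q⁻¹) * q) * ((k' * q⁻¹) * q) := by group
            _ = q * (q * (k * q⁻¹)) * (q * (k' * q⁻¹)) := by rw [hcz1.eq, hcz2.eq]
            _ = q * q * ((k * q⁻¹) * q) * (k' * q⁻¹) := by group
            _ = q * q * q * ((k * q⁻¹) * (k' * q⁻¹)) := by rw [hcz1.eq]; group
            _ = _ := (((hcz1.mul_left hcz2).mul_right (hcz1.mul_left hcz2)).mul_right (hcz1.mul_left hcz2)).eq.symm
        rw [e1, show ∀ a b : G, a * b * a⁻¹ = a * b * a⁻¹ from fun a b => rfl,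
          (((hcz1.mul_left hcz2).mul_right (hcz1.mul_left hcz2)).mul_right (hcz1.mul_left hcz2)).eq,
          mul_inv_cancel_right]
      rw [← h2]; exact h1
    obtain ⟨j, hj⟩ := exists_pow_eq_self_of_coprime (x := q) (n := 3) (by
      obtain ⟨i, hi⟩ := g.two ⟨q, hq⟩
      obtain ⟨l, -, hl⟩ := (Nat.dvd_prime_pow Nat.prime_two).1
        (orderOf_dvd_of_pow_eq_one (show q ^ 2 ^ i = 1 from congrArg Subtype.val hi))
      rw [hl]; exact Nat.Coprime.pow_right l (by norm_num))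
    rw [← hj, pow_three']
    exact ZQ.pow_mem h3 j
  -- squares
  have hkey : ∀ q ∈ Q, Commute (q * q) τ := by
    intro q hq
    set k := ⁅q⁻¹, τ⁆ with hk
    have hkc : Commute k τ := hcl _ (hQS (inv_mem hq)) τ hτS τ hτS
    have hti : τ⁻¹ = τ := inv_eq_of_mul_eq_one_right hτ1
    have e1 : τ * q * τ⁻¹ = q * k := by rw [hk, commutatorElement_def]; group
    have hkq : Commute q k := (hcl _ (hQS (inv_mem hq)) τ hτS q (hQS hq)).symm
    have hk2 : k * k = 1 := by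
      have e2 : τ * (q * k) * τ⁻¹ = q := by
        rw [← e1, hti, show τ * (τ * q * τ) * τ = τ * τ * q * (τ * τ) by group, hτ1, one_mul, mul_one]
      rw [show τ * (q * k) * τ⁻¹ = (τ * q * τ⁻¹) * (τ * k * τ⁻¹) by group, e1,
        show τ * k * τ⁻¹ = k by rw [← hkc.eq, mul_inv_cancel_right], mul_assoc] at e2
      exact mul_eq_left.1 e2
    refine (mul_inv_eq_iff_eq_mul.1 ?_).symm
    rw [show τ * (q * q) * τ⁻¹ = (τ * q * τ⁻¹) * (τ * q * τ⁻¹) by group, e1,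
      hkq.symm.mul_mul_mul_comm, hk2, mul_one]
  have hQE : Q = E := by
    refine le_antisymm (fun q hq => ?_) hEQ
    have hsq : ∀ r ∈ Q, r * r ∈ zpowers z := by
      intro r hr
      have hr' := conj_mem (inv_mem (g.norm h.x_mem)) hr
      rw [inv_inv] at hr'
      have h1 := (commute_conj h (g := x)).2 (hkey _ hr')
      rw [show x * (x⁻¹ * r * x * (x⁻¹ * r * x)) * x⁻¹ = r * r by group] at h1
      have hx' := h.six_gen g.toFib h6 S hS hτS hτQ (L := centralizer ({r * r} : Set G))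
        (fun v hv => mem_centralizer_singleton_iff.2 ((hab _ (mul_mem hr hr)).2 v hv).symm.eq)
        (mem_centralizer_singleton_iff.2 (hkey r hr).symm.eq) (mem_centralizer_singleton_iff.2 h1.symm.eq)
      exact h.fixed_two g.two (fun v hv => mem_cz.1 (g.le hv)) (mul_mem hr hr)
        (mem_centralizer_singleton_iff.1 hx').symm
    set k := x * q * x⁻¹ with hk
    set k' := x * k * x⁻¹ with hk'
    have hkQ : k ∈ Q := conj_mem (g.norm h.x_mem) hq
    have hk'Q : k' ∈ Q := conj_mem (g.norm h.x_mem) hkQ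
    have hc : ∀ a ∈ Q, ∀ b ∈ Q, Commute a b := fun a ha b hb => (hab a ha).2 b hb
    have hpfix : x * (q * k * k') * x⁻¹ = q * k * k' := by
      rw [show x * (q * k * k') * x⁻¹ = (x * q * x⁻¹) * (x * k * x⁻¹) * (x * k' * x⁻¹) by group, ← hk, ← hk',
        hxfix q hq hk.symm hk'.symm, mul_assoc, (hc k' hk'Q q hq).eq, ← mul_assoc, (hc k hkQ q hq).eq]
    have hpz := h.fixed_two g.two (fun r hr => mem_cz.1 (g.le hr)) (mul_mem (mul_mem hq hkQ) hk'Q)
      (mul_inv_eq_iff_eq_mul.1 hpfix).symm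
    have hkk : x * (q * q) * x⁻¹ = q * q := by
      obtain ⟨i, hi⟩ := mem_zpowers_iff.1 (hsq q hq)
      rw [← hi, ((Commute.pow_pow_self t 2 3).zpow_right i).eq, mul_inv_cancel_right]
    have hqk : q * k ∈ E := ⟨hab _ (mul_mem hq hkQ), by
      rw [(hc k hkQ q hq).mul_mul_mul_comm, show k * k = x * (q * q) * x⁻¹ by rw [hk]; group, hkk]
      rcases h.mem_zpowers_z.1 (hsq q hq) with e1 | e1 <;> rw [e1]
      exacts [one_mul 1, h.zz g.toFib]⟩
    have hk'E : k' ∈ E := by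
      have := E.mul_mem (E.inv_mem hqk) ((zpowers_le.2 hzE) hpz)
      rwa [show (q * k)⁻¹ * (q * k * k') = k' by group] at this
    rw [← hxfix q hq hk.symm hk'.symm]
    exact hEc x h.x_mem _ hk'E
  -- the derived subgroup
  obtain ⟨q₀, hq₀E, hq₀Ω⟩ := SetLike.not_le_iff_exists.1 (show ¬ E ≤ Ω from fun hle' => by
    have := Nat.card_le_card_of_injective _ (inclusion_injective hle')
    omega)
  set k₀ := ⁅q₀, τ⁆ with hk₀
  have hk₀1 : k₀ ≠ 1 := fun e =>
    hq₀Ω (hΩof τ hτS hτQ q₀ hq₀E (commutatorElement_eq_one_iff_commute.1 e))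
  have hΩ2 : (Ω.subgroupOf E).index = 2 := by
    have h1 := (Ω.subgroupOf E).card_mul_index
    rw [Nat.card_congr (subgroupOfEquivOfLe hΩE).toEquiv, hΩ4, hE] at h1
    omega
  have hqt : ∀ q ∈ Q, ⁅q, τ⁆ ∈ zpowers k₀ := by
    intro q hq
    rw [hQE] at hq
    by_cases hqΩ : q ∈ Ω
    · rw [commutatorElement_eq_one_iff_commute.2 (hqΩ.2 τ hτS)]; exact one_mem _
    · have hm : q * q₀ ∈ Ω := mem_subgroupOf.1 ((mul_mem_iff_of_index_two hΩ2 (a := (⟨q, hq⟩ : E))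
        (b := ⟨q₀, hq₀E⟩)).2 (by simp [mem_subgroupOf, hqΩ, hq₀Ω]))
      have h1 : ⁅q * q₀, τ⁆ = 1 := commutatorElement_eq_one_iff_commute.2 (hm.2 τ hτS)
      have hcq : Commute k₀ q := hcl q₀ (hQS (hEQ hq₀E)) τ hτS q (hQS (hEQ hq))
      rw [show ⁅q * q₀, τ⁆ = q * ⁅q₀, τ⁆ * q⁻¹ * ⁅q, τ⁆ by simp only [commutatorElement_def]; group, ← hk₀,
        ← hcq.eq, mul_inv_cancel_right] at h1
      rw [eq_inv_of_mul_eq_one_right h1]
      exact inv_mem (mem_zpowers _)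
  have hkc : ∀ s ∈ (S : Subgroup G), ∀ v ∈ zpowers k₀, s * v * s⁻¹ = v := by
    intro s hs v hv
    obtain ⟨i, rfl⟩ := mem_zpowers_iff.1 hv
    rw [((hcl q₀ (hQS (hEQ hq₀E)) τ hτS s hs).symm.zpow_right i).eq, mul_inv_cancel_right]
  let K₀ : Subgroup G :=
    { carrier := {s | s ∈ (S : Subgroup G) ∧ ∀ r ∈ (S : Subgroup G), ⁅s, r⁆ ∈ zpowers k₀}
      one_mem' := ⟨one_mem _, fun r _ => by rw [commutatorElement_one_left]; exact one_mem _⟩
      mul_mem' := fun {a b} ha hb => ⟨mul_mem ha.1 hb.1, fun r hr => by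
        rw [show ⁅a * b, r⁆ = a * ⁅b, r⁆ * a⁻¹ * ⁅a, r⁆ by simp only [commutatorElement_def]; group,
          hkc a ha.1 _ (hb.2 r hr)]
        exact mul_mem (hb.2 r hr) (ha.2 r hr)⟩
      inv_mem' := fun {a} ha => ⟨inv_mem ha.1, fun r hr => by
        rw [show ⁅a⁻¹, r⁆ = a⁻¹ * ⁅a, r⁆⁻¹ * a⁻¹⁻¹ by simp only [commutatorElement_def]; group,
          hkc _ (inv_mem ha.1) _ (inv_mem (ha.2 r hr))]
        exact inv_mem (ha.2 r hr)⟩ }
  have hQK : Q ≤ K₀ := fun q hq => ⟨hQS hq, fun r hr => by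
    by_cases hrQ : r ∈ Q
    · rw [commutatorElement_eq_one_iff_commute.2 ((hab q hq).2 r hrQ)]; exact one_mem _
    · have hm : r * τ ∈ Q := mem_subgroupOf.1 ((mul_mem_iff_of_index_two hSi (a := (⟨r, hr⟩ : (S : Subgroup G)))
        (b := ⟨τ, hτS⟩)).2 (by simp [mem_subgroupOf, hrQ, hτQ]))
      rw [show r = (r * τ) * τ by rw [mul_assoc, hτ1, mul_one],
        show ⁅q, r * τ * τ⁆ = ⁅q, r * τ⁆ * ((r * τ) * ⁅q, τ⁆ * (r * τ)⁻¹) by
          simp only [commutatorElement_def]; group,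
        commutatorElement_eq_one_iff_commute.2 ((hab q hq).2 _ hm), one_mul, hkc _ (hQS hm) _ (hqt q hq)]
      exact hqt q hq⟩
  have hτK : τ ∈ K₀ := ⟨hτS, fun r hr => by
    by_cases hrQ : r ∈ Q
    · rw [← commutatorElement_inv]; exact inv_mem (hqt r hrQ)
    · have hm : r * τ ∈ Q := mem_subgroupOf.1 ((mul_mem_iff_of_index_two hSi (a := (⟨r, hr⟩ : (S : Subgroup G)))
        (b := ⟨τ, hτS⟩)).2 (by simp [mem_subgroupOf, hrQ, hτQ]))
      rw [← commutatorElement_inv, show ⁅r, τ⁆ = ⁅r * τ, τ⁆ by simp only [commutatorElement_def]; group]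
      exact inv_mem (hqt _ hm)⟩
  have hallK : ∀ s ∈ (S : Subgroup G), s ∈ K₀ := fun s hs => by
    by_cases hsQ : s ∈ Q
    · exact hQK hsQ
    · have hm : s * τ ∈ Q := mem_subgroupOf.1 ((mul_mem_iff_of_index_two hSi (a := (⟨s, hs⟩ : (S : Subgroup G)))
        (b := ⟨τ, hτS⟩)).2 (by simp [mem_subgroupOf, hsQ, hτQ]))
      have := K₀.mul_mem (hQK hm) hτK
      rwa [mul_assoc, hτ1, mul_one] at this
  have hk₀S : k₀ ∈ (S : Subgroup G) := hQS (hcommQ q₀ (hEQ hq₀E) τ hτS)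
  have hmem := (hallK _ (hSn q₀ (hQS (hEQ hq₀E)))).2 _ (hSn τ hτS)
  rw [show ⁅y * q₀ * y⁻¹, y * τ * y⁻¹⁆ = y * k₀ * y⁻¹ by
    simp only [hk₀, commutatorElement_def]; group] at hmem
  have hk₀2 : k₀ * k₀ = 1 := (show k₀ ∈ E from hQE ▸ hcommQ q₀ (hEQ hq₀E) τ hτS).2
  obtain ⟨i, hi⟩ := mem_zpowers_iff.1 hmem
  rcases Int.even_or_odd' i with ⟨j, rfl | rfl⟩
  · rw [zpow_mul, zpow_two, hk₀2, one_zpow] at hi
    exact hk₀1 (conj_eq_one_iff.1 hi.symm)
  · rw [zpow_add_one, zpow_mul, zpow_two, hk₀2, one_zpow, one_mul] at hi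
    exact hk₀1 (hfpf k₀ hk₀S (mul_inv_eq_iff_eq_mul.1 hi.symm).symm)

end Hyp

end Cfsg.Lib.SelfCentSix
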