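import Cfsg.Agent.SelfCentSix.Overgroup
import Cfsg.Agent.SelfCentSix.QFacts
import Cfsg.Agent.JComp.Basic
import Cfsg.Agent.Classical.Misc.SmallPSL

/-!
Index six: the quotient, the Sylow normaliser in the centraliser, and overgroups through two-cores.
-/

set_option autoImplicit false
set_option linter.unusedSectionVars false
set_option linter.style.haveILetI false

namespace Cfsg.Lib.SelfCentSix

open Subgroup
open scoped Pointwise

universe u

variable {G : Type u} [Group G] [Finite G] {t : G}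

namespace Hyp

variable (h : Hyp t) {Q : Subgroup G}
include h

/-- The overgroup dichotomy for the two-core of an overgroup containing a moved point of `Q`. -/
theorem overgroup_core (g : Good t Q) (h36 : Q.relIndex (cz t) = 3 ∨ Q.relIndex (cz t) = 6) {M : Subgroup G}
    (hCM : cz t ≤ M) {v : G} (hvQ : v ∈ Q) (hvz : v ∉ zpowers (t ^ 3)) (hzR : t ^ 3 ∈ Cfsg.pCoreOf 2 M)
    (hvR : ∀ c ∈ cz t, c * v * c⁻¹ ∈ Cfsg.pCoreOf 2 M) :
    Cfsg.pCoreOf 2 M = Q ∨ (Q.relIndex (cz t) = 6 ∧ Nat.card Q = 32 ∧ Nat.card ↥(Cfsg.pCoreOf 2 M) = 8 ∧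
      ∀ S : Sylow 2 G, (S : Subgroup G) ≤ cz t →
        M ⊓ normalizer ((S : Subgroup G) : Set G) ≤ (S : Subgroup G)) := by
  have : Fact (Nat.Prime 2) := ⟨Nat.prime_two⟩
  have : Fact (Nat.Prime 3) := ⟨Nat.prime_three⟩
  set R := Cfsg.pCoreOf 2 M with hR
  have hRn : M ≤ normalizer (R : Set G) := le_normalizer.trans (JComp.normalizer_le_pCoreOf 2 M)
  set D := M ⊓ centralizer (R : Set G) with hD
  have hDC : D ≤ cz t := fun a ha => mem_cz.2 (mem_centralizer_iff.1 ha.2 _ hzR).symm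
  have hD3 : ¬ 3 ∣ Nat.card D := by
    intro hd
    obtain ⟨⟨a, ha⟩, hao⟩ := exists_prime_orderOf_dvd_card' 3 hd
    rw [Subgroup.orderOf_mk] at hao
    obtain ⟨d, hd', hda⟩ := h.three_conj hao (hDC ha)
    have hcv : Commute a (d * v * d⁻¹) := (mem_centralizer_iff.1 ha.2 _ (hvR d hd')).symm
    have hc : Commute (d * t ^ 2 * d⁻¹) (d * v * d⁻¹) := by
      rcases hda with e1 | e1 <;> rw [e1]
      exacts [hcv, hcv.inv_left]
    refine hvz (h.x_mod g.toFib hvQ ?_)
    rw [((commute_conj h).1 hc).eq, mul_inv_cancel_right, mul_inv_cancel]; exact one_mem _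
  have hD2 : IsPGroup 2 D := by
    obtain ⟨n, hn⟩ := g.two.exists_card_eq
    have hdvd := card_dvd_of_le hDC
    rw [g.toFib.card_cz, hn] at hdvd
    have hdvd' : Nat.card D ∣ 2 ^ (n + 1) * 3 := hdvd.trans (by
      rcases h36 with e | e <;> rw [e]
      · exact mul_dvd_mul_right (pow_dvd_pow 2 (Nat.le_succ n)) 3
      · rw [pow_succ, mul_assoc, show (2 * 3 : ℕ) = 6 from rfl])
    have hdQ := Nat.Coprime.dvd_of_dvd_mul_right ((Nat.prime_three.coprime_iff_not_dvd.2 hD3).symm) hdvd'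
    obtain ⟨j, -, hj⟩ := (Nat.dvd_prime_pow Nat.prime_two).1 hdQ
    exact IsPGroup.of_card (n := j) hj
  have hDn : M ≤ normalizer (D : Set G) := by
    refine JComp.le_normalizer_of_conj fun m hm a ha => mem_inf.2 ⟨M.mul_mem (M.mul_mem hm ha.1) (M.inv_mem hm), ?_⟩
    refine mem_centralizer_iff.2 fun r hr => ?_
    have hr' := JComp.conj_mem (hRn (inv_mem hm)) hr
    rw [inv_inv] at hr'
    have hc : Commute (m⁻¹ * r * m) a := mem_centralizer_iff.1 ha.2 _ hr'
    have := (commute_conj h (g := m)).2 hc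
    rw [show m * (m⁻¹ * r * m) * m⁻¹ = r by group] at this
    exact this.eq
  exact h.overgroup g h36 hCM (JComp.pCoreOf_le M) hRn (JComp.isPGroup_pCoreOf M)
    (JComp.le_pCoreOf hD2 inf_le_left hDn) fun N hN hn hN2 => JComp.le_pCoreOf hN2 hN hn

/-- The quotient of order six. -/
theorem six_quot (g : Fib t Q) (h6 : Q.relIndex (cz t) = 6) :
    Cfsg.pCore 2 (cz t) = Q.subgroupOf (cz t) ∧
      Nonempty (cz t ⧸ Cfsg.pCore 2 (cz t) ≃* Equiv.Perm (Fin 3)) := by
  have : Fact (Nat.Prime 2) := ⟨Nat.prime_two⟩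
  set N := Q.subgroupOf (cz t) with hN
  haveI : N.Normal := (normal_subgroupOf_iff_le_normalizer g.le).2 g.norm
  have hcore : Cfsg.pCore 2 (cz t) = N := by
    refine le_antisymm ?_ (Components.le_pCore (g.two.of_equiv (subgroupOfEquivOfLe g.le).symm))
    have h1 : Cfsg.pCoreOf 2 (cz t) ≤ Q := h.le_Q g (Or.inr h6) (JComp.isPGroup_pCoreOf _) (JComp.pCoreOf_le _)
      (le_normalizer.trans (JComp.normalizer_le_pCoreOf 2 (cz t)))
    intro a ha
    exact mem_subgroupOf.2 (h1 ⟨a, ha, rfl⟩)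
  refine ⟨hcore, ?_⟩
  have hy := h.over_hyp g.norm g.two h.x_mem g.z_mem fun p hp => mem_cz.1 (g.le hp)
  have hc : Nat.card (cz t ⧸ N) = 6 := h6
  obtain ⟨s, hs⟩ := exists_prime_orderOf_dvd_card' (G := cz t ⧸ N) 2 (by rw [hc]; norm_num)
  set H := zpowers s
  have hH : Nat.card H = 2 := by rw [Nat.card_zpowers, hs]
  have hi : Nat.card ((cz t ⧸ N) ⧸ H) = 3 := by
    have := H.card_mul_index
    rw [hH, hc, index_eq_card] at this
    omega
  have hk : (MulAction.toPermHom (cz t ⧸ N) ((cz t ⧸ N) ⧸ H)).ker = ⊥ := by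
    rw [← normalCore_eq_ker]
    refine SelfCentThree.card_six_inv hy (Or.inr hc) ?_ SelfCentThree.inv_of_normal
    intro hd
    have := hd.trans (card_dvd_of_le H.normalCore_le)
    rw [hH] at this
    norm_num at this
  obtain ⟨e⟩ := Classical.SmallPSL.perm_iso hi _ ((MonoidHom.ker_eq_bot_iff _).1 hk) (by rw [hc]; rfl)
  exact ⟨(QuotientGroup.quotientMulEquivOfEq hcore).trans e⟩

/-- In index six the Sylow subgroup is its own normaliser in the centraliser. -/
theorem six_norm (g : Fib t Q) (h6 : Q.relIndex (cz t) = 6) (S : Sylow 2 G) (hS : (S : Subgroup G) ≤ cz t) :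
    normalizer ((S : Subgroup G) : Set G) ⊓ cz t = (S : Subgroup G) := by
  have hQS := g.le_sylow S hS
  set N := normalizer ((S : Subgroup G) : Set G) ⊓ cz t
  have hSN : (S : Subgroup G) ≤ N := le_inf le_normalizer hS
  refine le_antisymm ?_ hSN
  have hsc := g.sylow_card S hS (a := 1) (b := 3) (by rw [h6]; norm_num) (by norm_num)
  have hcC : Nat.card (cz t) = Nat.card (S : Subgroup G) * (S : Subgroup G).relIndex (cz t) := by
    rw [← relIndex_bot_left, ← relIndex_mul_relIndex ⊥ (S : Subgroup G) _ bot_le hS, relIndex_bot_left]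
  rw [g.card_cz, h6, hsc] at hcC
  have hpos : 0 < Nat.card Q := Nat.card_pos
  have h3 : (S : Subgroup G).relIndex (cz t) = 3 := by nlinarith
  have hmul := relIndex_mul_relIndex (S : Subgroup G) N (cz t) hSN inf_le_right
  rw [h3] at hmul
  rcases (Nat.dvd_prime Nat.prime_three).1 (Dvd.intro _ hmul) with e | e
  · exact relIndex_eq_one.1 e
  · exfalso
    rw [e] at hmul
    have hCN : cz t ≤ N := relIndex_eq_one.1 (by omega)
    have hle := h.le_Q g (Or.inr h6) S.2 hS fun c hc => (hCN hc).1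
    have := Nat.card_le_card_of_injective _ (inclusion_injective hle)
    omega

/-- The index six Sylow facts. -/
theorem six_sylow (g : Fib t Q) (h6 : Q.relIndex (cz t) = 6) (S : Sylow 2 G) (hS : (S : Subgroup G) ≤ cz t) :
    Nat.card (S : Subgroup G) = 2 * Nat.card Q := by
  rw [g.sylow_card S hS (a := 1) (b := 3) (by rw [h6]; norm_num) (by norm_num), pow_one, mul_comm]

theorem six_index (g : Fib t Q) (h6 : Q.relIndex (cz t) = 6) (S : Sylow 2 G) (hS : (S : Subgroup G) ≤ cz t) :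
    (Q.subgroupOf (S : Subgroup G)).index = 2 := by
  have h1 := (Q.subgroupOf (S : Subgroup G)).card_mul_index
  rw [Nat.card_congr (subgroupOfEquivOfLe (g.le_sylow S hS)).toEquiv, h.six_sylow g h6 S hS, mul_comm 2] at h1
  exact Nat.eq_of_mul_eq_mul_left Nat.card_pos h1

/-- The centraliser is generated by `Q`, an outer element of a Sylow subgroup and its conjugate. -/
theorem six_gen (g : Fib t Q) (h6 : Q.relIndex (cz t) = 6) (S : Sylow 2 G) (hS : (S : Subgroup G) ≤ cz t)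
    {a : G} (ha : a ∈ (S : Subgroup G)) (haQ : a ∉ Q) {L : Subgroup G} (hQL : Q ≤ L) (haL : a ∈ L)
    (hxa : t ^ 2 * a * (t ^ 2)⁻¹ ∈ L) : t ^ 2 ∈ L := by
  have : Fact (Nat.Prime 2) := ⟨Nat.prime_two⟩
  have : Fact (Nat.Prime 3) := ⟨Nat.prime_three⟩
  set b := t ^ 2 * a * (t ^ 2)⁻¹ * a⁻¹ with hb
  have hbC : b ∈ cz t := mul_mem (mul_mem (mul_mem h.x_mem (hS ha)) (inv_mem h.x_mem)) (inv_mem (hS ha))
  have hbL : b ∈ L := mul_mem hxa (inv_mem haL)
  haveI : (Q.subgroupOf (cz t)).Normal := (normal_subgroupOf_iff_le_normalizer g.le).2 g.norm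
  set q := QuotientGroup.mk' (Q.subgroupOf (cz t)) with hq
  set X : cz t := ⟨t ^ 2, h.x_mem⟩
  set A : cz t := ⟨a, hS ha⟩
  have hy := h.over_hyp g.norm g.two h.x_mem g.z_mem fun p hp => mem_cz.1 (g.le hp)
  have hA2 : q A * q A = 1 := by
    rw [← map_mul]
    refine (QuotientGroup.eq_one_iff _).2 (mem_subgroupOf.2 ?_)
    exact mem_subgroupOf.1 (Subgroup.mul_self_mem_of_index_two (h.six_index g h6 S hS) ⟨a, ha⟩)
  have hA1 : q A ≠ 1 := fun e => haQ (mem_subgroupOf.1 ((QuotientGroup.eq_one_iff A).1 e))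
  -- the quotient is inverted by the outer element
  have hXA : q A * q X * (q A)⁻¹ = (q X)⁻¹ := by
    have hc : Nat.card (cz t ⧸ Q.subgroupOf (cz t)) = 6 := h6
    set P := zpowers (q X)
    have hPi : P.index = 2 := by
      have := P.card_mul_index
      rw [Nat.card_zpowers, hy.ord, hc] at this
      omega
    have := normal_of_index_eq_two hPi
    rcases hy.mem_three (this.conj_mem _ (mem_zpowers (q X)) (q A)) with e | e | e
    · exact absurd (conj_eq_one_iff.1 e) hy.ne_one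
    · exfalso
      rcases hy.mem_three (hy.cent _ (mul_inv_eq_iff_eq_mul.1 e)) with e1 | e1 | e1
      · exact hA1 e1
      · rw [e1, hy.mul_self] at hA2; exact hy.ne_one (inv_eq_one.1 hA2)
      · rw [e1, ← mul_inv_rev, hy.mul_self, inv_inv] at hA2; exact hy.ne_one hA2
    · exact e
  have hXb : q X = (q ⟨b, hbC⟩)⁻¹ := by
    rw [show (⟨b, hbC⟩ : cz t) = X * A * X⁻¹ * A⁻¹ from rfl, map_mul, map_mul, map_mul, map_inv, map_inv,
      show q X * q A * (q X)⁻¹ * (q A)⁻¹ = q X * (q A * q X * (q A)⁻¹)⁻¹ by group, hXA, inv_inv, hy.mul_self,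
      inv_inv]
  rw [← map_inv, hq, QuotientGroup.mk'_eq_mk'] at hXb
  obtain ⟨n, hn, e⟩ := hXb
  have e' : t ^ 2 * (n : G) = b⁻¹ := congrArg Subtype.val e
  rw [eq_mul_inv_of_mul_eq e']
  exact mul_mem (inv_mem hbL) (inv_mem (hQL (mem_subgroupOf.1 hn)))

end Hyp

end Cfsg.Lib.SelfCentSix
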