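import Cfsg.Agent.SelfCentSix.ShapeFacts
import Cfsg.Agent.GWDihedral.Main
import Cfsg.Agent.GWDihedral.Tops.Psl

/-!
Two-part of order two: a Sylow two-subgroup is a four-group and the group is `PSL(2, 11)` or `PSL(2, 13)`.
-/

set_option autoImplicit false
set_option linter.unusedSectionVars false
set_option linter.style.haveILetI false

namespace Cfsg.Lib.SelfCentSix

open Subgroup Matrix
open scoped Pointwise MatrixGroups

universe u

variable {G : Type u} [Group G] [Finite G] {t : G}

section Torus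

variable {F : Type} [Field F] [Fintype F]

local notation "P2" => Matrix.ProjectiveSpecialLinearGroup (Fin 2) F

open Cfsg.Lib.Classical in
theorem tA_comm {a b : P2} (ha : a ∈ (Cfsg.Lib.FourGW.tA : Subgroup P2))
    (hb : b ∈ (Cfsg.Lib.FourGW.tA : Subgroup P2)) : Commute a b := by
  obtain ⟨c, hc, rfl⟩ := ha
  obtain ⟨d, hd, rfl⟩ := hb
  obtain ⟨c1, c2⟩ := PSLFour.mem_C.1 hc
  obtain ⟨d1, d2⟩ := PSLFour.mem_C.1 hd
  refine congrArg (PSLFour.π (F := F)) (Subtype.ext ?_) |> fun e => by
    show _ * _ = _ * _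
    rw [← map_mul, ← map_mul]; exact e
  ext i j
  fin_cases i <;> fin_cases j <;>
    simp [Matrix.mul_apply, Fin.sum_univ_two, c1, c2, d1, d2] <;> ring

end Torus

namespace Hyp

variable (h : Hyp t) {R Q O : Subgroup G} (s : Shape t R) (p : Parts t R Q O)
include h s p

theorem card_cz : Nat.card (cz t) = R.relIndex (cz t) * (Nat.card Q * Nat.card O) := by
  rw [← relIndex_bot_left (cz t), ← relIndex_mul_relIndex ⊥ R (cz t) bot_le s.le, relIndex_bot_left,
    h.parts_card s p, mul_comm]

/-- A Sylow two-subgroup inside the centraliser contains a four-group. -/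
theorem four_dvd_cz : 4 ∣ Nat.card (cz t) := by
  have : Fact (Nat.Prime 2) := ⟨Nat.prime_two⟩
  obtain ⟨E, hE⟩ := h.exists_klein
  obtain ⟨S, hS⟩ := h.exists_sylow_le
  obtain ⟨T, hT⟩ := (IsPGroup.of_card (p := 2) (n := 2) (by rw [hE.card_four]; norm_num) :
    IsPGroup 2 E).exists_le_sylow
  have e1 : Nat.card (T : Subgroup G) = Nat.card (S : Subgroup G) := by
    rw [Sylow.card_eq_multiplicity, Sylow.card_eq_multiplicity]
  calc 4 = Nat.card E := hE.card_four.symm
    _ ∣ Nat.card (T : Subgroup G) := card_dvd_of_le hT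
    _ = Nat.card (S : Subgroup G) := e1
    _ ∣ Nat.card (cz t) := card_dvd_of_le hS

/-- Index three needs a larger two-part. -/
theorem no_three_two (h3 : R.relIndex (cz t) = 3) (h2 : Nat.card Q = 2) : False := by
  have hd := h.four_dvd_cz s p
  rw [h.card_cz s p, h3, h2] at hd
  have ho := Nat.odd_iff.1 p.odd
  omega

/-- Index three and a two-part with one involution contradict a second involution. -/
theorem no_three_quat (h3 : R.relIndex (cz t) = 3) (hu : ∀ q ∈ Q, q * q = 1 → q ∈ zpowers (t ^ 3)) : False := by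
  obtain ⟨u, huC, hu2, huz⟩ := h.exists_other
  have huu : u * u = 1 := by rw [← pow_two, ← hu2, pow_orderOf_eq_one]
  haveI := s.normal
  have hp := Subgroup.pow_index_mem (R.subgroupOf (cz t)) (⟨u, huC⟩ : cz t)
  rw [show (R.subgroupOf (cz t)).index = 3 from h3, mem_subgroupOf, Subgroup.coe_pow, pow_three, huu, mul_one] at hp
  rcases h.mem_zpowers_z.1 (hu u (h.eq_two_part s p hp (k := 1) (by rw [pow_one, pow_two, huu])) huu) with e | e
  · rw [e, orderOf_one] at hu2; omega
  · exact huz e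

/-- The two-part of order two in index six. -/
theorem psl_case (h6 : R.relIndex (cz t) = 6) (h2 : Nat.card Q = 2) :
    ∃ (F : Type) (_ : Field F) (_ : Fintype F), (Fintype.card F = 11 ∨ Fintype.card F = 13) ∧
      Nonempty (G ≃* Matrix.ProjectiveSpecialLinearGroup (Fin 2) F) := by
  classical
  have := h.simple
  have : Fact (Nat.Prime 2) := ⟨Nat.prime_two⟩
  have hcard : Nat.card (cz t) = 12 * Nat.card O := by rw [h.card_cz s p, h6, h2]; ring
  obtain ⟨S, hS⟩ := h.exists_sylow_le
  obtain ⟨E, hE⟩ := h.exists_klein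
  obtain ⟨T, hT⟩ := (IsPGroup.of_card (p := 2) (n := 2) (by rw [hE.card_four]; norm_num) :
    IsPGroup 2 E).exists_le_sylow
  have hT4 : Nat.card (T : Subgroup G) = 4 := by
    obtain ⟨n, hn⟩ := T.2.exists_card_eq
    have h1 : Nat.card (T : Subgroup G) ∣ 12 * Nat.card O := by
      rw [← hcard, show Nat.card (T : Subgroup G) = Nat.card (S : Subgroup G) by
        rw [Sylow.card_eq_multiplicity, Sylow.card_eq_multiplicity]]
      exact card_dvd_of_le hS
    rw [hn] at h1 ⊢
    have h2n : 2 ≤ n := by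
      have := (card_dvd_of_le hT)
      rw [hE.card_four, hn] at this
      exact (Nat.pow_dvd_pow_iff_le_right (by norm_num)).1 (show 2 ^ 2 ∣ 2 ^ n from this)
    by_contra hne
    have h3n : 3 ≤ n := by
      rcases (show n = 2 ∨ 3 ≤ n by omega) with rfl | hh
      · norm_num at hne
      · exact hh
    have h8 : 8 ∣ 12 * Nat.card O := (pow_dvd_pow 2 h3n).trans h1
    have ho := Nat.odd_iff.1 p.odd
    omega
  have hET : E = (T : Subgroup G) := eq_of_le_of_card_ge hT (by rw [hT4, hE.card_four])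
  haveI : IsKleinFour (T : Subgroup G) := hET ▸ hE
  obtain ⟨eT⟩ : Nonempty ((T : Subgroup G) ≃* DihedralGroup 2) := IsKleinFour.nonempty_mulEquiv
  rcases Cfsg.Lib.GWD.dihedralProp G T 2 le_rfl ⟨eT⟩ with ⟨F, i1, i2, hodd, h5, ⟨e⟩⟩ | ⟨⟨e⟩⟩
  swap
  · exfalso
    have h1 : Nat.card G = 2520 := by
      rw [Nat.card_congr e.toEquiv, nat_card_alternatingGroup, Nat.card_fin]; rfl
    obtain ⟨U, hU⟩ := Sylow.exists_subgroup_card_pow_prime 2 (G := G) (n := 3) (by rw [h1]; norm_num)
    obtain ⟨V, hV⟩ := (IsPGroup.of_card hU).exists_le_sylow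
    have h8 := card_dvd_of_le hV
    rw [hU, show Nat.card (V : Subgroup G) = Nat.card (T : Subgroup G) by
      rw [Sylow.card_eq_multiplicity, Sylow.card_eq_multiplicity], hT4] at h8
    norm_num at h8
  letI := i1
  letI := i2
  set z' := e (t ^ 3) with hz'
  have hz2 : orderOf z' = 2 := by rw [hz', MulEquiv.orderOf_eq, h.z_ord]
  have hcC : Nat.card (cz t) = Nat.card ↥(Cfsg.Lib.Classical.PSLFour.C (F := F)) := by
    rw [← Cfsg.Lib.GWD.card_cent_psl hodd hz2]
    refine Nat.card_congr (e.toEquiv.subtypeEquiv fun a => ?_)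
    show a ∈ cz t ↔ e a ∈ centralizer ({z'} : Set _)
    rw [mem_cz, mem_centralizer_singleton_iff, hz']
    constructor
    · intro ha; rw [← map_mul, ← map_mul, ha.eq]
    · intro ha; exact e.injective (by rw [map_mul, map_mul]; exact ha)
  have hO : O = ⊥ := (eq_bot_iff_forall _).2 fun o ho => by
    have hoR := p.ole ho
    have hodd' : Odd (orderOf o) := p.odd.of_dvd_nat (Subgroup.orderOf_dvd_natCard O ho)
    refine h.fix_x s hoR hodd' ?_
    obtain ⟨g, hg⟩ := isConj_iff.1
      (Cfsg.Lib.Classical.PSLFour.involutions_conj hodd _ _ hz2 (Cfsg.Lib.FourGW.orderOf_πJ hodd))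
    let f : G →* Matrix.ProjectiveSpecialLinearGroup (Fin 2) F := (MulAut.conj g).toMonoidHom.comp e.toMonoidHom
    have hfi : Function.Injective f := (MulAut.conj g).injective.comp e.injective
    have hfz : f (t ^ 3) = Cfsg.Lib.Classical.PSLFour.π Cfsg.Lib.Classical.PSLFour.J := hg
    have hmem : ∀ a ∈ cz t, Odd (orderOf a) → f a ∈ (Cfsg.Lib.FourGW.tA : Subgroup _) := by
      intro a ha hao
      have hC : f a ∈ centralizer ({Cfsg.Lib.Classical.PSLFour.π Cfsg.Lib.Classical.PSLFour.J} : Set _) :=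
        mem_centralizer_singleton_iff.2 (by rw [← hfz, ← map_mul, ← map_mul, (mem_cz.1 ha).eq])
      have hsq := Subgroup.mul_self_mem_of_index_two
        (show ((Cfsg.Lib.FourGW.tA : Subgroup _).subgroupOf _).index = 2 from Cfsg.Lib.FourGW.tA_relIndex hodd)
        (⟨f a, hC⟩ : centralizer ({Cfsg.Lib.Classical.PSLFour.π Cfsg.Lib.Classical.PSLFour.J} : Set _))
      rw [mem_subgroupOf, Subgroup.coe_mul] at hsq
      obtain ⟨m, hm⟩ := hao
      have e1 : f a = (f a * f a) ^ (m + 1) := by
        rw [← map_mul, ← map_pow]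
        congr 1
        rw [← pow_two, ← pow_mul, show 2 * (m + 1) = orderOf a + 1 by omega, pow_succ, pow_orderOf_eq_one, one_mul]
      rw [e1]
      exact pow_mem hsq _
    have hc := tA_comm (hmem _ h.x_mem (by rw [h.x_ord]; decide)) (hmem o (s.le hoR) hodd')
    exact hfi (by rw [map_mul, map_mul]; exact hc)
  rw [hcard, hO, card_bot, mul_one] at hcC
  refine ⟨F, i1, i2, ?_, ⟨e⟩⟩
  obtain ⟨h1, h3⟩ := Cfsg.Lib.Classical.PSLFour.card_C (F := F) hodd
  have hq := Nat.odd_iff.1 hodd
  rcases (show Fintype.card F % 4 = 1 ∨ Fintype.card F % 4 = 3 by omega) with e1 | e1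
  · have := h1 e1; omega
  · have := h3 e1; omega

end Hyp

end Cfsg.Lib.SelfCentSix
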