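import Cfsg.Agent.SelfCentSix.Shapes
import Cfsg.Agent.SelfCentSix.Local
import Cfsg.Agent.PGLCover.Two
import Cfsg.Agent.JComp.Basic

/-!
The large nilpotent normal subgroup of the centraliser is the product of its two-part and its odd part.
-/

set_option autoImplicit false
set_option linter.unusedSectionVars false
set_option linter.style.haveILetI false

namespace Cfsg.Lib.SelfCentSix

open Subgroup

universe u

variable {G : Type u} [Group G] [Finite G] {t : G}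

/-- The two parts of a shape. -/
structure Parts (t : G) (R Q O : Subgroup G) : Prop where
  fib : Fib t Q
  qle : Q ≤ R
  ole : O ≤ R
  odd : Odd (Nat.card O)
  onorm : cz t ≤ normalizer (O : Set G)
  comm : ∀ q ∈ Q, ∀ o ∈ O, Commute q o
  gen : ∀ r ∈ R, ∃ q ∈ Q, ∃ o ∈ O, r = q * o
  onil : Group.IsNilpotent O

namespace Hyp

variable (h : Hyp t)
include h

theorem parts {R : Subgroup G} (s : Shape t R) : ∃ Q O : Subgroup G, Parts t R Q O := by
  classical
  have : Fact (Nat.Prime 2) := ⟨Nat.prime_two⟩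
  haveI := s.nil
  obtain ⟨P⟩ : Nonempty (Sylow 2 R) := inferInstance
  have hsyl : ∀ (p : ℕ) (_hp : Fact p.Prime) (T : Sylow p R), (T : Subgroup R).Normal :=
    ((Group.isNilpotent_of_finite_tfae (G := R)).out 0 3).1 s.nil
  haveI hPn : (P : Subgroup R).Normal := hsyl 2 inferInstance P
  have hPmem : ∀ r : R, (∃ k : ℕ, r ^ 2 ^ k = 1) → r ∈ (P : Subgroup R) := by
    rintro r ⟨k, hk⟩
    obtain ⟨j, -, hj⟩ := (Nat.dvd_prime_pow Nat.prime_two).1 (orderOf_dvd_of_pow_eq_one hk)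
    obtain ⟨T, hT⟩ := (IsPGroup.of_card (p := 2) (n := j) (by rw [Nat.card_zpowers, hj]) :
      IsPGroup 2 (zpowers r)).exists_le_sylow
    haveI := Sylow.unique_of_normal P hPn
    rw [← Subsingleton.elim T P]
    exact hT (mem_zpowers r)
  obtain ⟨H, hH⟩ := exists_right_complement'_of_coprime (N := (P : Subgroup R)) P.card_coprime_index
  have hHi : Nat.card H = (P : Subgroup R).index := (hH.symm.index_eq_card).symm
  have hHodd : Odd (Nat.card H) := Nat.not_even_iff_odd.1 fun he => P.not_dvd_index (hHi ▸ he.two_dvd)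
  have hcomm : ∀ p ∈ (P : Subgroup R), ∀ a : R, Odd (orderOf a) → Commute p a := by
    intro p hp a ha
    refine Cfsg.Lib.PGLCover.commute_coprime' ?_
    obtain ⟨k, hk⟩ := P.2 ⟨p, hp⟩
    have hd : orderOf p ∣ 2 ^ k := orderOf_dvd_of_pow_eq_one (congrArg Subtype.val hk)
    exact Nat.Coprime.coprime_dvd_left hd ((Nat.coprime_two_left.2 ha).pow_left k)
  have hHmem : ∀ a ∈ H, Odd (orderOf a) := fun a ha => by
    rw [← Subgroup.orderOf_mk a ha]; exact hHodd.of_dvd_nat (orderOf_dvd_natCard _)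
  have hdec : ∀ r : R, ∃ p ∈ (P : Subgroup R), ∃ a ∈ H, r = p * a := fun r => by
    obtain ⟨⟨⟨p, hp⟩, ⟨a, ha⟩⟩, e⟩ := hH.2 r
    exact ⟨p, hp, a, ha, e.symm⟩
  have hodd : ∀ r : R, Odd (orderOf r) → r ∈ H := by
    intro r hr
    obtain ⟨p, hp, a, ha, rfl⟩ := hdec r
    have hc := hcomm p hp a (hHmem a ha)
    obtain ⟨k, hk⟩ := P.2 ⟨p, hp⟩
    have hk' : p ^ 2 ^ k = 1 := congrArg Subtype.val hk
    have h1 : orderOf p ∣ orderOf (p * a) * orderOf a := by
      refine orderOf_dvd_of_pow_eq_one ?_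
      have e : (p * a) ^ (orderOf (p * a) * orderOf a) = 1 := by rw [pow_mul, pow_orderOf_eq_one, one_pow]
      rwa [hc.mul_pow, mul_comm (orderOf (p * a)) (orderOf a), pow_mul a, pow_orderOf_eq_one, one_pow, mul_one,
        mul_comm (orderOf a)] at e
    have hp1 : p = 1 := orderOf_eq_one_iff.1 (Nat.eq_one_of_dvd_coprimes
      ((Nat.coprime_two_left.2 (hr.mul (hHmem a ha))).pow_left k) (orderOf_dvd_of_pow_eq_one hk') h1)
    rw [hp1, one_mul]; exact ha
  have hconj : ∀ c ∈ cz t, ∀ r : R, c * (r : G) * c⁻¹ ∈ R := fun c hc r => conj_mem (s.norm hc) r.2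
  have hord : ∀ c ∈ cz t, ∀ r : R, ∀ hm : c * (r : G) * c⁻¹ ∈ R, orderOf (⟨_, hm⟩ : R) = orderOf r :=
    fun c _ r hm => by
      rw [Subgroup.orderOf_mk, ← Subgroup.orderOf_coe]
      exact MulEquiv.orderOf_eq (MulAut.conj c) (r : G)
  have hzR : (⟨t ^ 3, s.z_mem⟩ : R) ∈ (P : Subgroup R) := hPmem _ ⟨1, Subtype.ext (by
    show (t ^ 3) ^ 2 ^ 1 = 1
    rw [pow_one, ← h.z_ord, pow_orderOf_eq_one])⟩
  refine ⟨(P : Subgroup R).map R.subtype, H.map R.subtype,
    ⟨P.2.map _, (map_subtype_le _).trans s.le, ?_, ⟨_, hzR, rfl⟩⟩, map_subtype_le _, map_subtype_le _,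
    by rw [card_map_of_injective R.subtype_injective]; exact hHodd, ?_, ?_, ?_, ?_⟩
  · refine JComp.le_normalizer_of_conj fun c hc x hx => ?_
    obtain ⟨r, hr, rfl⟩ := hx
    obtain ⟨k, hk⟩ := P.2 ⟨r, hr⟩
    refine ⟨⟨_, hconj c hc r⟩, hPmem _ ⟨k, ?_⟩, rfl⟩
    rw [← orderOf_dvd_iff_pow_eq_one, hord c hc r, orderOf_dvd_iff_pow_eq_one]
    exact congrArg Subtype.val hk
  · refine JComp.le_normalizer_of_conj fun c hc x hx => ?_
    obtain ⟨r, hr, rfl⟩ := hx
    exact ⟨⟨_, hconj c hc r⟩, hodd _ (by rw [hord c hc r]; exact hHmem r hr), rfl⟩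
  · rintro _ ⟨p, hp, rfl⟩ _ ⟨a, ha, rfl⟩
    exact congrArg Subtype.val (hcomm p hp a (hHmem a ha))
  · intro r hr
    obtain ⟨p, hp, a, ha, e⟩ := hdec ⟨r, hr⟩
    exact ⟨_, ⟨p, hp, rfl⟩, _, ⟨a, ha, rfl⟩, congrArg Subtype.val e⟩
  · exact Group.isNilpotent_congr (H.equivMapOfInjective _ R.subtype_injective) |>.1 inferInstance

end Hyp

end Cfsg.Lib.SelfCentSix
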